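import Cfsg.Agent.Lib.Lie.Chev.Bruhat
import Cfsg.Agent.Lib.Lie.Chev.ParabLevi
import Cfsg.Agent.Lib.Lie.Chev.SL2Root

/-!
# A class whose square is a Chevalley group: the data of a Levi subgroup
-/

set_option autoImplicit false

namespace CfsgLib.Lie.ClassSquare

open Cfsg.Lie CfsgLib.Lie.Chev
open scoped MatrixGroups

variable {D : ChevalleyDatum} {K : Type*} [Field K]

/-- the positive unipotents inside the subsystem -/
noncomputable def UJ (G : Good D) (J : Finset (Fin D.rank)) : Subgroup (GL D.Idx K) :=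
  Subgroup.closure {g | ∃ r t, (D.IsPosRoot (r : Fin D.nroots).val ∧ InJ G J r) ∧ g = G.xu r t}

/-- the negative unipotents inside the subsystem -/
noncomputable def VJ (G : Good D) (J : Finset (Fin D.rank)) : Subgroup (GL D.Idx K) :=
  Subgroup.closure {g | ∃ r t, (¬ D.IsPosRoot (r : Fin D.nroots).val ∧ InJ G J r) ∧ g = G.xu r t}

/-- the negative radical -/
noncomputable def VR (G : Good D) (J : Finset (Fin D.rank)) : Subgroup (GL D.Idx K) :=
  Subgroup.closure {g | ∃ r t, (¬ D.IsPosRoot (r : Fin D.nroots).val ∧ ¬ InJ G J r) ∧ g = G.xu r t}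

/-- A Levi subgroup `H L_J`, a torus element `t`, central in it and without fixed root outside `J`, and a
unipotent element `σ` of it such that, for one element `d` of `H`, each `v d u` with `v`, `u` lower and upper
unipotent in `L_J` is a product of two conjugates of `σ`; `t σ` is conjugate to its inverse. -/
structure LeviCov (C : Full D) (K : Type*) [Field K] where
  J : Finset (Fin D.rank)
  /-- the coordinates of `t` on the fundamental coroots -/
  c : Fin D.rank → Kˣ
  fixJ : ∀ r, InJ C.G J r → C.G.chi (fun l => ∏ i, c i ^ cart D i (C.G.simp' l)) (C.G.rho r) = 1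
  moved : ∀ r, ¬ InJ C.G J r → C.G.chi (fun l => ∏ i, c i ^ cart D i (C.G.simp' l)) (C.G.rho r) ≠ 1
  /-- a word sending the positive roots to negative ones and `J` to itself -/
  l0 : List (Fin D.rank)
  l0_neg : ∀ r : Fin D.nroots, D.IsPosRoot r.val → ¬ D.IsPosRoot (C.G.pw l0 r).val
  l0_J : ∀ r : Fin D.nroots, InJ C.G J r ↔ InJ C.G J (C.G.pw l0 r)
  σ : GL D.Idx K
  σ_mem : σ ∈ D.diagonalSubgroup K ⊔ LJ C.G J
  σ_pow : ∀ (p : ℕ) [Fact p.Prime] [CharP K p], ∃ k, σ ^ p ^ k = 1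
  d : GL D.Idx K
  d_mem : d ∈ D.diagonalSubgroup K
  cover : ∀ v ∈ (VJ C.G J : Subgroup (GL D.Idx K)), ∀ u ∈ (UJ C.G J : Subgroup (GL D.Idx K)),
    ∃ x ∈ D.diagonalSubgroup K ⊔ LJ C.G J, ∃ y ∈ D.diagonalSubgroup K ⊔ LJ C.G J,
      v * d * u = (x * σ * x⁻¹) * (y * σ * y⁻¹)
  real : ∃ n ∈ D.group K, n * (C.G.torθ c * σ) * n⁻¹ = (C.G.torθ c * σ)⁻¹

end CfsgLib.Lie.ClassSquare
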