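import Cfsg.Agent.Lib.Lie.ClassSquare.Radical

/-!
# Every element of a Chevalley group is conjugate into `V H U`
-/

set_option autoImplicit false

namespace CfsgLib.Lie.ClassSquare

open Cfsg.Lie CfsgLib.Lie.Chev
open scoped MatrixGroups
open CfsgLib.Lie.SL2Rel (Fam)

variable {D : ChevalleyDatum} {K : Type*} [Field K]

/-- `g` is conjugate under the group to an element of `V h U` -/
def InCell (D : ChevalleyDatum) (g h : GL D.Idx K) : Prop :=
  ∃ x ∈ D.group K, ∃ v ∈ D.negUnipotent K, ∃ u ∈ D.posUnipotent K, x * g * x⁻¹ = v * h * u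

theorem InCell.conj {g h y : GL D.Idx K} (hy : y ∈ D.group K) (hg : InCell D (y * g * y⁻¹) h) :
    InCell D g h := by
  obtain ⟨x, hx, v, hv, u, hu, e⟩ := hg
  exact ⟨x * y, mul_mem hx hy, v, hv, u, hu, by rw [← e]; group⟩

section good

variable (G : Good D)

/-- the homomorphism of a fundamental root -/
noncomputable def phi (i : Fin D.rank) : SL(2, K) →* GL D.Idx K :=
  (G.sl2Fam (G.simp' i)).hom (G.sl2Fam_mult _)

theorem phi_upper (i : Fin D.rank) (t : K) : phi G i (Fam.upper t) = G.xu (G.simp' i) t :=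
  (G.sl2Fam (G.simp' i)).hom_upper _ t

theorem phi_lower (i : Fin D.rank) (t : K) : phi G i (Fam.lower t) = G.xu (G.negr (G.simp' i)) t :=
  (G.sl2Fam (G.simp' i)).hom_lower _ t

/-- the diagonal element -/
def dia (c : Kˣ) : SL(2, K) := ⟨!![(c : K), 0; 0, ((c⁻¹ : Kˣ) : K)], by simp [Matrix.det_fin_two]⟩

theorem coe_dia (c : Kˣ) : (dia c).1 = !![(c : K), 0; 0, ((c⁻¹ : Kˣ) : K)] := rfl

theorem coe_up (t : K) : (Fam.upper t : SL(2, K)).1 = !![1, t; 0, 1] := rfl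

theorem coe_low (t : K) : (Fam.lower t : SL(2, K)).1 = !![1, 0; t, 1] := rfl

theorem phi_dia (i : Fin D.rank) (c : Kˣ) : phi G i (dia c) = G.hd (G.simp' i) c := by
  have e : dia c = Fam.upper (c : K) * Fam.lower (-(c : K)⁻¹) * Fam.upper (c : K) *
      (Fam.upper (-1) * Fam.lower (-(-1 : K)⁻¹) * Fam.upper (-1)) := by
    apply Subtype.ext
    simp only [CfsgLib.Lie.SL2Rel.val_mul', coe_up, coe_low, coe_dia]
    ext a b
    fin_cases a <;> fin_cases b <;> simp [Matrix.mul_apply, Fin.sum_univ_two, c.ne_zero]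
  rw [e]
  simp only [map_mul, phi_upper, phi_lower]
  exact G.hE_eq (G.simp' i) c

theorem phi_mem_group (i : Fin D.rank) (m : SL(2, K)) : phi G i m ∈ D.group K := by
  have h := (G.sl2Fam (G.simp' i)).hom_range (G.sl2Fam_mult (K := K) (G.simp' i))
  have : phi G i m ∈ Subgroup.closure (Set.range (G.sl2Fam (K := K) (G.simp' i)).x ∪
      Set.range (G.sl2Fam (K := K) (G.simp' i)).y) := h ▸ ⟨m, rfl⟩
  refine (Subgroup.closure_le _).2 ?_ this
  rintro y (⟨t, rfl⟩ | ⟨t, rfl⟩) <;> exact G.xu_mem _ t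

theorem phi_mem_levi (i : Fin D.rank) (m : SL(2, K)) :
    phi G i m ∈ (LJ G {i} : Subgroup (GL D.Idx K)) := by
  have h := (G.sl2Fam (G.simp' i)).hom_range (G.sl2Fam_mult (K := K) (G.simp' i))
  have : phi G i m ∈ Subgroup.closure (Set.range (G.sl2Fam (K := K) (G.simp' i)).x ∪
      Set.range (G.sl2Fam (K := K) (G.simp' i)).y) := h ▸ ⟨m, rfl⟩
  refine (Subgroup.closure_le _).2 ?_ this
  have hJ : InJ G {i} (G.simp' i) := fun m hm => by
    rw [G.rho_simp, Pi.single_eq_of_ne (by simpa using hm)]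
  rintro y (⟨t, rfl⟩ | ⟨t, rfl⟩)
  · exact Subgroup.subset_closure ⟨_, t, hJ, rfl⟩
  · exact Subgroup.subset_closure ⟨_, t, fun m hm => by rw [G.rho_negr, Pi.neg_apply, hJ m hm, neg_zero], rfl⟩

theorem phi_weyl (i : Fin D.rank) :
    G.nU i = phi (K := K) G i (Fam.upper 1 * Fam.lower (-1) * Fam.upper 1) := by
  simp only [map_mul, phi_upper, phi_lower]; rfl

/-- an upper unipotent element through the big cell of the lower one -/
theorem xu_eq_lower_weyl (i : Fin D.rank) (s : Kˣ) :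
    G.xu (G.simp' i) (s : K) = G.xu (G.negr (G.simp' i)) (s : K)⁻¹ * G.hd (G.simp' i) s * G.nU i *
      G.xu (G.negr (G.simp' i)) (s : K)⁻¹ := by
  rw [← phi_upper, ← phi_lower, ← phi_dia, phi_weyl, ← map_mul, ← map_mul, ← map_mul]
  refine congrArg _ (Subtype.ext ?_)
  simp only [CfsgLib.Lie.SL2Rel.val_mul', coe_up, coe_low, coe_dia]
  ext a b
  fin_cases a <;> fin_cases b <;> simp [Matrix.mul_apply, Fin.sum_univ_two, s.ne_zero]

theorem upper_mul_lower (i : Fin D.rank) (s a : K) (c : Kˣ) (hc : (c : K) = 1 + a * s) :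
    G.xu (G.simp' i) s * G.xu (G.negr (G.simp' i)) a =
      G.xu (G.negr (G.simp' i)) (a / c) * G.hd (G.simp' i) c * G.xu (G.simp' i) (s / c) := by
  rw [← phi_upper, ← phi_lower, ← phi_lower, ← phi_upper, ← phi_dia, ← map_mul, ← map_mul, ← map_mul]
  refine congrArg _ (Subtype.ext ?_)
  have hne : (c : K) ≠ 0 := c.ne_zero
  simp only [CfsgLib.Lie.SL2Rel.val_mul', coe_up, coe_low, coe_dia]
  ext x y
  fin_cases x <;> fin_cases y <;> simp [Matrix.mul_apply, Fin.sum_univ_two, hne] <;>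
    field_simp <;> first | linear_combination hc | linear_combination -hc | linear_combination a * hc | linear_combination -a * hc

theorem exists_scalar (hq : ∀ a : K, ∃ s : K, s ≠ 0 ∧ 1 + a * s ≠ 0) (a : K) :
    ∃ (s : K) (c : Kˣ), s ≠ 0 ∧ (c : K) = 1 + a * s := by
  obtain ⟨s, h1, h2⟩ := hq a
  exact ⟨s, Units.mk0 _ h2, h1, rfl⟩

end good

theorem exists_ne_scalar [Fintype K] (hq : 2 < Fintype.card K) (a : K) : ∃ s : K, s ≠ 0 ∧ 1 + a * s ≠ 0 := by
  classical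
  obtain ⟨s, -, hs⟩ := Finset.exists_mem_notMem_of_card_lt_card
    (s := ({0, -a⁻¹} : Finset K)) (t := Finset.univ)
    (lt_of_le_of_lt Finset.card_le_two (by rw [Finset.card_univ]; omega))
  simp only [Finset.mem_insert, Finset.mem_singleton, not_or] at hs
  refine ⟨s, hs.1, fun h => ?_⟩
  rcases eq_or_ne a 0 with rfl | ha
  · simp at h
  · exact hs.2 (by field_simp; linear_combination h)

section full

variable (C : Full D)

/-- one step down in the length of the middle element -/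
theorem shorter (hq : ∀ a : K, ∃ s : K, s ≠ 0 ∧ 1 + a * s ≠ 0) {v n u : GL D.Idx K}
    (hv : v ∈ D.negUnipotent K) (hn : n ∈ D.monomialSubgroup K) (hu : u ∈ D.posUnipotent K)
    {l : List (Fin D.rank)} (hl : C.G.NPerm n (C.G.pw l)) {i : Fin D.rank}
    (hi : ¬ D.IsPosRoot (C.G.pw l.reverse (C.G.simp' i)).val) :
    ∃ x ∈ D.group K, ∃ v' ∈ D.negUnipotent K, ∃ n' ∈ D.monomialSubgroup K, ∃ u' ∈ D.posUnipotent K,
      ∃ l' : List (Fin D.rank), l'.length < l.length ∧ C.G.NPerm n' (C.G.pw l') ∧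
        x * (v * n * u) * x⁻¹ = v' * n' * u' := by
  obtain ⟨v₁, hv₁, v₂, hv₂, rfl⟩ := exists_VR_VJ C (J := {i}) hv
  obtain ⟨a, rfl⟩ := VJ_single C.G hv₂
  obtain ⟨s, c, hs, hc⟩ := exists_scalar hq a
  set p := C.G.simp' i with hp
  set x : GL D.Idx K := C.G.xu p s with hx
  have hxL : x ∈ D.diagonalSubgroup K ⊔ LJ C.G ({i} : Finset (Fin D.rank)) :=
    Subgroup.mem_sup_right (by rw [hx, hp, ← phi_upper]; exact phi_mem_levi C.G i _)
  have hxv : x * v₁ * x⁻¹ ∈ D.negUnipotent K :=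
    VR_le_V C.G ((Subgroup.mem_normalizer_iff.1 (levi_normalizes_VR C hxL) v₁).1 hv₁)
  have hs' : s / (c : K) ≠ 0 := div_ne_zero hs c.ne_zero
  set w : Kˣ := Units.mk0 _ hs' with hw
  -- the roots moved by the middle element
  obtain ⟨d, hd'⟩ := Good.NPerm.inv C.G hl (C.G.negr p)
  simp only [inv_inv] at hd'
  have hβ : D.IsPosRoot (((C.G.pw l)⁻¹ : Equiv.Perm _) (C.G.negr p)).val := by
    rw [← C.G.pw_reverse, C.G.pw_negr, C.G.negr_pos_iff]
    exact hi
  have hlow : ∀ (h : GL D.Idx K), h ∈ D.diagonalSubgroup K → ∀ b : K,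
      h * C.G.xu (C.G.negr p) b * h⁻¹ ∈ D.negUnipotent K := by
    intro h hh b
    refine (Subgroup.mem_normalizer_iff.1 (C.G.H_normalizes_V hh) _).1 (C.G.xu_mem_V ?_ b)
    exact (C.G.isNegRoot_iff_not_pos _).2 (C.G.negr_simp_not_pos i)
  obtain ⟨l₁, j, l₂, hl12, hperm, -⟩ := C.G.delete_right hi
  refine ⟨x, C.G.xu_mem _ _,
    x * v₁ * x⁻¹ * C.G.xu (C.G.negr p) (a / c) *
      (C.G.hd p c * C.G.xu (C.G.negr p) (w : K)⁻¹ * (C.G.hd p c)⁻¹),
    mul_mem (mul_mem hxv (C.G.xu_mem_V ((C.G.isNegRoot_iff_not_pos _).2 (C.G.negr_simp_not_pos i)) _))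
      (hlow _ (C.G.hd_mem_H _ _) _),
    C.G.hd p c * C.G.hd p w * C.G.nU i * n,
    mul_mem (mul_mem (mul_mem (C.G.H_le_monomial (C.G.hd_mem_H _ _)) (C.G.H_le_monomial (C.G.hd_mem_H _ _)))
      (C.G.nU_mem_monomial i)) hn,
    C.G.xu (((C.G.pw l)⁻¹ : Equiv.Perm _) (C.G.negr p)) ((d : K) * (w : K)⁻¹) * u * x⁻¹,
    mul_mem (mul_mem (C.G.xu_mem_U hβ _) hu) (inv_mem (C.G.xu_mem_U (C.G.simp_pos i) _)),
    (l₁ ++ l₂).reverse, ?_, ?_, ?_⟩
  · rw [← List.length_reverse (as := l), hl12, List.length_reverse]; simp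
  · have h1 := Good.NPerm.mul C.G (Good.NPerm.mul C.G (Good.NPerm.mul C.G (C.G.nPerm_H (C.G.hd_mem_H p c))
      (C.G.nPerm_H (C.G.hd_mem_H p w))) (C.G.nPerm_nU (K := K) i)) hl
    have e : C.G.pw (l₁ ++ l₂).reverse = 1 * 1 * C.G.sP i * C.G.pw l := by
      rw [one_mul, one_mul, C.G.pw_reverse, ← hperm, mul_inv_rev, C.G.sP_inv, C.G.pw_reverse, inv_inv]
    rw [e]; exact h1
  · have e1 : x * C.G.xu (C.G.negr p) a =
        C.G.xu (C.G.negr p) (a / c) * C.G.hd p c * C.G.xu p (s / c) := upper_mul_lower C.G i s a c hc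
    have e2 : C.G.xu p (s / c) =
        C.G.xu (C.G.negr p) (w : K)⁻¹ * C.G.hd p w * C.G.nU i * C.G.xu (C.G.negr p) (w : K)⁻¹ :=
      xu_eq_lower_weyl C.G i w
    rw [← hd' ((w : K)⁻¹)]
    calc x * (v₁ * C.G.xu (C.G.negr p) a * n * u) * x⁻¹
        = x * v₁ * x⁻¹ * (x * C.G.xu (C.G.negr p) a) * n * u * x⁻¹ := by group
      _ = _ := by rw [e1, e2]; group

include C in
/-- every element is conjugate into the big cell -/
theorem exists_inCell (hq : ∀ a : K, ∃ s : K, s ≠ 0 ∧ 1 + a * s ≠ 0) {g : GL D.Idx K} (hg : g ∈ D.group K) :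
    ∃ h ∈ D.diagonalSubgroup K, InCell D g h := by
  have main : ∀ (k : ℕ) (v n u : GL D.Idx K) (l : List (Fin D.rank)), v ∈ D.negUnipotent K →
      n ∈ D.monomialSubgroup K → u ∈ D.posUnipotent K → l.length = k → C.G.NPerm n (C.G.pw l) →
      ∃ h ∈ D.diagonalSubgroup K, InCell D (v * n * u) h := by
    intro k
    induction k using Nat.strong_induction_on with
    | _ k ih =>
      intro v n u l hv hn hu hk hl
      by_cases hpos : ∀ j, D.IsPosRoot (C.G.pw l.reverse (C.G.simp' j)).val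
      · have h1 : C.G.pw l = 1 := by
          have := C.G.pw_eq_one_of_pos _ l.reverse rfl hpos
          rwa [C.G.pw_reverse, inv_eq_one] at this
        exact ⟨n, C.G.mem_H_of_nPerm_one hn (h1 ▸ hl), 1, one_mem _, v, hv, u, hu, by group⟩
      · simp only [not_forall] at hpos
        obtain ⟨i, hi⟩ := hpos
        obtain ⟨x, hx, v', hv', n', hn', u', hu', l', hlen, hl', e⟩ := shorter C hq hv hn hu hl hi
        obtain ⟨h, hh, hc⟩ := ih l'.length (hk ▸ hlen) v' n' u' l' hv' hn' hu' rfl hl'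
        exact ⟨h, hh, InCell.conj hx (e ▸ hc)⟩
  obtain ⟨l0, hl0⟩ := C.G.exists_longest
  set n0 : GL D.Idx K := C.G.nw l0 with hn0
  have hn0g : n0 ∈ D.group K := C.G.monomial_le_group (C.G.nw_mem_monomial l0)
  obtain ⟨b, hb, n, hn, π, -, u, hu, e⟩ := C.refined_exists (mul_mem hn0g hg)
  obtain ⟨v, hv, h, hh, rfl⟩ := C.G.mem_borel_iff.1 hb
  have hneg : n0⁻¹ * v * n0 ∈ D.negUnipotent K := by
    clear hb e
    rw [C.G.posUnipotent_eq_closure] at hv
    induction hv using Subgroup.closure_induction with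
    | mem y hy =>
      obtain ⟨r, t, hr, rfl⟩ := hy
      obtain ⟨c, hc⟩ := Good.NPerm.inv C.G (C.G.nPerm_nw (K := K) l0) r
      simp only [inv_inv] at hc
      rw [hc]
      refine C.G.xu_mem_V ((C.G.isNegRoot_iff_not_pos _).2 fun hp => ?_) _
      have := hl0 _ hp
      rw [Equiv.Perm.inv_def, Equiv.apply_symm_apply] at this
      exact this hr
    | one => simp
    | mul a b _ _ ha hb =>
      rw [show n0⁻¹ * (a * b) * n0 = (n0⁻¹ * a * n0) * (n0⁻¹ * b * n0) by group]; exact mul_mem ha hb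
    | inv a _ ha => rw [show n0⁻¹ * a⁻¹ * n0 = (n0⁻¹ * a * n0)⁻¹ by group]; exact inv_mem ha
  have hm : n0⁻¹ * h * n ∈ D.monomialSubgroup K :=
    mul_mem (mul_mem (inv_mem (C.G.nw_mem_monomial l0)) (C.G.H_le_monomial hh)) hn
  obtain ⟨l, hl⟩ := C.G.exists_nPerm hm
  have eg : g = (n0⁻¹ * v * n0) * (n0⁻¹ * h * n) * u := by
    calc g = n0⁻¹ * (n0 * g) := by group
      _ = _ := by rw [e]; group
  obtain ⟨h', hh', hc⟩ := main _ _ _ _ l hneg hm (C.G.Uinv_le π hu) rfl hl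
  exact ⟨h', hh', eg ▸ hc⟩

end full

end CfsgLib.Lie.ClassSquare
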