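import Cfsg.Agent.Lib.Lie.ClassSquare.Reach
import Cfsg.Agent.Lib.Lie.Chev.PerfectData

/-!
# The diagrams of the exceptional groups, with a leaf order
-/

set_option autoImplicit false

namespace CfsgLib.Lie.ClassSquare

open Cfsg.Lie CfsgLib.Lie.Chev

/-- the leaf-order test -/
def leafOrderB (D : ChevalleyDatum) : List (Fin D.rank) → Bool
  | [] => true
  | [_] => true
  | i :: R => !(R.contains i) &&
      (R.any fun k => R.all fun j => decide (j = k) || (decide (cmat D i j = 0) && decide (cmat D j i = 0))) &&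
      leafOrderB D R

theorem leafOrder_of_bool {D : ChevalleyDatum} : ∀ (o : List (Fin D.rank)), leafOrderB D o = true → LeafOrder D o
  | [], _ => trivial
  | [_], _ => trivial
  | i :: a :: R, h => by
    simp only [leafOrderB, Bool.and_eq_true, Bool.not_eq_true', List.any_eq_true, List.all_eq_true,
      Bool.or_eq_true, decide_eq_true_eq] at h
    obtain ⟨⟨h1, k, hk, h2⟩, h3⟩ := h
    exact ⟨fun hm => by simp at h1; exact h1.2 ((List.mem_cons.1 hm).resolve_left h1.1),
      ⟨k, hk, fun j hj hjk => (h2 j hj).resolve_left hjk⟩, leafOrder_of_bool (a :: R) h3⟩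

theorem diagramOK_G2 : DiagramOK chevG2 where
  conn := connectedG2
  row := by decide +kernel
  order := ⟨[⟨0, by decide +kernel⟩, ⟨1, by decide +kernel⟩], by decide +kernel,
    leafOrder_of_bool _ (by decide +kernel)⟩

theorem diagramOK_F4 : DiagramOK chevF4 where
  conn := connectedF4
  row := by decide +kernel
  order := ⟨[⟨0, by decide +kernel⟩, ⟨1, by decide +kernel⟩, ⟨2, by decide +kernel⟩, ⟨3, by decide +kernel⟩],
    by decide +kernel, leafOrder_of_bool _ (by decide +kernel)⟩

theorem diagramOK_E6 : DiagramOK chevE6 where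
  conn := connectedE6
  row := by decide +kernel
  order := ⟨[⟨0, by decide +kernel⟩, ⟨2, by decide +kernel⟩, ⟨1, by decide +kernel⟩, ⟨5, by decide +kernel⟩,
    ⟨4, by decide +kernel⟩, ⟨3, by decide +kernel⟩], by decide +kernel, leafOrder_of_bool _ (by decide +kernel)⟩

theorem diagramOK_E7 : DiagramOK chevE7 where
  conn := connectedE7
  row := by decide +kernel
  order := ⟨[⟨0, by decide +kernel⟩, ⟨2, by decide +kernel⟩, ⟨1, by decide +kernel⟩, ⟨6, by decide +kernel⟩,
    ⟨5, by decide +kernel⟩, ⟨4, by decide +kernel⟩, ⟨3, by decide +kernel⟩], by decide +kernel,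
    leafOrder_of_bool _ (by decide +kernel)⟩

theorem diagramOK_E8 : DiagramOK chevE8 where
  conn := connectedE8
  row := by decide +kernel
  order := ⟨[⟨0, by decide +kernel⟩, ⟨2, by decide +kernel⟩, ⟨1, by decide +kernel⟩, ⟨7, by decide +kernel⟩,
    ⟨6, by decide +kernel⟩, ⟨5, by decide +kernel⟩, ⟨4, by decide +kernel⟩, ⟨3, by decide +kernel⟩],
    by decide +kernel, leafOrder_of_bool _ (by decide +kernel)⟩

end CfsgLib.Lie.ClassSquare
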