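import Cfsg.Agent.Lib.Lie.ClassSquare.Reach

/-!
# The class of `t σ` squared is the whole Chevalley group
-/

set_option autoImplicit false

namespace CfsgLib.Lie.ClassSquare

open Cfsg.Lie CfsgLib.Lie.Chev
open scoped MatrixGroups

variable {D : ChevalleyDatum} {K : Type*} [Field K]

/-- a coset of a finite subgroup normalised by `a` and meeting its centraliser trivially is one class -/
theorem exists_conj_left {G : Type*} [Group G] {N : Subgroup G} [Finite N] {a : G}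
    (ha : ∀ w ∈ N, a * w * a⁻¹ ∈ N) (hC : ∀ w ∈ N, w * a = a * w → w = 1) {n : G} (hn : n ∈ N) :
    ∃ w ∈ N, w * a * w⁻¹ = n * a := by
  let f : N → N := fun w => ⟨(w : G) * (a * (w : G)⁻¹ * a⁻¹), mul_mem w.2 (ha _ (inv_mem w.2))⟩
  have hf : Function.Injective f := by
    intro w w' h
    have e : (w : G) * (a * (w : G)⁻¹ * a⁻¹) = (w' : G) * (a * (w' : G)⁻¹ * a⁻¹) := congrArg Subtype.val h
    have h1 : (w' : G)⁻¹ * w * a = a * ((w' : G)⁻¹ * w) := by
      calc (w' : G)⁻¹ * w * a = (w' : G)⁻¹ * ((w : G) * (a * (w : G)⁻¹ * a⁻¹)) * a * w := by group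
        _ = _ := by rw [e]; group
    have h2 := hC _ (mul_mem (inv_mem w'.2) w.2) h1
    rw [inv_mul_eq_one] at h2
    exact Subtype.ext h2.symm
  obtain ⟨w, hw⟩ := (Finite.injective_iff_surjective.1 hf) ⟨n, hn⟩
  refine ⟨w, w.2, ?_⟩
  have e : (w : G) * (a * (w : G)⁻¹ * a⁻¹) = n := congrArg Subtype.val hw
  rw [← e]; group

/-- the same on the other side -/
theorem exists_conj_right {G : Type*} [Group G] {N : Subgroup G} [Finite N] {a : G}
    (ha : ∀ w ∈ N, a * w * a⁻¹ ∈ N) (hC : ∀ w ∈ N, w * a = a * w → w = 1) {n : G} (hn : n ∈ N) :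
    ∃ w ∈ N, w * a * w⁻¹ = a * n := by
  obtain ⟨w, hw, e⟩ := exists_conj_left ha hC (ha n hn)
  exact ⟨w, hw, by rw [e]; group⟩

section full

variable (C : Full D)

theorem chi_al_pow (c : Fin D.rank → Kˣ) (m : ℕ) (v : Fin D.rank → ℤ) :
    C.G.chi (al C.G (c ^ m)) v = C.G.chi (al C.G c) v ^ m := by
  have e : al C.G (c ^ m) = al C.G c ^ m := funext fun l => by
    simp only [al, Pi.pow_apply, ← Finset.prod_pow]
    exact Finset.prod_congr rfl fun i _ => by rw [← zpow_natCast, ← zpow_mul, ← zpow_natCast, ← zpow_mul, mul_comm]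
  simp only [e, Good.chi, Pi.pow_apply, ← Finset.prod_pow]
  exact Finset.prod_congr rfl fun i _ => by rw [← zpow_natCast, ← zpow_mul, ← zpow_natCast, ← zpow_mul, mul_comm]

/-- an element of the radical centralised by a torus element without fixed root outside `J` is trivial -/
theorem eq_one_of_commute_tor {J : Finset (Fin D.rank)} {d : Fin D.rank → Kˣ}
    (hd : ∀ r, ¬ InJ C.G J r → C.G.chi d (C.G.rho r) ≠ 1) {w : GL D.Idx K}
    (hw : w ∈ (UR C.G J : Subgroup (GL D.Idx K))) (h : C.G.tor d * w * (C.G.tor d)⁻¹ = w) : w = 1 := by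
  classical
  have hwU := C.G.UR_le_U hw
  rw [C.G.posUnipotent_eq] at hwU
  obtain ⟨t, ht⟩ := C.exists_uprod D.nroots 0 (Nat.zero_add _) w hwU
  have hconj : C.G.tor d * C.uprod 0 t * (C.G.tor d)⁻¹ =
      C.uprod 0 fun r => (C.G.chi d (C.G.rho r) : K) * t r := by
    simp only [Full.uprod]
    rw [show ∀ x : GL D.Idx K, C.G.tor d * x * (C.G.tor d)⁻¹ = MulAut.conj (C.G.tor d) x from fun x => rfl,
      map_list_prod, List.map_map]
    refine congrArg List.prod (List.map_congr_left fun r _ => ?_)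
    exact C.G.tor_conj_xu d r (t r)
  rw [ht, hconj] at h
  have hz : ∀ r : Fin D.nroots, D.IsPosRoot r.val → ¬ InJ C.G J r → t r = 0 := by
    intro r hr hJ
    have e := C.uprod_inj D.nroots 0 (Nat.zero_add _) _ _ h r (Nat.zero_le _) hr
    have : ((C.G.chi d (C.G.rho r) : K) - 1) * t r = 0 := by linear_combination e
    rcases mul_eq_zero.1 this with h1 | h1
    · exact absurd (Units.ext (sub_eq_zero.1 h1)) (hd r hJ)
    · exact h1
  have hwJ : w ∈ (UJ C.G J : Subgroup (GL D.Idx K)) :=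
    ht ▸ C.uprod_mem_closure (fun r => InJ C.G J r) t hz
  exact C.G.eq_one_of_UR_graded hw (C.G.gradedJ_LJ (UJ_le_LJ C.G hwJ))

variable [Fintype K]

/-- the square of the class of `t σ` is everything -/
theorem exists_class_square (L : LeviCov C K) (hD : DiagramOK D) (h9 : 9 ≤ Fintype.card K) :
    ∃ c : ↥(D.group K), ∀ g, ∃ x y : ↥(D.group K), g = (x * c * x⁻¹) * (y * c * y⁻¹) := by
  classical
  obtain ⟨J, cc, fixJ, moved, l0, l0_neg, l0_J, σ, σ_mem, σ_pow, d, d_mem, cover, real⟩ := L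
  set M := D.diagonalSubgroup K ⊔ (LJ C.G J : Subgroup (GL D.Idx K)) with hM
  set t : GL D.Idx K := C.G.torθ cc with ht
  have htH : t ∈ D.diagonalSubgroup K := torθ_mem C.G cc
  have hcent : ∀ m ∈ M, t * m = m * t := by
    intro m hm
    have hle : M ≤ Subgroup.centralizer {t} := by
      refine sup_le (fun h hh => Subgroup.mem_centralizer_singleton_iff.2 (C.G.diagonal_comm hh htH)) ?_
      rw [LJ, Subgroup.closure_le]
      rintro g ⟨r, s, hr, rfl⟩
      refine Subgroup.mem_centralizer_singleton_iff.2 ?_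
      rw [ht, torθ_eq, C.G.tor_xu, show C.G.chi (al C.G cc) (C.G.rho r) = 1 from fixJ r hr]
      simp
    exact ((Subgroup.mem_centralizer_singleton_iff.1 (hle hm))).symm
  obtain ⟨p, hp⟩ := CharP.exists K
  haveI : Fact p.Prime := ⟨CharP.char_is_prime K p⟩
  obtain ⟨k, hk⟩ := σ_pow p
  have hpow : (t * σ) ^ p ^ k = t ^ p ^ k := by
    rw [(show Commute t σ from hcent σ σ_mem).mul_pow, hk, mul_one]
  have moved' : ∀ r, ¬ InJ C.G J r → C.G.chi (al C.G (cc ^ p ^ k)) (C.G.rho r) ≠ 1 := by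
    intro r hr h
    rw [chi_al_pow] at h
    refine moved r hr (Units.ext ?_)
    have h' : ((C.G.chi (al C.G cc) (C.G.rho r) : Kˣ) : K) ^ p ^ k = 1 := by
      rw [← Units.val_pow_eq_pow_val, h, Units.val_one]
    have h2 : (((C.G.chi (al C.G cc) (C.G.rho r) : Kˣ) : K) - 1) ^ p ^ k = 0 := by
      rw [sub_pow_char_pow, one_pow, h', sub_self]
    exact sub_eq_zero.1 (pow_eq_zero_iff (pow_ne_zero _ (Fact.out : p.Prime).ne_zero) |>.1 h2)
  -- the centraliser of `t σ` in the radical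
  have cU : ∀ w ∈ (UR C.G J : Subgroup (GL D.Idx K)), w * (t * σ) = t * σ * w → w = 1 := by
    intro w hw hc
    have h1 : Commute w ((t * σ) ^ p ^ k) := (show Commute w (t * σ) from hc).pow_right _
    rw [hpow, ht, ← map_pow, torθ_eq] at h1
    exact eq_one_of_commute_tor C moved' hw (by rw [mul_inv_eq_iff_eq_mul]; exact h1.eq.symm)
  set n0 : GL D.Idx K := C.G.nw l0 with hn0
  have cV : ∀ w ∈ (VR C.G J : Subgroup (GL D.Idx K)), w * (t * σ) = t * σ * w → w = 1 := by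
    intro w hw hc
    have h1 : Commute w ((t * σ) ^ p ^ k) := (show Commute w (t * σ) from hc).pow_right _
    rw [hpow] at h1
    have hT : n0 * t ^ p ^ k * n0⁻¹ ∈ D.diagonalSubgroup K :=
      (Subgroup.mem_normalizer_iff.1 (C.G.monomial_le_normalizer (C.G.nw_mem_monomial l0)) _).1 (pow_mem htH _)
    obtain ⟨d', hd'⟩ := C.G.exists_tor hT
    have hw' : n0 * w * n0⁻¹ ∈ (UR C.G J : Subgroup (GL D.Idx K)) := by
      clear h1 hc
      induction hw using Subgroup.closure_induction with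
      | mem y hy =>
        obtain ⟨r, s, ⟨hr, hrJ⟩, rfl⟩ := hy
        obtain ⟨e, he⟩ := C.G.nPerm_nw (K := K) l0 r
        rw [he]
        refine Subgroup.subset_closure ⟨_, _, ⟨?_, fun h => hrJ ((l0_J r).2 h)⟩, rfl⟩
        have := l0_neg _ ((C.G.negr_pos_iff r).2 hr)
        rwa [C.G.pw_negr, C.G.negr_pos_iff, not_not] at this
      | one => simp
      | mul a b _ _ ha hb =>
        rw [show n0 * (a * b) * n0⁻¹ = (n0 * a * n0⁻¹) * (n0 * b * n0⁻¹) by group]; exact mul_mem ha hb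
      | inv a _ ha => rw [show n0 * a⁻¹ * n0⁻¹ = (n0 * a * n0⁻¹)⁻¹ by group]; exact inv_mem ha
    have hmoved : ∀ r, ¬ InJ C.G J r → C.G.chi d' (C.G.rho r) ≠ 1 := by
      intro r hr h
      set r₀ := ((C.G.pw l0)⁻¹ : Equiv.Perm _) r with hr₀
      have hpr : C.G.pw l0 r₀ = r := (C.G.pw l0).apply_symm_apply r
      have hr₀J : ¬ InJ C.G J r₀ := fun h' => hr (hpr ▸ (l0_J r₀).1 h')
      obtain ⟨e, he⟩ := C.G.nPerm_nw (K := K) l0 r₀
      rw [hpr] at he
      have e1 : C.G.tor d' * C.G.xu r (e : K) * (C.G.tor d')⁻¹ = C.G.xu r (e : K) := by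
        rw [C.G.tor_conj_xu, h]; simp
      rw [← hd', show C.G.xu r (e : K) = n0 * C.G.xu r₀ 1 * n0⁻¹ by rw [hn0, he, mul_one],
        show ∀ a b : GL D.Idx K, n0 * a * n0⁻¹ * (n0 * b * n0⁻¹) * (n0 * a * n0⁻¹)⁻¹ =
          n0 * (a * b * a⁻¹) * n0⁻¹ from fun a b => by group] at e1
      have e2 := mul_left_cancel (mul_right_cancel e1)
      rw [ht, ← map_pow, torθ_eq, C.G.tor_conj_xu] at e2
      have e3 : C.G.xu r₀ ((C.G.chi (al C.G (cc ^ p ^ k)) (C.G.rho r₀) : K) * 1 + -1) = 1 := by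
        rw [C.G.xu_add, e2, ← C.G.xu_add, add_neg_cancel, C.G.xu_zero]
      rw [C.G.xu_eq_one_iff] at e3
      exact moved' r₀ hr₀J (Units.ext (by simpa [add_neg_eq_zero] using e3))
    have h2 := eq_one_of_commute_tor C hmoved hw' (by
      rw [← hd', show ∀ a b : GL D.Idx K, n0 * a * n0⁻¹ * (n0 * b * n0⁻¹) * (n0 * a * n0⁻¹)⁻¹ =
          n0 * (a * b * a⁻¹) * n0⁻¹ from fun a b => by group, ← h1.eq, mul_inv_cancel_right])
    rw [mul_inv_eq_one] at h2
    exact mul_left_cancel (h2.trans (mul_one n0).symm)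
  have htσ : t * σ ∈ M := mul_mem (Subgroup.mem_sup_left htH) σ_mem
  -- conjugates of `t σ` by elements of the Levi subgroup, times a radical
  have key : ∀ (N : Subgroup (GL D.Idx K)), M ≤ Subgroup.normalizer (N : Set (GL D.Idx K)) → N ≤ D.group K →
      (∀ w ∈ N, w * (t * σ) = t * σ * w → w = 1) → ∀ x ∈ M, ∀ n ∈ N,
      (∃ z ∈ D.group K, z * (t * σ) * z⁻¹ = n * (x * (t * σ) * x⁻¹)) ∧
      (∃ z ∈ D.group K, z * (t * σ) * z⁻¹ = x * (t * σ) * x⁻¹ * n) := by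
    intro N hN hNg hC x hx n hn
    have ha : ∀ w ∈ N, x * (t * σ) * x⁻¹ * w * (x * (t * σ) * x⁻¹)⁻¹ ∈ N := fun w hw =>
      (Subgroup.mem_normalizer_iff.1 (hN (mul_mem (mul_mem hx htσ) (inv_mem hx))) w).1 hw
    have hCa : ∀ w ∈ N, w * (x * (t * σ) * x⁻¹) = x * (t * σ) * x⁻¹ * w → w = 1 := by
      intro w hw h
      have h1 := hC (x⁻¹ * w * x) ((Subgroup.mem_normalizer_iff''.1 (hN hx) w).1 hw) (by
        calc x⁻¹ * w * x * (t * σ) = x⁻¹ * (w * (x * (t * σ) * x⁻¹)) * x := by group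
          _ = _ := by rw [h]; group)
      calc w = x * (x⁻¹ * w * x) * x⁻¹ := by group
        _ = 1 := by rw [h1]; group
    have hxg : x ∈ D.group K := levi_le_group C.G hx
    obtain ⟨w, hw, e⟩ := exists_conj_left ha hCa hn
    obtain ⟨w', hw', e'⟩ := exists_conj_right ha hCa hn
    exact ⟨⟨w * x, mul_mem (hNg hw) hxg, by rw [← e]; group⟩,
      ⟨w' * x, mul_mem (hNg hw') hxg, by rw [← e']; group⟩⟩
  refine ⟨⟨t * σ, levi_le_group C.G htσ⟩, fun g => ?_⟩
  by_cases hg1 : g = 1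
  · obtain ⟨n, hn, e⟩ := real
    refine ⟨1, ⟨n, hn⟩, Subtype.ext ?_⟩
    subst hg1
    simp only [Subgroup.coe_mul, InvMemClass.coe_inv, OneMemClass.coe_one]
    rw [show n * (t * σ) * n⁻¹ = (t * σ)⁻¹ from e]
    group
  obtain ⟨x0, hx0, v, hv, u, hu, e⟩ := exists_prescribed C hD h9 g.2 (fun h => hg1 (Subtype.ext h))
    (mul_mem (mul_mem htH htH) d_mem)
  obtain ⟨v₁, hv₁, v₂, hv₂, rfl⟩ := exists_VR_VJ C (J := J) hv
  obtain ⟨u₁, hu₁, u₂, hu₂, rfl⟩ := exists_UR_UJ C (J := J) hu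
  obtain ⟨x, hx, y, hy, hxy⟩ := cover v₂ hv₂ u₂ hu₂
  obtain ⟨⟨z₁, hz₁, e₁⟩, -⟩ := key _ (levi_normalizes_VR C)
    ((VR_le_V C.G).trans C.G.negUnipotent_le_group) cV x hx v₁ hv₁
  obtain ⟨-, ⟨z₂, hz₂, e₂⟩⟩ := key _ (levi_normalizes_UR C)
    (C.G.UR_le_U.trans C.G.posUnipotent_le_group) cU y hy u₁ hu₁
  refine ⟨⟨x0⁻¹ * z₁, mul_mem (inv_mem hx0) hz₁⟩, ⟨x0⁻¹ * z₂, mul_mem (inv_mem hx0) hz₂⟩, Subtype.ext ?_⟩
  simp only [Subgroup.coe_mul, InvMemClass.coe_inv]
  have hab : v₂ * (t * t * d) * u₂ = x * (t * σ) * x⁻¹ * (y * (t * σ) * y⁻¹) := by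
    have hv₂M : v₂ ∈ M := Subgroup.mem_sup_right (VJ_le_LJ C.G hv₂)
    calc v₂ * (t * t * d) * u₂ = t * t * (v₂ * d * u₂) := by
          rw [show v₂ * (t * t * d) = (v₂ * t) * (t * d) by group, ← hcent v₂ hv₂M,
            show t * v₂ * (t * d) = t * (v₂ * t) * d by group, ← hcent v₂ hv₂M]
          group
      _ = t * (t * (x * σ * x⁻¹)) * (y * σ * y⁻¹) := by rw [hxy]; group
      _ = t * ((x * σ * x⁻¹) * t) * (y * σ * y⁻¹) := by
          rw [hcent (x * σ * x⁻¹) (mul_mem (mul_mem hx σ_mem) (inv_mem hx))]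
      _ = _ := by
          have ex : x * (t * σ) * x⁻¹ = t * (x * σ * x⁻¹) := by rw [← mul_assoc x, ← hcent x hx]; group
          have ey : y * (t * σ) * y⁻¹ = t * (y * σ * y⁻¹) := by rw [← mul_assoc y, ← hcent y hy]; group
          rw [ex, ey]; group
  calc (g : GL D.Idx K) = x0⁻¹ * (x0 * (g : GL D.Idx K) * x0⁻¹) * x0 := by group
    _ = x0⁻¹ * (v₁ * (v₂ * (t * t * d) * u₂) * u₁) * x0 := by rw [e]; group
    _ = x0⁻¹ * ((v₁ * (x * (t * σ) * x⁻¹)) * (y * (t * σ) * y⁻¹ * u₁)) * x0 := by rw [hab]; group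
    _ = _ := by rw [← e₁, ← e₂]; group

end full

end CfsgLib.Lie.ClassSquare
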