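import Cfsg.Agent.Lib.GLClass.Cover.TwoClass
import Cfsg.Agent.Lib.GLClass.Cover.Pieces

/-!
Cyclic matrices similar to their transpose or to their inverse.
-/

set_option autoImplicit false

namespace CfsgLib.Lie.ClassSquare

open Polynomial Matrix
open CfsgLib.GLClass.CommSL CfsgLib.GLClass.Cover

variable {F : Type*} [Field F] {n : ℕ}

/-- the transpose of a cyclic matrix is cyclic -/
theorem cyc_transpose {φ : F[X]} {A : Matrix (Fin n) (Fin n) F} (h : Cyc φ A) : Cyc φ Aᵀ := by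
  rcases Nat.eq_zero_or_pos n with rfl | hn
  · rwa [Subsingleton.elim Aᵀ A]
  obtain ⟨hφ, hd, v, hv⟩ := id h
  have hd' : φ.natDegree = n := by rw [hd, Fintype.card_fin]
  have hK := kry_det_ne hφ hd' hv
  obtain ⟨w, hw⟩ : ∃ w, w = Pi.single (⟨n - 1, by omega⟩ : Fin n) (1 : F) ᵥ* (kry A v)⁻¹ := ⟨_, rfl⟩
  obtain ⟨H, hH⟩ : ∃ H, H = (kry Aᵀ w)ᵀ * kry A v := ⟨_, rfl⟩
  have hlast : ∀ l : Fin n, w ⬝ᵥ ((A ^ (l : ℕ)) *ᵥ v) = if (l : ℕ) = n - 1 then 1 else 0 := by
    intro l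
    have h1 : w ᵥ* kry A v = Pi.single (⟨n - 1, by omega⟩ : Fin n) (1 : F) := by
      rw [hw, Matrix.vecMul_vecMul, nonsing_inv_mul _ (isUnit_iff_ne_zero.2 hK), Matrix.vecMul_one]
    have h2 := congrFun h1 l
    rw [Pi.single_apply] at h2
    exact h2.trans (if_congr (by rw [Fin.ext_iff]) rfl rfl)
  have hentry : ∀ i j : Fin n, H i j = w ⬝ᵥ ((A ^ ((i : ℕ) + j)) *ᵥ v) := by
    intro i j
    rw [pow_add, ← Matrix.mulVec_mulVec, Matrix.dotProduct_mulVec w (A ^ (i : ℕ)), ← Matrix.mulVec_transpose,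
      Matrix.transpose_pow, hH]
    rfl
  have hHd : H.det ≠ 0 := by
    have hl : ∀ (i j : Fin n) (hlt : (i : ℕ) + j < n),
        H i j = if (i : ℕ) + j = n - 1 then 1 else 0 := fun i j hlt => by
      rw [hentry]
      exact hlast ⟨_, hlt⟩
    have hT : (H.submatrix Fin.revPerm id).det = 1 := by
      rw [Matrix.det_of_upperTriangular (fun i j (hji : j < i) => ?_)]
      · refine Finset.prod_eq_one fun i _ => ?_
        show H (Fin.rev i) i = 1
        rw [hl _ _ (by simp [Fin.val_rev]; omega), if_pos (by simp [Fin.val_rev]; omega)]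
      · show H (Fin.rev i) j = 0
        have hji' : (j : ℕ) < i := hji
        rw [hl _ _ (by simp [Fin.val_rev]; omega), if_neg (by simp [Fin.val_rev]; omega)]
    intro h0
    rw [Matrix.det_permute, h0, mul_zero] at hT
    exact zero_ne_one hT
  have hL : (kry Aᵀ w).det ≠ 0 := fun h0 => hHd (by rw [hH, det_mul, det_transpose, h0, zero_mul])
  have hc := (cyc_of_kry hL).1
  rwa [Matrix.charpoly_transpose, h.charpoly_eq] at hc

theorem sim_transpose {φ : F[X]} {A : Matrix (Fin n) (Fin n) F} (h : Cyc φ A) : Sim Aᵀ A :=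
  (cyc_transpose h).sim h

/-- a cyclic matrix of determinant one with a simple eigenvalue, similar to its inverse -/
theorem exists_cyc_real (hn : 2 ≤ n) {a : F} (ha : a ≠ 0) (ha1 : a * a ≠ 1) :
    ∃ (A B : Matrix (Fin n) (Fin n) F) (f : F[X]), Cyc f A ∧ SimpleRoot f ∧ A.det = 1 ∧ A * B = 1 ∧
      Cyc f B := by
  obtain ⟨k, rfl⟩ : ∃ k, n = k + 2 := ⟨n - 2, by omega⟩
  have hane : a ≠ 1 := fun h => ha1 (by rw [h, one_mul])
  obtain ⟨f, hf⟩ : ∃ f : F[X], f = (X - Polynomial.C a) * ((X - Polynomial.C a⁻¹) * (X - Polynomial.C 1) ^ k) :=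
    ⟨_, rfl⟩
  have hm : ((X - Polynomial.C a⁻¹) * (X - Polynomial.C 1) ^ k).Monic :=
    (monic_X_sub_C _).mul ((monic_X_sub_C _).pow _)
  have hfm : f.Monic := hf ▸ (monic_X_sub_C _).mul hm
  have hfd : f.natDegree = k + 2 := by
    rw [hf, (monic_X_sub_C _).natDegree_mul hm, (monic_X_sub_C _).natDegree_mul ((monic_X_sub_C _).pow _),
      ((monic_X_sub_C _).natDegree_pow _), natDegree_X_sub_C, natDegree_X_sub_C, natDegree_X_sub_C]
    ring
  have hsr : SimpleRoot f := by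
    refine ⟨a, _, hm, ?_, hf⟩
    simp only [eval_mul, eval_sub, eval_X, eval_C, eval_pow]
    refine mul_ne_zero (sub_ne_zero.2 fun h => ha1 ?_) (pow_ne_zero _ (sub_ne_zero.2 hane))
    calc a * a = a * a⁻¹ := by rw [← h]
      _ = 1 := mul_inv_cancel₀ ha
  obtain ⟨A, hA⟩ := exists_cyc (ι := Fin (k + 2)) hfm (by rw [hfd, Fintype.card_fin])
  have hdet : A.det = 1 := by
    refine det_of_cyc hA ?_
    rw [coeff_zero_eq_eval_zero, hf, Fintype.card_fin]
    simp only [eval_mul, eval_sub, eval_X, eval_C, eval_pow, zero_sub]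
    rw [pow_add]
    field_simp
  have hAB : A * A⁻¹ = 1 := mul_nonsing_inv A (isUnit_iff_ne_zero.2 (hdet ▸ one_ne_zero))
  have hcB := cyc_inv hA hAB
  refine ⟨A, A⁻¹, f, hA, hsr, hdet, hAB, ?_⟩
  -- the polynomial vanishes at the inverse
  have hfac : ∀ x : F, x ≠ 0 → A⁻¹ - x • 1 = (-x) • (A⁻¹ * (A - x⁻¹ • 1)) := by
    intro x hx
    rw [Matrix.mul_sub, mul_eq_one_comm.1 hAB, Matrix.mul_smul, Matrix.mul_one, smul_sub, smul_smul,
      neg_mul, mul_inv_cancel₀ hx]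
    module
  have hcomm : ∀ x : F, Commute A⁻¹ (A - x • 1) := fun x =>
    (show Commute A⁻¹ A from (mul_eq_one_comm.1 hAB).trans hAB.symm).sub_right
      ((Commute.one_right _).smul_right x)
  have h0 : aeval A⁻¹ f = 0 := by
    have hA0 : aeval A f = 0 := by rw [← hA.charpoly_eq]; exact aeval_self_charpoly A
    rw [hf] at hA0 ⊢
    simp only [map_mul, map_sub, map_pow, aeval_X, aeval_C, Algebra.algebraMap_eq_smul_one] at hA0 ⊢
    rw [hfac a ha, hfac a⁻¹ (inv_ne_zero ha), hfac 1 one_ne_zero, inv_inv, inv_one, _root_.smul_pow,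
      (hcomm 1).mul_pow]
    simp only [Matrix.smul_mul, Matrix.mul_smul, smul_smul]
    rw [show A⁻¹ * (A - a⁻¹ • 1) * (A⁻¹ * (A - a • 1) * (A⁻¹ ^ k * (A - (1 : F) • 1) ^ k)) =
        A⁻¹ * A⁻¹ * A⁻¹ ^ k * ((A - a • 1) * ((A - a⁻¹ • 1) * (A - (1 : F) • 1) ^ k)) from ?_, hA0,
      Matrix.mul_zero, smul_zero]
    have e1 : Commute (A - a⁻¹ • 1) A⁻¹ := (hcomm _).symm
    have e2 : Commute (A - a • 1) (A⁻¹ ^ k) := ((hcomm a).pow_left k).symm
    have e3 : Commute (A - a⁻¹ • 1) (A⁻¹ ^ k) := ((hcomm _).pow_left k).symm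
    have e4 : Commute (A - a⁻¹ • 1) (A - a • 1) :=
      (((Commute.refl A).sub_right ((Commute.one_right _).smul_right a)).sub_left
        ((Commute.one_left _).smul_left _))
    calc A⁻¹ * (A - a⁻¹ • 1) * (A⁻¹ * (A - a • 1) * (A⁻¹ ^ k * (A - (1 : F) • 1) ^ k))
        = A⁻¹ * ((A - a⁻¹ • 1) * A⁻¹) * ((A - a • 1) * A⁻¹ ^ k) * (A - (1 : F) • 1) ^ k := by
          simp only [Matrix.mul_assoc]
      _ = A⁻¹ * A⁻¹ * ((A - a⁻¹ • 1) * A⁻¹ ^ k) * (A - a • 1) * (A - (1 : F) • 1) ^ k := by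
          rw [e1.eq, e2.eq]; simp only [Matrix.mul_assoc]
      _ = A⁻¹ * A⁻¹ * A⁻¹ ^ k * ((A - a⁻¹ • 1) * (A - a • 1)) * (A - (1 : F) • 1) ^ k := by
          rw [e3.eq]; simp only [Matrix.mul_assoc]
      _ = _ := by rw [e4.eq]; simp only [Matrix.mul_assoc]
  obtain ⟨-, -, v, hv⟩ := id hcB
  have hdvd : A⁻¹.charpoly ∣ f := (hv f).1 (by rw [h0, Matrix.zero_mulVec])
  have he : A⁻¹.charpoly = f := (Polynomial.eq_of_monic_of_dvd_of_natDegree_le A⁻¹.charpoly_monic hfm hdvd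
    (by rw [hfd, Matrix.charpoly_natDegree_eq_dim, Fintype.card_fin])).symm
  rwa [he] at hcB

/-- a scalar avoiding the fourth roots of unity of order at most two -/
theorem exists_sq_ne_one [Fintype F] (h4 : 4 ≤ Fintype.card F) : ∃ a : F, a ≠ 0 ∧ a * a ≠ 1 := by
  classical
  obtain ⟨a, ha⟩ : ∃ a : F, a ∉ ({0, 1, -1} : Finset F) := by
    by_contra hne
    simp only [not_exists, not_not] at hne
    have h1 := Finset.card_le_card (show (Finset.univ : Finset F) ⊆ {0, 1, -1} from fun x _ => hne x)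
    have h2 : ({0, 1, -1} : Finset F).card ≤ 3 := Finset.card_le_three
    rw [Finset.card_univ] at h1
    omega
  simp only [Finset.mem_insert, Finset.mem_singleton, not_or] at ha
  exact ⟨a, ha.1, fun h => (mul_self_eq_one_iff.1 h).elim ha.2.1 ha.2.2⟩

end CfsgLib.Lie.ClassSquare
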