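import Cfsg.Agent.Lib.Lie.ClassSquare.LeviTypeA
import Cfsg.Agent.Lib.Lie.Chev.FullAll

/-!
# The data for type E6: a Levi subgroup of type A3
-/

set_option autoImplicit false
set_option maxRecDepth 100000
set_option maxHeartbeats 1000000
set_option synthInstance.maxSize 2000
set_option synthInstance.maxHeartbeats 200000

namespace CfsgLib.Lie.ClassSquare.TabE6

open Cfsg.Lie CfsgLib.Lie.Chev

/-- a word for the longest element -/
def word : List (Fin chevE6.rank) :=
  ([0, 1, 2, 0, 3, 1, 2, 0, 3, 2, 4, 3, 1, 2, 0, 3, 2, 4, 3, 1, 5, 4, 3, 1, 2, 0, 3, 2, 4, 3, 1, 5, 4, 3, 2, 0] : List ℕ).filterMap fun i => if h : i < chevE6.rank then some ⟨i, h⟩ else none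

/-- the roots of the subsystem -/
def rt : Fin 4 → Fin 4 → ℕ :=
  fun i j => (#[#[0, 42, 43, 44], #[29, 0, 39, 40], #[28, 32, 0, 37], #[27, 31, 34, 0]] : Array (Array ℕ)).getD i.val #[] |>.getD j.val 0

/-- the signs of the subsystem -/
def sg : Fin 4 → Fin 4 → ℤ :=
  fun i j => (#[#[1, 1, (-1), 1], #[1, 1, 1, (-1)], #[(-1), 1, 1, 1], #[1, (-1), 1, 1]] : Array (Array ℤ)).getD i.val #[] |>.getD j.val 0

theorem torTab : TorTab chevE6 [3, 4, 5, 7, 5, 3] word where
  simp_nonneg := by decide +kernel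
  small := by decide +kernel
  word := by decide +kernel

theorem aTab : ATab (m := 3) chevE6 [3, 4, 5, 7, 5, 3] word rt sg [(-1), 0, 0, 0, 0, 0] true where
  root := by decide +kernel
  onto := by decide +kernel
  comm := by decide +kernel
  prod := by decide +kernel
  diag := by decide +kernel
  pair := by decide +kernel
  image := by decide +kernel

end CfsgLib.Lie.ClassSquare.TabE6

namespace CfsgLib.Lie.ClassSquare

open Cfsg.Lie CfsgLib.Lie.Chev

theorem nonempty_leviCov_E6 (C : Full chevE6) (K : Type*) [Field K] [Finite K] (hK : 9 ≤ Nat.card K) :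
    Nonempty (LeviCov C K) :=
  nonempty_of_typeA C hK TabE6.torTab TabE6.aTab (by norm_num)

end CfsgLib.Lie.ClassSquare
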