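import Cfsg.Agent.Lib.Lie.ClassSquare.LeviTypeA
import Cfsg.Agent.Lib.Lie.Chev.FullAll

/-!
# The data for type E7: a Levi subgroup of type A6
-/

set_option autoImplicit false
set_option maxRecDepth 100000
set_option maxHeartbeats 1000000
set_option synthInstance.maxSize 2000
set_option synthInstance.maxHeartbeats 200000

namespace CfsgLib.Lie.ClassSquare.TabE7

open Cfsg.Lie CfsgLib.Lie.Chev

/-- a word for the longest element -/
def word : List (Fin chevE7.rank) :=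
  ([0, 1, 2, 0, 3, 1, 2, 0, 3, 2, 4, 3, 1, 2, 0, 3, 2, 4, 3, 1, 5, 4, 3, 1, 2, 0, 3, 2, 4, 3, 1, 5, 4, 3, 2, 0, 6, 5, 4, 3, 1, 2, 0, 3, 2, 4, 3, 1, 5, 4, 3, 2, 0, 6, 5, 4, 3, 1, 2, 3, 4, 5, 6] : List ℕ).filterMap fun i => if h : i < chevE7.rank then some ⟨i, h⟩ else none

/-- the roots of the subsystem -/
def rt : Fin 7 → Fin 7 → ℕ :=
  fun i j => (#[#[0, 93, 94, 95, 96, 97, 98], #[32, 0, 73, 74, 75, 76, 77], #[31, 52, 0, 69, 70, 71, 72], #[30, 51, 56, 0, 66, 67, 68], #[29, 50, 55, 59, 0, 64, 65], #[28, 49, 54, 58, 61, 0, 63], #[27, 48, 53, 57, 60, 62, 0]] : Array (Array ℕ)).getD i.val #[] |>.getD j.val 0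

/-- the signs of the subsystem -/
def sg : Fin 7 → Fin 7 → ℤ :=
  fun i j => (#[#[1, 1, (-1), 1, (-1), 1, (-1)], #[1, 1, 1, (-1), 1, (-1), 1], #[(-1), 1, 1, 1, (-1), 1, (-1)], #[1, (-1), 1, 1, 1, (-1), 1], #[(-1), 1, (-1), 1, 1, 1, (-1)], #[1, (-1), 1, (-1), 1, 1, 1], #[(-1), 1, (-1), 1, (-1), 1, 1]] : Array (Array ℤ)).getD i.val #[] |>.getD j.val 0

theorem torTab : TorTab chevE7 [4, 7, 8, 12, 9, 6, 3] word where
  simp_nonneg := by decide +kernel
  small := by decide +kernel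
  word := by decide +kernel

theorem aTab : ATab (m := 6) chevE7 [4, 7, 8, 12, 9, 6, 3] word rt sg [2, 2, 3, 4, 3, 2, 1] false where
  root := by decide +kernel
  onto := by decide +kernel
  comm := by decide +kernel
  prod := by decide +kernel
  diag := by decide +kernel
  pair := by decide +kernel
  image := by decide +kernel

end CfsgLib.Lie.ClassSquare.TabE7

namespace CfsgLib.Lie.ClassSquare

open Cfsg.Lie CfsgLib.Lie.Chev

theorem nonempty_leviCov_E7 (C : Full chevE7) (K : Type*) [Field K] [Finite K] (hK : 9 ≤ Nat.card K) :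
    Nonempty (LeviCov C K) :=
  nonempty_of_typeA C hK TabE7.torTab TabE7.aTab (by norm_num)

end CfsgLib.Lie.ClassSquare
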