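import Cfsg.Agent.Lib.Lie.ClassSquare.LeviTypeA
import Cfsg.Agent.Lib.Lie.Chev.FullAll

/-!
# The data for type E8: a Levi subgroup of type A7
-/

set_option autoImplicit false
set_option maxRecDepth 100000
set_option maxHeartbeats 1000000
set_option synthInstance.maxSize 2000
set_option synthInstance.maxHeartbeats 200000

namespace CfsgLib.Lie.ClassSquare.TabE8

open Cfsg.Lie CfsgLib.Lie.Chev

/-- a word for the longest element -/
def word : List (Fin chevE8.rank) :=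
  ([0, 1, 2, 0, 3, 1, 2, 0, 3, 2, 4, 3, 1, 2, 0, 3, 2, 4, 3, 1, 5, 4, 3, 1, 2, 0, 3, 2, 4, 3, 1, 5, 4, 3, 2, 0, 6, 5, 4, 3, 1, 2, 0, 3, 2, 4, 3, 1, 5, 4, 3, 2, 0, 6, 5, 4, 3, 1, 2, 3, 4, 5, 6, 7, 6, 5, 4, 3, 1, 2, 0, 3, 2, 4, 3, 1, 5, 4, 3, 2, 0, 6, 5, 4, 3, 1, 2, 3, 4, 5, 6, 7, 6, 5, 4, 3, 1, 2, 0, 3, 2, 4, 3, 1, 5, 4, 3, 2, 0, 6, 5, 4, 3, 1, 2, 3, 4, 5, 6, 7] : List ℕ).filterMap fun i => if h : i < chevE8.rank then some ⟨i, h⟩ else none

/-- the roots of the subsystem -/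
def rt : Fin 8 → Fin 8 → ℕ :=
  fun i j => (#[#[0, 162, 163, 164, 165, 166, 167, 168], #[77, 0, 135, 136, 137, 138, 139, 140], #[76, 104, 0, 130, 131, 132, 133, 134], #[75, 103, 109, 0, 126, 127, 128, 129], #[74, 102, 108, 113, 0, 123, 124, 125], #[73, 101, 107, 112, 116, 0, 121, 122], #[72, 100, 106, 111, 115, 118, 0, 120], #[71, 99, 105, 110, 114, 117, 119, 0]] : Array (Array ℕ)).getD i.val #[] |>.getD j.val 0

/-- the signs of the subsystem -/
def sg : Fin 8 → Fin 8 → ℤ :=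
  fun i j => (#[#[1, 1, (-1), 1, (-1), 1, (-1), 1], #[1, 1, 1, (-1), 1, (-1), 1, (-1)], #[(-1), 1, 1, 1, (-1), 1, (-1), 1], #[1, (-1), 1, 1, 1, (-1), 1, (-1)], #[(-1), 1, (-1), 1, 1, 1, (-1), 1], #[1, (-1), 1, (-1), 1, 1, 1, (-1)], #[(-1), 1, (-1), 1, (-1), 1, 1, 1], #[1, (-1), 1, (-1), 1, (-1), 1, 1]] : Array (Array ℤ)).getD i.val #[] |>.getD j.val 0

theorem torTab : TorTab chevE8 [5, 8, 10, 15, 12, 9, 6, 3] word where
  simp_nonneg := by decide +kernel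
  small := by decide +kernel
  word := by decide +kernel

theorem aTab : ATab (m := 7) chevE8 [5, 8, 10, 15, 12, 9, 6, 3] word rt sg [4, 5, 7, 10, 8, 6, 4, 2] false where
  root := by decide +kernel
  onto := by decide +kernel
  comm := by decide +kernel
  prod := by decide +kernel
  diag := by decide +kernel
  pair := by decide +kernel
  image := by decide +kernel

end CfsgLib.Lie.ClassSquare.TabE8

namespace CfsgLib.Lie.ClassSquare

open Cfsg.Lie CfsgLib.Lie.Chev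

theorem nonempty_leviCov_E8 (C : Full chevE8) (K : Type*) [Field K] [Finite K] (hK : 9 ≤ Nat.card K) :
    Nonempty (LeviCov C K) :=
  nonempty_of_typeA C hK TabE8.torTab TabE8.aTab (by norm_num)

end CfsgLib.Lie.ClassSquare
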