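import Cfsg.Agent.Lib.Lie.ClassSquare.LeviTypeA
import Cfsg.Agent.Lib.Lie.Chev.FullAll

/-!
# The data for type F4: a Levi subgroup of type A2
-/

set_option autoImplicit false
set_option maxRecDepth 100000
set_option maxHeartbeats 1000000
set_option synthInstance.maxSize 2000
set_option synthInstance.maxHeartbeats 200000

namespace CfsgLib.Lie.ClassSquare.TabF4

open Cfsg.Lie CfsgLib.Lie.Chev

/-- a word for the longest element -/
def word : List (Fin chevF4.rank) :=
  ([0, 1, 0, 2, 1, 0, 2, 1, 2, 3, 2, 1, 0, 2, 1, 2, 3, 2, 1, 0, 2, 1, 2, 3] : List ℕ).filterMap fun i => if h : i < chevF4.rank then some ⟨i, h⟩ else none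

/-- the roots of the subsystem -/
def rt : Fin 3 → Fin 3 → ℕ :=
  fun i j => (#[#[0, 33, 34], #[14, 0, 27], #[13, 20, 0]] : Array (Array ℕ)).getD i.val #[] |>.getD j.val 0

/-- the signs of the subsystem -/
def sg : Fin 3 → Fin 3 → ℤ :=
  fun i j => (#[#[1, 1, (-1)], #[1, 1, 1], #[(-1), 1, 1]] : Array (Array ℤ)).getD i.val #[] |>.getD j.val 0

theorem torTab : TorTab chevF4 [3, 6, 9, 5] word where
  simp_nonneg := by decide +kernel
  small := by decide +kernel
  word := by decide +kernel

theorem aTab : ATab (m := 2) chevF4 [3, 6, 9, 5] word rt sg [1, 1, 1, (-1)] false where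
  root := by decide +kernel
  onto := by decide +kernel
  comm := by decide +kernel
  prod := by decide +kernel
  diag := by decide +kernel
  pair := by decide +kernel
  image := by decide +kernel

end CfsgLib.Lie.ClassSquare.TabF4

namespace CfsgLib.Lie.ClassSquare

open Cfsg.Lie CfsgLib.Lie.Chev

theorem nonempty_leviCov_F4 (C : Full chevF4) (K : Type*) [Field K] [Finite K] (hK : 9 ≤ Nat.card K) :
    Nonempty (LeviCov C K) :=
  nonempty_of_typeA C hK TabF4.torTab TabF4.aTab (by norm_num)

end CfsgLib.Lie.ClassSquare
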