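import Cfsg.Agent.Lib.Lie.ClassSquare.LeviTorus
import Cfsg.Agent.Lib.Lie.Chev.FullAll

/-!
# The data for type G2: a regular element of the split torus
-/

set_option autoImplicit false
set_option maxRecDepth 100000

namespace CfsgLib.Lie.ClassSquare

open Cfsg.Lie CfsgLib.Lie.Chev

theorem torTabG2 : TorTab chevG2 [3, 5]
    ([⟨0, by decide⟩, ⟨1, by decide⟩, ⟨0, by decide⟩, ⟨1, by decide⟩, ⟨0, by decide⟩, ⟨1, by decide⟩] :
      List (Fin chevG2.rank)) where
  simp_nonneg := by decide +kernel
  small := by decide +kernel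
  word := by decide +kernel

theorem grade_ne_zero_G2 : ∀ r : Fin chevG2.nroots, gradeD chevG2 [3, 5] r.val ≠ 0 := by decide +kernel

theorem nonempty_leviCov_G2 (C : Full chevG2) (K : Type*) [Field K] [Finite K] (hK : 9 ≤ Nat.card K) :
    Nonempty (LeviCov C K) :=
  nonempty_of_torus C hK torTabG2 grade_ne_zero_G2

end CfsgLib.Lie.ClassSquare
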