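import Cfsg.Agent.Lib.Char.SingleBond.SteinbergHom
import Cfsg.Agent.Lib.Classical.TwoUnip.Final

/-!
# Products of simple transvections, conjugation of the special linear group
-/

set_option autoImplicit false

namespace CfsgLib.Lie.ClassSquare

open Matrix
open CfsgLib.Classical.TwoUnip (RegUpper RegLower Jmat mul_upper pow_upper)
open scoped MatrixGroups

variable {K : Type*} [Field K] {k m : ℕ}

/-- conjugation by an invertible matrix -/
def conjSL (X : GL (Fin k) K) :
    Matrix.SpecialLinearGroup (Fin k) K →* Matrix.SpecialLinearGroup (Fin k) K where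
  toFun g := ⟨(X : Matrix (Fin k) (Fin k) K) * g.1 * ((X⁻¹ : GL (Fin k) K) : Matrix (Fin k) (Fin k) K), by
    rw [det_mul, det_mul, g.2, mul_one, ← det_mul, ← Units.val_mul, mul_inv_cancel, Units.val_one, det_one]⟩
  map_one' := Subtype.ext (by simp)
  map_mul' g h := Subtype.ext (by
    show (X : Matrix (Fin k) (Fin k) K) * (g.1 * h.1) * _ = _ * g.1 * _ * (_ * h.1 * _)
    simp only [mul_assoc]
    rw [← mul_assoc ((X⁻¹ : GL (Fin k) K) : Matrix (Fin k) (Fin k) K) (X : Matrix (Fin k) (Fin k) K),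
      ← Units.val_mul, inv_mul_cancel, Units.val_one, one_mul])

theorem coe_conjSL (X : GL (Fin k) K) (g : Matrix.SpecialLinearGroup (Fin k) K) :
    (conjSL X g).1 = (X : Matrix (Fin k) (Fin k) K) * g.1 * ((X⁻¹ : GL (Fin k) K) : Matrix (Fin k) (Fin k) K) :=
  rfl

theorem conjSL_mul (X Y : GL (Fin k) K) (g : Matrix.SpecialLinearGroup (Fin k) K) :
    conjSL (X * Y) g = conjSL X (conjSL Y g) := Subtype.ext (by
  simp only [coe_conjSL, Units.val_mul, _root_.mul_inv_rev, mul_assoc])

/-- a diagonal matrix with `u` in the first place -/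
noncomputable def diagU [NeZero k] (u : Kˣ) : GL (Fin k) K where
  val := Matrix.diagonal fun i => if i = 0 then (u : K) else 1
  inv := Matrix.diagonal fun i => if i = 0 then ((u⁻¹ : Kˣ) : K) else 1
  val_inv := by
    rw [diagonal_mul_diagonal, ← diagonal_one]
    congr 1
    funext i
    split_ifs <;> simp
  inv_val := by
    rw [diagonal_mul_diagonal, ← diagonal_one]
    congr 1
    funext i
    split_ifs <;> simp

theorem det_diagU [NeZero k] (u : Kˣ) : (diagU u : GL (Fin k) K).1.det = u := by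
  simp [diagU, det_diagonal, Finset.prod_ite_eq']

theorem conjSL_diagU_transvection [NeZero k] (u : Kˣ) {i j : Fin k} (h : i ≠ j) (t : K) :
    conjSL (diagU u) (SpecialLinearGroup.transvection h t) = SpecialLinearGroup.transvection h
      (((u ^ ((if i = 0 then (1 : ℤ) else 0) - if j = 0 then 1 else 0) : Kˣ) : K) * t) := by
  apply Subtype.ext
  show Matrix.diagonal (fun l => if l = 0 then (u : K) else 1) * (1 + Matrix.single i j t) *
    Matrix.diagonal (fun l => if l = 0 then ((u⁻¹ : Kˣ) : K) else 1) = 1 + Matrix.single i j _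
  ext a b
  rw [Matrix.mul_diagonal, Matrix.diagonal_mul]
  simp only [Matrix.add_apply, Matrix.one_apply, Matrix.single_apply]
  by_cases hab : a = b
  · subst hab
    have hne : ¬ (i = a ∧ j = a) := fun e => h (e.1.trans e.2.symm)
    simp only [if_neg hne, if_true, add_zero]
    split_ifs <;> simp
  · by_cases hij : i = a ∧ j = b
    · obtain ⟨rfl, rfl⟩ := hij
      simp only [if_neg hab, and_self, if_true, zero_add]
      split_ifs with h1 h2
      · exact absurd (h1.trans h2.symm) h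
      all_goals simp [mul_comm]
    · simp [hab, hij]

/-- the two off-diagonal transvections with one step -/
def stepUp (i : Fin m) (a : K) : Matrix.SpecialLinearGroup (Fin (m + 1)) K :=
  SpecialLinearGroup.transvection (Fin.castSucc_lt_succ (i := i)).ne a

/-- the transpose of `stepUp` -/
def stepDown (i : Fin m) (a : K) : Matrix.SpecialLinearGroup (Fin (m + 1)) K :=
  SpecialLinearGroup.transvection (Fin.castSucc_lt_succ (i := i)).ne' a

theorem stepUp_inv (i : Fin m) (a : K) : (stepUp i a)⁻¹ = stepUp i (-a) := by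
  rw [inv_eq_iff_mul_eq_one]
  apply Subtype.ext
  show (1 + Matrix.single i.castSucc i.succ a) * (1 + Matrix.single i.castSucc i.succ (-a)) = 1
  have hne : i.succ ≠ i.castSucc := (Fin.castSucc_lt_succ (i := i)).ne'
  simp [Matrix.add_mul, Matrix.mul_add, Matrix.single_mul_single_of_ne _ _ _ _ hne, ← Matrix.single_neg]

theorem stepUp_entries (i : Fin m) (a : K) :
    (∀ x y : Fin (m + 1), y.val < x.val → (stepUp i a).1 x y = 0) ∧ (∀ x, (stepUp i a).1 x x = 1) ∧
      ∀ x : Fin m, (stepUp i a).1 x.castSucc x.succ = if i = x then a else 0 := by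
  have hv : (stepUp i a).1 = 1 + Matrix.single i.castSucc i.succ a := rfl
  refine ⟨fun x y hxy => ?_, fun x => ?_, fun x => ?_⟩
  · rw [hv, Matrix.add_apply, Matrix.one_apply_ne (fun e => by rw [e] at hxy; omega), Matrix.single_apply,
      if_neg, add_zero]
    rintro ⟨rfl, rfl⟩
    simp at hxy
  · rw [hv, Matrix.add_apply, Matrix.one_apply_eq, Matrix.single_apply, if_neg, add_zero]
    rintro ⟨h1, h2⟩
    exact (Fin.castSucc_lt_succ (i := i)).ne (h1.trans h2.symm)
  · rw [hv, Matrix.add_apply, Matrix.one_apply_ne (Fin.castSucc_lt_succ (i := x)).ne, Matrix.single_apply,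
      zero_add]
    refine if_congr ⟨fun e => Fin.castSucc_injective _ e.1, fun e => e ▸ ⟨rfl, rfl⟩⟩ rfl rfl

theorem prod_stepUp_entries (a : Fin m → K) : ∀ l : List (Fin m), l.Nodup →
    (∀ x y : Fin (m + 1), y.val < x.val → ((l.map fun i => stepUp i (a i)).prod).1 x y = 0) ∧
      (∀ x, ((l.map fun i => stepUp i (a i)).prod).1 x x = 1) ∧
      ∀ x : Fin m, ((l.map fun i => stepUp i (a i)).prod).1 x.castSucc x.succ = if x ∈ l then a x else 0 := by
  intro l
  induction l with
  | nil =>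
    intro _
    refine ⟨fun x y hxy => ?_, fun x => ?_, fun x => ?_⟩
    · exact Matrix.one_apply_ne fun e => by rw [e] at hxy; omega
    · exact Matrix.one_apply_eq x
    · simpa using Matrix.one_apply_ne (Fin.castSucc_lt_succ (i := x)).ne
  | cons i l ih =>
    intro hn
    rw [List.nodup_cons] at hn
    obtain ⟨h1, h2, h3⟩ := ih hn.2
    obtain ⟨g1, g2, g3⟩ := stepUp_entries i (a i)
    obtain ⟨p1, p2, p3⟩ := mul_upper g1 h1
    rw [List.map_cons, List.prod_cons]
    refine ⟨p1, fun x => (p2 x).trans (by rw [g2, h2, one_mul]), fun x => ?_⟩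
    show ((stepUp i (a i)).1 * ((l.map fun i => stepUp i (a i)).prod).1 : Matrix _ _ K) x.castSucc x.succ = _
    rw [p3 _ _ (by simp), g2, h2, g3, h3, one_mul, mul_one]
    by_cases hx : i = x
    · subst hx; simp [hn.1]
    · simp [hx, Ne.symm hx]

theorem regUpper_prod {a : Fin m → K} (ha : ∀ i, a i ≠ 0) {l : List (Fin m)} (hn : l.Nodup)
    (hall : ∀ i, i ∈ l) : RegUpper ((l.map fun i => stepUp i (a i)).prod).1 := by
  obtain ⟨h1, h2, h3⟩ := prod_stepUp_entries a l hn
  refine ⟨h1, h2, fun x y hxy => ?_⟩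
  have hx : x.val < m := by have := y.isLt; omega
  have ex : x = (⟨x.val, hx⟩ : Fin m).castSucc := Fin.ext rfl
  have ey : y = (⟨x.val, hx⟩ : Fin m).succ := Fin.ext (by simp [hxy])
  rw [ex, ey, h3, if_pos (hall _)]
  exact ha _

theorem transpose_prod_stepDown (a : Fin m → K) : ∀ l : List (Fin m),
    ((l.map fun i => stepDown i (a i)).prod).1ᵀ = ((l.reverse.map fun i => stepUp i (a i)).prod).1 := by
  intro l
  induction l with
  | nil => exact Matrix.transpose_one
  | cons i l ih =>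
    rw [List.map_cons, List.prod_cons, List.reverse_cons, List.map_append, List.prod_append]
    show ((stepDown i (a i)).1 * ((l.map fun i => stepDown i (a i)).prod).1)ᵀ =
      ((l.reverse.map fun i => stepUp i (a i)).prod).1 * (([i].map fun i => stepUp i (a i)).prod).1
    rw [Matrix.transpose_mul, ih]
    congr 1
    show (1 + Matrix.single i.succ i.castSucc (a i))ᵀ = ((stepUp i (a i)) * 1).1
    rw [mul_one, Matrix.transpose_add, Matrix.transpose_one, Matrix.transpose_single]
    rfl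

theorem regLower_prod {a : Fin m → K} (ha : ∀ i, a i ≠ 0) {l : List (Fin m)} (hn : l.Nodup)
    (hall : ∀ i, i ∈ l) : RegLower ((l.map fun i => stepDown i (a i)).prod).1 := by
  rw [RegLower, transpose_prod_stepDown]
  exact regUpper_prod ha (List.nodup_reverse.2 hn) fun i => List.mem_reverse.2 (hall i)

/-- similarity to the Jordan block, as conjugation -/
theorem exists_conj_of_eq {A B : Matrix.SpecialLinearGroup (Fin k) K}
    (hA : ∃ P : Matrix (Fin k) (Fin k) K, P.det ≠ 0 ∧ A.1 * P = P * Jmat k K)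
    (hB : ∃ P : Matrix (Fin k) (Fin k) K, P.det ≠ 0 ∧ B.1 * P = P * Jmat k K) :
    ∃ X : GL (Fin k) K, conjSL X A = B := by
  obtain ⟨P, hP, eP⟩ := hA
  obtain ⟨Q, hQ, eQ⟩ := hB
  let P' : GL (Fin k) K := GeneralLinearGroup.mkOfDetNeZero P hP
  let Q' : GL (Fin k) K := GeneralLinearGroup.mkOfDetNeZero Q hQ
  refine ⟨Q' * P'⁻¹, Subtype.ext ?_⟩
  rw [coe_conjSL, _root_.mul_inv_rev, inv_inv, Units.val_mul, Units.val_mul]
  calc Q * ((P'⁻¹ : GL (Fin k) K) : Matrix (Fin k) (Fin k) K) * A.1 * (P * ((Q'⁻¹ : GL (Fin k) K) : Matrix (Fin k) (Fin k) K))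
      = Q * (((P'⁻¹ : GL (Fin k) K) : Matrix (Fin k) (Fin k) K) * (A.1 * P)) * ((Q'⁻¹ : GL (Fin k) K) : Matrix (Fin k) (Fin k) K) := by
        simp only [mul_assoc]
    _ = Q * Jmat k K * ((Q'⁻¹ : GL (Fin k) K) : Matrix (Fin k) (Fin k) K) := by
        rw [eP, ← mul_assoc ((P'⁻¹ : GL (Fin k) K) : Matrix (Fin k) (Fin k) K) P, show
          ((P'⁻¹ : GL (Fin k) K) : Matrix (Fin k) (Fin k) K) * P = 1 from P'.inv_mul, one_mul]
    _ = B.1 := by
        rw [← eQ, mul_assoc, show Q * ((Q'⁻¹ : GL (Fin k) K) : Matrix (Fin k) (Fin k) K) = 1 from Q'.mul_inv,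
          mul_one]

theorem exists_pow_eq_one {A : Matrix.SpecialLinearGroup (Fin k) K} (hA : RegUpper A.1) (p : ℕ) [Fact p.Prime]
    [CharP K p] : ∃ e, A ^ p ^ e = 1 := by
  have hp : p.Prime := Fact.out
  obtain rfl | hk := Nat.eq_zero_or_pos k
  · exact ⟨0, Subsingleton.elim _ _⟩
  haveI : NeZero k := ⟨hk.ne'⟩
  refine ⟨k, Subtype.ext ?_⟩
  show (A ^ p ^ k : Matrix.SpecialLinearGroup (Fin k) K).1 = (1 : Matrix (Fin k) (Fin k) K)
  rw [show (A ^ p ^ k : Matrix.SpecialLinearGroup (Fin k) K).1 = A.1 ^ p ^ k by simp]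
  have h0 : (A.1 - 1) ^ k = 0 := Matrix.ext fun i j => (pow_upper hA k).1 i j (by have := j.isLt; omega)
  haveI : CharP (Matrix (Fin k) (Fin k) K) p := inferInstance
  calc A.1 ^ p ^ k = ((A.1 - 1) + 1) ^ p ^ k := by rw [sub_add_cancel]
    _ = (A.1 - 1) ^ p ^ k + 1 := by rw [add_pow_char_pow_of_commute _ _ (Commute.one_right _), one_pow]
    _ = 1 := by rw [pow_eq_zero_of_le (Nat.lt_pow_self hp.one_lt).le h0, zero_add]

theorem exists_conjSL_sq (hk : 3 ≤ k) (hK : 4 ≤ Cardinal.mk K) {U M : Matrix.SpecialLinearGroup (Fin k) K}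
    (hU : RegUpper U.1) (hM : ¬ ∃ c : K, M.1 = c • (1 : Matrix (Fin k) (Fin k) K)) :
    ∃ X Y : GL (Fin k) K, M = conjSL X U * conjSL Y U := by
  have hdetJ : (Jmat k K).det ≠ 0 := by
    rw [Matrix.det_of_upperTriangular (fun i j h => by
      have h' : j.val < i.val := h
      simp only [Jmat]
      rw [if_neg (fun e => by rw [e] at h'; omega), if_neg (by omega)])]
    simp [Jmat]
  let J : GL (Fin k) K := GeneralLinearGroup.mkOfDetNeZero (Jmat k K) hdetJ
  let g : GL (Fin k) K := GeneralLinearGroup.mkOfDetNeZero M.1 (by rw [M.2]; exact one_ne_zero)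
  obtain ⟨x, y, hxy⟩ := CfsgLib.Classical.TwoUnip.main hK hk J g rfl hM M.2
  obtain ⟨P, hP, eP⟩ := hU.exists_conj
  let P' : GL (Fin k) K := GeneralLinearGroup.mkOfDetNeZero P hP
  refine ⟨x * P'⁻¹, y * P'⁻¹, Subtype.ext ?_⟩
  have key : ∀ z : GL (Fin k) K, (conjSL (z * P'⁻¹) U).1 = ((z * J * z⁻¹ : GL (Fin k) K) : Matrix (Fin k) (Fin k) K) := by
    intro z
    rw [coe_conjSL, _root_.mul_inv_rev, inv_inv, Units.val_mul, Units.val_mul, Units.val_mul, Units.val_mul]
    calc (z : Matrix (Fin k) (Fin k) K) * ((P'⁻¹ : GL (Fin k) K) : Matrix (Fin k) (Fin k) K) * U.1 *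
          (P * ((z⁻¹ : GL (Fin k) K) : Matrix (Fin k) (Fin k) K))
        = (z : Matrix (Fin k) (Fin k) K) * (((P'⁻¹ : GL (Fin k) K) : Matrix (Fin k) (Fin k) K) * (U.1 * P)) *
          ((z⁻¹ : GL (Fin k) K) : Matrix (Fin k) (Fin k) K) := by simp only [mul_assoc]
      _ = (z : Matrix (Fin k) (Fin k) K) * Jmat k K * ((z⁻¹ : GL (Fin k) K) : Matrix (Fin k) (Fin k) K) := by
        rw [eP, ← mul_assoc ((P'⁻¹ : GL (Fin k) K) : Matrix (Fin k) (Fin k) K) P, show
          ((P'⁻¹ : GL (Fin k) K) : Matrix (Fin k) (Fin k) K) * P = 1 from P'.inv_mul, one_mul]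
  show M.1 = (conjSL _ U).1 * (conjSL _ U).1
  rw [key, key, ← Units.val_mul, ← hxy]
  rfl

theorem not_scalar_ldu {V W : Matrix (Fin k) (Fin k) K} {dd : Fin k → K}
    (hV : ∀ i j : Fin k, i.val < j.val → V i j = 0) (hV1 : ∀ i, V i i = 1)
    (hW : ∀ i j : Fin k, j.val < i.val → W i j = 0) (hW1 : ∀ i, W i i = 1)
    {U : Matrix (Fin k) (Fin k) K} (hUW : U * W = 1) {a b : Fin k} (hd : dd a ≠ dd b) :
    ¬ ∃ c : K, V * Matrix.diagonal dd * U = c • (1 : Matrix (Fin k) (Fin k) K) := by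
  rintro ⟨c, hc⟩
  have h : V * Matrix.diagonal dd = c • W := by
    calc V * Matrix.diagonal dd = V * Matrix.diagonal dd * (U * W) := by rw [hUW, mul_one]
      _ = c • W := by rw [← mul_assoc, hc, Matrix.smul_mul, one_mul]
  refine hd ?_
  have e : ∀ i, dd i = c := fun i => by
    have := congrFun (congrFun h i) i
    rwa [Matrix.mul_diagonal, hV1, one_mul, Matrix.smul_apply, hW1, smul_eq_mul, mul_one] at this
  rw [e, e]

end CfsgLib.Lie.ClassSquare
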