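import Cfsg.Agent.Lib.Lie.ClassSquare.Basic
import Cfsg.Agent.Lib.Lie.Chev.TwoGen
import Cfsg.Agent.Lib.Lie.Chev.Borel

/-!
# The torus element of the class: grades, the longest word
-/

set_option autoImplicit false

namespace CfsgLib.Lie.ClassSquare

open Cfsg.Lie CfsgLib.Lie.Chev CfsgLib.Lie.Chev.TwoGen
open scoped MatrixGroups

/-- the pairing of an integral combination of fundamental coroots with a root -/
def gradeD (D : ChevalleyDatum) (d : List ℤ) (r : ℕ) : ℤ :=
  ∑ i : Fin D.rank, d.getD i.val 0 * D.cartan i.val r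

/-- positivity of a root, read off its coroot -/
def posB (D : ChevalleyDatum) (r : ℕ) : Bool :=
  (D.coroot.getD r #[]).toList.all fun c => decide (0 ≤ c)

/-- the finite conditions on the torus element and the word -/
structure TorTab (D : ChevalleyDatum) (d : List ℤ) (w : List (Fin D.rank)) : Prop where
  simp_nonneg : ∀ i : Fin D.rank, 0 ≤ gradeD D d (D.simple i.val)
  small : ∀ r : Fin D.nroots, (gradeD D d r.val).natAbs < 8
  word : ∀ j : Fin D.rank, ∃ m : Fin D.rank,
    wordRoot D (w.map Fin.val) (D.simple j.val) = D.neg (D.simple m.val) ∧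
      gradeD D d (D.simple j.val) = gradeD D d (D.simple m.val)

section

variable {D : ChevalleyDatum} {K : Type*} [Field K] (C : Full D) {d : List ℤ} {w : List (Fin D.rank)}

/-- the set of fundamental roots of grade zero -/
def zeroNodes (D : ChevalleyDatum) (d : List ℤ) : Finset (Fin D.rank) :=
  Finset.univ.filter fun i => gradeD D d (D.simple i.val) = 0

include C

theorem posB_iff (r : Fin D.nroots) : posB D r.val = true ↔ D.IsPosRoot r.val := by
  rw [posB, List.all_eq_true]
  exact ⟨fun h => ⟨r.isLt, fun c hc => of_decide_eq_true (h c hc)⟩, fun h c hc => decide_eq_true (h.2 c hc)⟩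

theorem pw_val (l : List (Fin D.rank)) (r : Fin D.nroots) :
    (C.G.pw l r).val = wordRoot D (l.map Fin.val) r.val := by
  induction l with
  | nil => simp [C.G.pw_nil, wordRoot]
  | cons i l ih =>
    rw [C.G.pw_cons, Equiv.Perm.mul_apply, Good.sP_apply, C.G.w_reflect, ih]
    simp [wordRoot]

theorem gradeD_eq (r : Fin D.nroots) :
    gradeD D d r.val = ∑ m, C.G.rho r m * gradeD D d (D.simple m.val) := by
  simp only [gradeD, Finset.mul_sum]
  rw [Finset.sum_comm]
  refine Finset.sum_congr rfl fun i _ => ?_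
  rw [show D.cartan i.val r.val = cart D i r from rfl, C.G.cart_eq, Finset.mul_sum]
  refine Finset.sum_congr rfl fun m _ => ?_
  rw [cart, C.G.simp_val]
  ring

theorem gradeD_negr (r : Fin D.nroots) : gradeD D d (C.G.negr r).val = - gradeD D d r.val := by
  rw [gradeD_eq C, gradeD_eq C, C.G.rho_negr, ← Finset.sum_neg_distrib]
  exact Finset.sum_congr rfl fun m _ => by simp

theorem inJ_iff (h : ∀ i : Fin D.rank, 0 ≤ gradeD D d (D.simple i.val)) (r : Fin D.nroots) :
    InJ C.G (zeroNodes D d) r ↔ gradeD D d r.val = 0 := by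
  have hz : ∀ m, m ∈ zeroNodes D d ↔ gradeD D d (D.simple m.val) = 0 := fun m => by
    simp [zeroNodes]
  rw [gradeD_eq C]
  constructor
  · intro hJ
    refine Finset.sum_eq_zero fun m _ => ?_
    by_cases hm : m ∈ zeroNodes D d
    · rw [(hz m).1 hm, mul_zero]
    · rw [hJ m hm, zero_mul]
  · intro h0 m hm
    have hne : gradeD D d (D.simple m.val) ≠ 0 := fun e => hm ((hz m).2 e)
    rcases C.G.rho_sign r with hs | hs
    · exact (mul_eq_zero.1 ((Finset.sum_eq_zero_iff_of_nonneg fun j _ => mul_nonneg (hs j) (h j)).1 h0 m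
        (Finset.mem_univ m))).resolve_right hne
    · exact (mul_eq_zero.1 ((Finset.sum_eq_zero_iff_of_nonpos fun j _ =>
        mul_nonpos_of_nonpos_of_nonneg (hs j) (h j)).1 h0 m (Finset.mem_univ m))).resolve_right hne

/-- the word sends every positive root to a negative one and changes the sign of the grade -/
theorem word_root (T : TorTab D d w) (r : Fin D.nroots) :
    gradeD D d (C.G.pw w r).val = - gradeD D d r.val ∧
      (D.IsPosRoot r.val → ¬ D.IsPosRoot (C.G.pw w r).val) := by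
  choose τ hτ hgr using T.word
  have hs : ∀ j, C.G.pw w (C.G.simp' j) = C.G.negr (C.G.simp' (τ j)) := fun j => Fin.ext (by
    rw [pw_val C, C.G.negr_val, C.G.simp_val, C.G.simp_val, hτ])
  have hrho : ∀ m, C.G.rho (C.G.pw w r) m = - ∑ j, if τ j = m then C.G.rho r j else 0 := fun m => by
    rw [C.G.rho_pw, Finset.sum_apply, ← Finset.sum_neg_distrib]
    refine Finset.sum_congr rfl fun j _ => ?_
    rw [hs, C.G.rho_negr, C.G.rho_simp]
    simp [Pi.single_apply, eq_comm]
  constructor
  · rw [gradeD_eq C, gradeD_eq C, ← Finset.sum_neg_distrib]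
    simp only [hrho, neg_mul, Finset.sum_mul, ite_mul, zero_mul]
    rw [Finset.sum_neg_distrib, Finset.sum_comm, Finset.sum_neg_distrib]
    refine congrArg Neg.neg (Finset.sum_congr rfl fun j _ => ?_)
    rw [Finset.sum_ite_eq, if_pos (Finset.mem_univ _), ← hgr]
  · intro hr hp
    have h1 := C.G.rho_nonneg hp
    have h2 : ∀ m, C.G.rho (C.G.pw w r) m = 0 := fun m => le_antisymm (by
      rw [hrho, neg_nonpos]
      exact Finset.sum_nonneg fun j _ => by
        split_ifs
        · exact C.G.rho_nonneg hr j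
        · exact le_rfl) (h1 m)
    exact C.G.rho_ne_zero _ (funext h2)

/-- an integral combination of fundamental coroots at a unit -/
theorem chi_pow (u : Kˣ) (e : List ℤ) (r : Fin D.nroots) :
    C.G.chi (fun l => ∏ i : Fin D.rank, (u ^ e.getD i.val 0) ^ cart D i (C.G.simp' l)) (C.G.rho r) =
      u ^ gradeD D e r.val := by
  have hsum : ∀ {ι : Type} (s : Finset ι) (f : ι → ℤ), ∏ i ∈ s, u ^ f i = u ^ ∑ i ∈ s, f i := by
    intro ι s f
    classical
    induction s using Finset.induction with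
    | empty => simp
    | insert a s ha ih => rw [Finset.prod_insert ha, Finset.sum_insert ha, zpow_add, ih]
  simp only [Good.chi, ← zpow_mul, hsum]
  congr 1
  simp only [gradeD, Finset.sum_mul]
  rw [Finset.sum_comm]
  refine Finset.sum_congr rfl fun i _ => ?_
  rw [show D.cartan i.val r.val = cart D i r from rfl, C.G.cart_eq, Finset.mul_sum]
  exact Finset.sum_congr rfl fun m _ => by ring

theorem torθ_pow_conj (u : Kˣ) (e : List ℤ) (r : Fin D.nroots) (t : K) :
    C.G.torθ (fun i : Fin D.rank => u ^ e.getD i.val 0) * C.G.xu r t *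
      (C.G.torθ (fun i : Fin D.rank => u ^ e.getD i.val 0))⁻¹ =
      C.G.xu r (((u ^ gradeD D e r.val : Kˣ) : K) * t) := by
  rw [← chi_pow C u e r]
  exact C.G.tor_conj_xu _ r t

omit C in
theorem exists_unit [Finite K] (hK : 9 ≤ Nat.card K) :
    ∃ z : Kˣ, ∀ g : ℤ, g ≠ 0 → g.natAbs < 8 → z ^ g ≠ 1 := by
  classical
  have := Fintype.ofFinite K
  obtain ⟨z, hz⟩ := IsCyclic.exists_generator (α := Kˣ)
  refine ⟨z, fun g hg hlt h => ?_⟩
  have hord : orderOf z = Nat.card K - 1 := by
    rw [orderOf_eq_card_of_forall_mem_zpowers hz, Nat.card_units]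
  have h1 := orderOf_dvd_iff_zpow_eq_one.2 h
  rw [Int.natCast_dvd] at h1
  have := Nat.le_of_dvd (Int.natAbs_pos.2 hg) h1
  omega

theorem nw_conj_tor : ∀ (l : List (Fin D.rank)) (c : Fin D.rank → Kˣ), ∃ c' : Fin D.rank → Kˣ,
    C.G.nw l * C.G.tor c = C.G.tor c' * C.G.nw l ∧
      ∀ r, C.G.chi c' (C.G.rho (C.G.pw l r)) = C.G.chi c (C.G.rho r) := by
  intro l
  induction l with
  | nil => exact fun c => ⟨c, by simp [C.G.nw_nil], fun r => by simp [C.G.pw_nil]⟩
  | cons i l ih =>
    intro c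
    obtain ⟨c', h1, h2⟩ := ih c
    refine ⟨C.G.wc i c', ?_, fun r => ?_⟩
    · rw [C.G.nw_cons, mul_assoc, h1, ← mul_assoc, C.G.nU_tor, mul_assoc]
    · rw [C.G.pw_cons, Equiv.Perm.mul_apply, Good.sP_apply, ← C.G.chi_rho_w, C.G.w_w, h2]

theorem nw_mem_group (l : List (Fin D.rank)) : C.G.nw l ∈ D.group K :=
  C.G.monomial_le_group (C.G.nw_mem_monomial l)

/-- the word inverts the torus element -/
theorem nw_torθ (T : TorTab D d w) (u : Kˣ) :
    C.G.nw w * C.G.torθ (fun i : Fin D.rank => u ^ d.getD i.val 0) * (C.G.nw w)⁻¹ =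
      (C.G.torθ (fun i : Fin D.rank => u ^ d.getD i.val 0))⁻¹ := by
  set a : Fin D.rank → Kˣ :=
    fun l => ∏ i : Fin D.rank, (u ^ d.getD i.val 0) ^ cart D i (C.G.simp' l) with hadef
  have ha : C.G.torθ (fun i : Fin D.rank => u ^ d.getD i.val 0) = C.G.tor a := rfl
  obtain ⟨c', h1, h2⟩ := nw_conj_tor C w a
  have hc' : c' = a⁻¹ := by
    funext m
    obtain ⟨r, hr⟩ := (C.G.pw w).surjective (C.G.simp' m)
    have e1 : c' m = u ^ gradeD D d r.val := by
      rw [← C.G.chi_single c' m, ← C.G.rho_simp, ← hr, h2, hadef, chi_pow C]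
    have e2 : a m = u ^ gradeD D d (C.G.simp' m).val := by
      rw [← chi_pow C u d (C.G.simp' m), C.G.rho_simp, C.G.chi_single]
    rw [e1, Pi.inv_apply, e2, ← hr, (word_root C T r).1, zpow_neg, inv_inv]
  rw [ha, h1, hc', map_inv, mul_inv_cancel_right]

/-- what the torus part of the data gives -/
theorem tor_fields (T : TorTab D d w) (z : Kˣ) (hz : ∀ g : ℤ, g ≠ 0 → g.natAbs < 8 → z ^ g ≠ 1) :
    (∀ r, InJ C.G (zeroNodes D d) r →
      C.G.chi (fun l => ∏ i : Fin D.rank, (z ^ d.getD i.val 0) ^ cart D i (C.G.simp' l)) (C.G.rho r) = 1) ∧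
    (∀ r, ¬ InJ C.G (zeroNodes D d) r →
      C.G.chi (fun l => ∏ i : Fin D.rank, (z ^ d.getD i.val 0) ^ cart D i (C.G.simp' l)) (C.G.rho r) ≠ 1) ∧
    (∀ r, InJ C.G (zeroNodes D d) r ↔ InJ C.G (zeroNodes D d) (C.G.pw w r)) := by
  refine ⟨fun r hr => ?_, fun r hr => ?_, fun r => ?_⟩
  · rw [chi_pow C, (inJ_iff C T.simp_nonneg r).1 hr, zpow_zero]
  · rw [chi_pow C]
    exact hz _ (fun e => hr ((inJ_iff C T.simp_nonneg r).2 e)) (T.small r)
  · rw [inJ_iff C T.simp_nonneg, inJ_iff C T.simp_nonneg, (word_root C T r).1, neg_eq_zero]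

/-- the empty Levi subgroup: a regular torus element -/
theorem nonempty_of_torus [Finite K] (hK : 9 ≤ Nat.card K) (T : TorTab D d w)
    (h0 : ∀ r : Fin D.nroots, gradeD D d r.val ≠ 0) : Nonempty (LeviCov C K) := by
  obtain ⟨z, hz⟩ := exists_unit (K := K) hK
  obtain ⟨hfix, hmov, hwJ⟩ := tor_fields C T z hz
  have hno : ∀ r, ¬ InJ C.G (zeroNodes D d) r := fun r h => h0 r ((inJ_iff C T.simp_nonneg r).1 h)
  have hV : ∀ v ∈ (VJ C.G (zeroNodes D d) : Subgroup (GL D.Idx K)), v = 1 := by
    intro v hv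
    induction hv using Subgroup.closure_induction with
    | mem x hx => obtain ⟨r, t, ⟨-, h⟩, -⟩ := hx; exact absurd h (hno r)
    | one => rfl
    | mul x y _ _ a b => rw [a, b, one_mul]
    | inv x _ a => rw [a, inv_one]
  have hU : ∀ v ∈ (UJ C.G (zeroNodes D d) : Subgroup (GL D.Idx K)), v = 1 := by
    intro v hv
    induction hv using Subgroup.closure_induction with
    | mem x hx => obtain ⟨r, t, ⟨-, h⟩, -⟩ := hx; exact absurd h (hno r)
    | one => rfl
    | mul x y _ _ a b => rw [a, b, one_mul]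
    | inv x _ a => rw [a, inv_one]
  exact ⟨{
    J := zeroNodes D d
    c := fun i => z ^ d.getD i.val 0
    fixJ := hfix
    moved := hmov
    l0 := w
    l0_neg := fun r => (word_root C T r).2
    l0_J := hwJ
    σ := 1
    σ_mem := one_mem _
    σ_pow := fun p _ _ => ⟨0, one_pow _⟩
    d := 1
    d_mem := one_mem _
    cover := fun v hv u hu => ⟨1, one_mem _, 1, one_mem _, by simp [hV v hv, hU u hu]⟩
    real := ⟨C.G.nw w, nw_mem_group C w, by rw [mul_one, nw_torθ C T]⟩ }⟩

end

end CfsgLib.Lie.ClassSquare
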