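import Cfsg.Agent.Lib.Lie.ClassSquare.LeviTorus
import Cfsg.Agent.Lib.Lie.ClassSquare.LeviMat

/-!
# The data of a Levi subgroup of type `A`
-/

set_option autoImplicit false

namespace CfsgLib.Lie.ClassSquare

open Cfsg.Lie CfsgLib.Lie.Chev CfsgLib.Lie.Chev.TwoGen
open Matrix
open scoped MatrixGroups

/-- index of `i` or of its mirror image -/
def tauRev (rev : Bool) {m : ℕ} (i : Fin m) : Fin m := if rev then i.rev else i

theorem tauRev_tauRev (rev : Bool) {m : ℕ} (i : Fin m) : tauRev rev (tauRev rev i) = i := by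
  cases rev <;> simp [tauRev]

/-- the finite conditions on the roots of a subsystem of type `A` -/
structure ATab (D : ChevalleyDatum) (d : List ℤ) (w : List (Fin D.rank)) {m : ℕ}
    (r : Fin (m + 1) → Fin (m + 1) → ℕ) (e : Fin (m + 1) → Fin (m + 1) → ℤ) (h : List ℤ) (rev : Bool) : Prop where
  root : ∀ i j, i ≠ j → r i j < D.nroots ∧ gradeD D d (r i j) = 0 ∧ (e i j = 1 ∨ e i j = -1) ∧
    posB D (r i j) = decide (i < j)
  onto : ∀ s : Fin D.nroots, gradeD D d s.val = 0 → ∃ i j, i ≠ j ∧ r i j = s.val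
  comm : ∀ i j k l, i ≠ j → k ≠ l → i ≠ l → j ≠ k → r i j = r k l ∧ i = k ∧ j = l ∨
    r k l ≠ r i j ∧ r k l ≠ D.neg (r i j) ∧ D.commTerms (r i j) (r k l) = []
  prod : ∀ i j k, i ≠ j → j ≠ k → i ≠ k → r j k ≠ r i j ∧ r j k ≠ D.neg (r i j) ∧
    D.commTerms (r i j) (r j k) = [(r i k, e i k * e i j * e j k, 1, 1)]
  diag : ∀ i j, i ≠ j → gradeD D h (r i j) = (if i = 0 then 1 else 0) - (if j = 0 then 1 else 0)
  pair : e 0 1 = 1 ∧ e 1 0 = 1 ∧ r 1 0 = D.neg (r 0 1)
  image : ∀ i : Fin m, wordRoot D (w.map Fin.val) (r i.castSucc i.succ) =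
    r (tauRev rev i).succ (tauRev rev i).castSucc

section

variable {D : ChevalleyDatum} {K : Type*} [Field K] (C : Full D) {d h : List ℤ} {w : List (Fin D.rank)} {m : ℕ}
  {r : Fin (m + 1) → Fin (m + 1) → ℕ} {e : Fin (m + 1) → Fin (m + 1) → ℤ} {rev : Bool}

/-- the root with the given indices -/
def rootF (A : ATab D d w r e h rev) {i j : Fin (m + 1)} (hij : i ≠ j) : Fin D.nroots :=
  ⟨r i j, (A.root i j hij).1⟩

/-- the images of the transvections -/
noncomputable def XF (A : ATab D d w r e h rev) (i j : Fin (m + 1)) (t : K) : GL D.Idx K :=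
  if hij : i ≠ j then C.G.xu (rootF A hij) ((e i j : K) * t) else 1

include C

theorem comm_empty {a b : Fin D.nroots} (h1 : b ≠ a) (h2 : b.val ≠ D.neg a.val)
    (he : D.commTerms a.val b.val = []) (t u : K) : C.G.xu a t * C.G.xu b u = C.G.xu b u * C.G.xu a t := by
  have hn : b ≠ C.G.negr a := fun e => h2 (by rw [e, C.G.negr_val])
  have hc := C.commAt a b h1 hn t u
  simp only [CommAt, cwR, he, List.map_nil, wordR, List.prod_nil, mul_one] at hc
  apply Units.ext
  simp only [Units.val_mul, Good.coe_xu]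
  exact hc.symm

theorem comm_single {a b c : Fin D.nroots} {N : ℤ} (h1 : b ≠ a) (h2 : b.val ≠ D.neg a.val)
    (he : D.commTerms a.val b.val = [(c.val, N, 1, 1)]) (t u : K)
    (hca : ∀ x y : K, C.G.xu c x * C.G.xu a y = C.G.xu a y * C.G.xu c x)
    (hcb : ∀ x y : K, C.G.xu c x * C.G.xu b y = C.G.xu b y * C.G.xu c x) :
    C.G.xu a t * C.G.xu b u * (C.G.xu a t)⁻¹ * (C.G.xu b u)⁻¹ = C.G.xu c ((N : K) * t * u) := by
  have hn : b ≠ C.G.negr a := fun e => h2 (by rw [e, C.G.negr_val])
  have hc := C.commAt a b h1 hn t u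
  simp only [CommAt, cwR, he, List.map_cons, List.map_nil, wordR, List.prod_cons, List.prod_nil, mul_one,
    pow_one, xN, dif_pos c.isLt, Fin.eta] at hc
  have hW : C.G.xu b u * C.G.xu a t = C.G.xu a t * C.G.xu b u * C.G.xu c ((N : K) * -t * u) := by
    apply Units.ext
    simp only [Units.val_mul, Good.coe_xu]
    exact hc
  have hW' : C.G.xu a t * C.G.xu b u = C.G.xu b u * C.G.xu a t * C.G.xu c ((N : K) * t * u) := by
    rw [hW, mul_assoc, ← C.G.xu_add, show (N : K) * -t * u + (N : K) * t * u = 0 by ring, C.G.xu_zero, mul_one]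
  rw [hW', mul_assoc _ (C.G.xu c _) (C.G.xu a t)⁻¹, (Commute.inv_right (hca _ _)).eq, ← mul_assoc,
    mul_inv_cancel_right, mul_assoc, (Commute.inv_right (hcb _ _)).eq, ← mul_assoc, mul_inv_cancel, one_mul]

variable (A : ATab D d w r e h rev)

include A

omit C in
theorem sign_sq {i j : Fin (m + 1)} (hij : i ≠ j) : (e i j : K) * (e i j : K) = 1 := by
  rcases (A.root i j hij).2.2.1 with q | q <;> simp [q]

theorem XF_comm {i j k l : Fin (m + 1)} (hij : i ≠ j) (hkl : k ≠ l) (hil : i ≠ l) (hjk : j ≠ k) (t u : K) :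
    C.G.xu (rootF A hij) t * C.G.xu (rootF A hkl) u = C.G.xu (rootF A hkl) u * C.G.xu (rootF A hij) t := by
  rcases A.comm i j k l hij hkl hil hjk with ⟨-, rfl, rfl⟩ | ⟨h1, h2, h3⟩
  · rw [← C.G.xu_add, ← C.G.xu_add, add_comm]
  · exact comm_empty C (a := rootF A hij) (b := rootF A hkl) (fun q => h1 (congrArg Fin.val q)) h2 h3 t u

theorem stRel_XF : CfsgLib.Char.SingleBond.StRel (XF C A : Fin (m + 1) → Fin (m + 1) → K → GL D.Idx K) where
  add {i j} hij t u := by simp only [XF, dif_pos hij, ← C.G.xu_add, mul_add]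
  comm {i j k l} hij hkl hil hjk t u := by
    simp only [XF, dif_pos hij, dif_pos hkl]
    exact XF_comm C A hij hkl hil hjk _ _
  prod {i j k} hij hjk hik t u := by
    simp only [XF, dif_pos hij, dif_pos hjk, dif_pos hik]
    obtain ⟨h1, h2, h3⟩ := A.prod i j k hij hjk hik
    rw [comm_single C (a := rootF A hij) (b := rootF A hjk) (c := rootF A hik)
      (fun q => h1 (congrArg Fin.val q)) h2 h3 _ _
      (fun x y => XF_comm C A hik hij hij hik.symm x y) (fun x y => XF_comm C A hik hjk hik hjk.symm x y)]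
    congr 1
    push_cast
    rw [show (e i k : K) * (e i j : K) * (e j k : K) * ((e i j : K) * t) * ((e j k : K) * u) =
      (e i k : K) * ((e i j : K) * (e i j : K)) * ((e j k : K) * (e j k : K)) * (t * u) by ring,
      sign_sq A hij, sign_sq A hjk, mul_one, mul_one]

theorem exists_phi [Finite K] (hm : 2 ≤ m) : ∃ φ : Matrix.SpecialLinearGroup (Fin (m + 1)) K →* GL D.Idx K,
    ∀ i j (hij : i ≠ j) (t : K), φ (Matrix.SpecialLinearGroup.transvection hij t) =
      C.G.xu (rootF A hij) ((e i j : K) * t) := by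
  obtain ⟨φ, hφ⟩ := (stRel_XF C A).exists_hom (F := K) (by omega)
  exact ⟨φ, fun i j hij t => by rw [hφ i j hij t, XF, dif_pos hij]⟩

variable {φ : Matrix.SpecialLinearGroup (Fin (m + 1)) K →* GL D.Idx K}
  (hφ : ∀ i j (hij : i ≠ j) (t : K), φ (Matrix.SpecialLinearGroup.transvection hij t) =
    C.G.xu (rootF A hij) ((e i j : K) * t))

include hφ

theorem phi_mem_LJ (T : TorTab D d w) (g : Matrix.SpecialLinearGroup (Fin (m + 1)) K) :
    φ g ∈ (LJ C.G (zeroNodes D d) : Subgroup (GL D.Idx K)) := by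
  have htop : (LJ C.G (zeroNodes D d) : Subgroup (GL D.Idx K)).comap φ = ⊤ :=
    CfsgLib.Classical.sl_eq_top _ fun i j hij t => by
      show φ _ ∈ (LJ C.G (zeroNodes D d) : Subgroup (GL D.Idx K))
      rw [hφ i j hij t]
      exact Subgroup.subset_closure
        ⟨_, _, (inJ_iff C T.simp_nonneg _).2 (A.root i j hij).2.1, rfl⟩
  exact (htop.symm ▸ Subgroup.mem_top g : g ∈ (LJ C.G (zeroNodes D d) : Subgroup (GL D.Idx K)).comap φ)

theorem exists_root (T : TorTab D d w) {s : Fin D.nroots} (hs : InJ C.G (zeroNodes D d) s) (t : K) :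
    ∃ i j, ∃ hij : i ≠ j, (D.IsPosRoot s.val ↔ i < j) ∧
      ∃ a : K, φ (Matrix.SpecialLinearGroup.transvection hij a) = C.G.xu s t := by
  obtain ⟨i, j, hij, hr⟩ := A.onto s ((inJ_iff C T.simp_nonneg s).1 hs)
  refine ⟨i, j, hij, ?_, (e i j : K) * t, ?_⟩
  · rw [← posB_iff C, ← hr, (A.root i j hij).2.2.2, decide_eq_true_iff]
  · rw [hφ, ← mul_assoc, sign_sq A hij, one_mul, show rootF A hij = s from Fin.ext hr]

theorem exists_upper (T : TorTab D d w) {g : GL D.Idx K}
    (hg : g ∈ (UJ C.G (zeroNodes D d) : Subgroup (GL D.Idx K))) :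
    ∃ U : Matrix.SpecialLinearGroup (Fin (m + 1)) K, φ U = g ∧
      (∀ i j : Fin (m + 1), j.val < i.val → U.1 i j = 0) ∧ (∀ i, U.1 i i = 1) ∧
      (∀ i j : Fin (m + 1), j.val < i.val → (U⁻¹).1 i j = 0) ∧ ∀ i, (U⁻¹).1 i i = 1 := by
  induction hg using Subgroup.closure_induction with
  | mem x hx =>
    obtain ⟨s, t, ⟨hp, hs⟩, rfl⟩ := hx
    obtain ⟨i, j, hij, hiff, a, ha⟩ := exists_root C A hφ T hs t
    have hlt := hiff.1 hp
    have hent : ∀ b : K, (∀ x y : Fin (m + 1), y.val < x.val →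
        (Matrix.SpecialLinearGroup.transvection hij b).1 x y = 0) ∧
        ∀ x, (Matrix.SpecialLinearGroup.transvection hij b).1 x x = 1 := by
      intro b
      refine ⟨fun x y hxy => ?_, fun x => ?_⟩
      · show (1 + Matrix.single i j b : Matrix _ _ K) x y = 0
        rw [Matrix.add_apply, Matrix.one_apply_ne (fun q => by rw [q] at hxy; omega), Matrix.single_apply,
          if_neg, add_zero]
        rintro ⟨rfl, rfl⟩
        have : i.val < j.val := hlt
        omega
      · show (1 + Matrix.single i j b : Matrix _ _ K) x x = 1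
        rw [Matrix.add_apply, Matrix.one_apply_eq, Matrix.single_apply, if_neg, add_zero]
        rintro ⟨rfl, rfl⟩
        exact hij rfl
    have hinv : (Matrix.SpecialLinearGroup.transvection hij a)⁻¹ = Matrix.SpecialLinearGroup.transvection hij (-a) := by
      rw [inv_eq_iff_mul_eq_one]
      apply Subtype.ext
      show (1 + Matrix.single i j a) * (1 + Matrix.single i j (-a)) = 1
      simp [Matrix.add_mul, Matrix.mul_add, Matrix.single_mul_single_of_ne _ _ _ _ hij.symm, ← Matrix.single_neg]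
    exact ⟨_, ha, (hent a).1, (hent a).2, hinv ▸ (hent (-a)).1, hinv ▸ (hent (-a)).2⟩
  | one =>
    refine ⟨1, map_one φ, fun i j hij => Matrix.one_apply_ne fun q => by rw [q] at hij; omega,
      fun i => Matrix.one_apply_eq i, ?_, ?_⟩
    · rw [inv_one]; exact fun i j hij => Matrix.one_apply_ne fun q => by rw [q] at hij; omega
    · rw [inv_one]; exact fun i => Matrix.one_apply_eq i
  | mul x y _ _ hx hy =>
    obtain ⟨U, rfl, a1, a2, a3, a4⟩ := hx
    obtain ⟨U', rfl, b1, b2, b3, b4⟩ := hy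
    obtain ⟨p1, p2, -⟩ := CfsgLib.Classical.TwoUnip.mul_upper a1 b1
    obtain ⟨q1, q2, -⟩ := CfsgLib.Classical.TwoUnip.mul_upper b3 a3
    refine ⟨U * U', map_mul φ U U', p1, fun i => (p2 i).trans (by rw [a2, b2, one_mul]), ?_, ?_⟩
    · rw [_root_.mul_inv_rev]; exact q1
    · rw [_root_.mul_inv_rev]; exact fun i => (q2 i).trans (by rw [a4, b4, one_mul])
  | inv x _ hx =>
    obtain ⟨U, rfl, a1, a2, a3, a4⟩ := hx
    exact ⟨U⁻¹, map_inv φ U, a3, a4, by rwa [inv_inv], by rwa [inv_inv]⟩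

theorem exists_lower (T : TorTab D d w) {g : GL D.Idx K}
    (hg : g ∈ (VJ C.G (zeroNodes D d) : Subgroup (GL D.Idx K))) :
    ∃ V : Matrix.SpecialLinearGroup (Fin (m + 1)) K, φ V = g ∧
      (∀ i j : Fin (m + 1), i.val < j.val → V.1 i j = 0 ∧ (V⁻¹).1 i j = 0) ∧
      (∀ i, V.1 i i = 1 ∧ (V⁻¹).1 i i = 1) := by
  induction hg using Subgroup.closure_induction with
  | mem x hx =>
    obtain ⟨s, t, ⟨hp, hs⟩, rfl⟩ := hx
    obtain ⟨i, j, hij, hiff, a, ha⟩ := exists_root C A hφ T hs t
    have hgt : j.val < i.val := by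
      have : ¬ i < j := fun q => hp (hiff.2 q)
      have hne : i.val ≠ j.val := fun q => hij (Fin.ext q)
      rw [Fin.lt_def] at this
      omega
    have hent : ∀ b : K, (∀ x y : Fin (m + 1), x.val < y.val →
        (Matrix.SpecialLinearGroup.transvection hij b).1 x y = 0) ∧
        ∀ x, (Matrix.SpecialLinearGroup.transvection hij b).1 x x = 1 := by
      intro b
      refine ⟨fun x y hxy => ?_, fun x => ?_⟩
      · show (1 + Matrix.single i j b : Matrix _ _ K) x y = 0
        rw [Matrix.add_apply, Matrix.one_apply_ne (fun q => by rw [q] at hxy; omega), Matrix.single_apply,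
          if_neg, add_zero]
        rintro ⟨rfl, rfl⟩
        omega
      · show (1 + Matrix.single i j b : Matrix _ _ K) x x = 1
        rw [Matrix.add_apply, Matrix.one_apply_eq, Matrix.single_apply, if_neg, add_zero]
        rintro ⟨rfl, rfl⟩
        exact hij rfl
    have hinv : (Matrix.SpecialLinearGroup.transvection hij a)⁻¹ = Matrix.SpecialLinearGroup.transvection hij (-a) := by
      rw [inv_eq_iff_mul_eq_one]
      apply Subtype.ext
      show (1 + Matrix.single i j a) * (1 + Matrix.single i j (-a)) = 1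
      simp [Matrix.add_mul, Matrix.mul_add, Matrix.single_mul_single_of_ne _ _ _ _ hij.symm, ← Matrix.single_neg]
    exact ⟨_, ha, fun x y hxy => ⟨(hent a).1 x y hxy, hinv ▸ (hent (-a)).1 x y hxy⟩,
      fun x => ⟨(hent a).2 x, hinv ▸ (hent (-a)).2 x⟩⟩
  | one =>
    refine ⟨1, map_one φ, fun i j hij => ⟨?_, ?_⟩, fun i => ⟨Matrix.one_apply_eq i, ?_⟩⟩
    · exact Matrix.one_apply_ne fun q => by rw [q] at hij; omega
    · rw [inv_one]; exact Matrix.one_apply_ne fun q => by rw [q] at hij; omega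
    · rw [inv_one]; exact Matrix.one_apply_eq i
  | mul x y _ _ hx hy =>
    obtain ⟨U, rfl, a1, a2⟩ := hx
    obtain ⟨U', rfl, b1, b2⟩ := hy
    have key : ∀ {P Q : Matrix (Fin (m + 1)) (Fin (m + 1)) K},
        (∀ i j : Fin (m + 1), i.val < j.val → P i j = 0) → (∀ i, P i i = 1) →
        (∀ i j : Fin (m + 1), i.val < j.val → Q i j = 0) → (∀ i, Q i i = 1) →
        (∀ i j : Fin (m + 1), i.val < j.val → (P * Q) i j = 0) ∧ ∀ i, (P * Q) i i = 1 := by
      intro P Q hP hP1 hQ hQ1
      obtain ⟨p1, p2, -⟩ := CfsgLib.Classical.TwoUnip.mul_upper (A := Qᵀ) (B := Pᵀ) (fun i j q => hQ j i q)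
        (fun i j q => hP j i q)
      rw [← Matrix.transpose_mul] at p1 p2
      exact ⟨fun i j q => p1 j i q, fun i => (p2 i).trans (by simp [hP1, hQ1])⟩
    obtain ⟨p1, p2⟩ := key (fun i j q => (a1 i j q).1) (fun i => (a2 i).1) (fun i j q => (b1 i j q).1)
      fun i => (b2 i).1
    obtain ⟨q1, q2⟩ := key (fun i j q => (b1 i j q).2) (fun i => (b2 i).2) (fun i j q => (a1 i j q).2)
      fun i => (a2 i).2
    exact ⟨U * U', map_mul φ U U', fun i j q => ⟨p1 i j q, by rw [_root_.mul_inv_rev]; exact q1 i j q⟩,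
      fun i => ⟨p2 i, by rw [_root_.mul_inv_rev]; exact q2 i⟩⟩
  | inv x _ hx =>
    obtain ⟨U, rfl, a1, a2⟩ := hx
    exact ⟨U⁻¹, map_inv φ U, fun i j q => ⟨(a1 i j q).2, by rw [inv_inv]; exact (a1 i j q).1⟩,
      fun i => ⟨(a2 i).2, by rw [inv_inv]; exact (a2 i).1⟩⟩

theorem conj_GL [Finite K] (T : TorTab D d w) (X : GL (Fin (m + 1)) K) :
    ∃ x ∈ (D.diagonalSubgroup K ⊔ LJ C.G (zeroNodes D d) : Subgroup (GL D.Idx K)),
      ∀ g, x * φ g * x⁻¹ = φ (conjSL X g) := by
  set u : Kˣ := Matrix.GeneralLinearGroup.det X with hu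
  have hdet : ((diagU u)⁻¹ * X : GL (Fin (m + 1)) K).1.det = 1 := by
    have h1 : Matrix.GeneralLinearGroup.det (diagU u : GL (Fin (m + 1)) K) = u := Units.ext (det_diagU u)
    have h2 : Matrix.GeneralLinearGroup.det ((diagU u)⁻¹ * X : GL (Fin (m + 1)) K) = 1 := by
      rw [map_mul, map_inv, h1, hu, inv_mul_cancel]
    exact congrArg Units.val h2
  let S : Matrix.SpecialLinearGroup (Fin (m + 1)) K := ⟨((diagU u)⁻¹ * X : GL (Fin (m + 1)) K).1, hdet⟩
  let hu' : GL D.Idx K := C.G.torθ fun i : Fin D.rank => u ^ h.getD i.val 0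
  have hH : hu' ∈ D.diagonalSubgroup K := by rw [C.G.diagonal_eq_range]; exact ⟨_, rfl⟩
  have hom : (MulAut.conj hu').toMonoidHom.comp φ = φ.comp (conjSL (diagU u)) :=
    CfsgLib.Char.SingleBond.sl_hom_ext fun i j hij t => by
      show hu' * φ _ * hu'⁻¹ = φ (conjSL (diagU u) _)
      rw [conjSL_diagU_transvection, hφ, hφ, torθ_pow_conj C]
      congr 1
      rw [show gradeD D h (rootF A hij).val = _ from A.diag i j hij]
      ring
  refine ⟨hu' * φ S, mul_mem (le_sup_left (α := Subgroup (GL D.Idx K)) hH)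
    (le_sup_right (α := Subgroup (GL D.Idx K)) (phi_mem_LJ C A hφ T S)), fun g => ?_⟩
  have e1 : hu' * φ S * φ g * (hu' * φ S)⁻¹ = hu' * φ (S * g * S⁻¹) * hu'⁻¹ := by
    rw [map_mul, map_mul, map_inv]; group
  have e2 : S * g * S⁻¹ = conjSL ((diagU u)⁻¹ * X) g := by
    apply Subtype.ext
    have hSi : (S⁻¹ : Matrix.SpecialLinearGroup (Fin (m + 1)) K).1 =
        ((((diagU u)⁻¹ * X : GL (Fin (m + 1)) K))⁻¹ : GL (Fin (m + 1)) K).1 := by
      refine left_inv_eq_right_inv (a := S.1) ?_ (Units.mul_inv ((diagU u)⁻¹ * X : GL (Fin (m + 1)) K))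
      exact congrArg Subtype.val (inv_mul_cancel S)
    show S.1 * g.1 * (S⁻¹ : Matrix.SpecialLinearGroup (Fin (m + 1)) K).1 = _
    rw [hSi, coe_conjSL]
  rw [e1, show hu' * φ (S * g * S⁻¹) * hu'⁻¹ = φ (conjSL (diagU u) (S * g * S⁻¹)) from
    DFunLike.congr_fun hom (S * g * S⁻¹), e2, ← conjSL_mul, mul_inv_cancel_left]

end

section

variable {D : ChevalleyDatum} {K : Type*} [Field K] (C : Full D) {d h : List ℤ} {w : List (Fin D.rank)} {m : ℕ}
  {r : Fin (m + 1) → Fin (m + 1) → ℕ} {e : Fin (m + 1) → Fin (m + 1) → ℤ} {rev : Bool}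

include C

/-- a Levi subgroup of type `A` gives the data -/
theorem nonempty_of_typeA [Finite K] (hK : 9 ≤ Nat.card K) (T : TorTab D d w) (A : ATab D d w r e h rev)
    (hm : 2 ≤ m) : Nonempty (LeviCov C K) := by
  classical
  obtain ⟨z, hz⟩ := exists_unit (K := K) hK
  obtain ⟨hfix, hmov, hwJ⟩ := tor_fields C T z hz
  obtain ⟨φ, hφ⟩ := exists_phi (K := K) C A hm
  have hcard : 4 ≤ Cardinal.mk K := by
    haveI := Fintype.ofFinite K
    rw [Cardinal.mk_fintype]
    rw [Nat.card_eq_fintype_card] at hK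
    exact_mod_cast le_trans (by norm_num) hK
  set L₀ : List (Fin m) := List.finRange m with hL
  let U₀ : Matrix.SpecialLinearGroup (Fin (m + 1)) K := (L₀.map fun i => stepUp i ((1 : K))).prod
  have hU₀ : CfsgLib.Classical.TwoUnip.RegUpper U₀.1 :=
    regUpper_prod (a := fun _ => (1 : K)) (fun _ => one_ne_zero) (List.nodup_finRange m) List.mem_finRange
  have hU₀i : CfsgLib.Classical.TwoUnip.RegUpper (U₀⁻¹).1 := by
    have : U₀⁻¹ = (L₀.reverse.map fun i => stepUp i (-1 : K)).prod := by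
      rw [List.prod_inv_reverse, List.map_map, ← List.map_reverse]
      refine congrArg List.prod (List.map_congr_left fun i _ => ?_)
      exact stepUp_inv i 1
    rw [this]
    exact regUpper_prod (a := fun _ => (-1 : K)) (fun _ => neg_ne_zero.2 one_ne_zero)
      (List.nodup_reverse.2 (List.nodup_finRange m)) fun i => List.mem_reverse.2 (List.mem_finRange i)
  -- the image of the unipotent element under the word
  have himg : ∃ L : Matrix.SpecialLinearGroup (Fin (m + 1)) K, CfsgLib.Classical.TwoUnip.RegLower L.1 ∧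
      C.G.nw w * φ U₀ * (C.G.nw w)⁻¹ = φ L := by
    have hstep : ∀ i : Fin m, ∃ b : K, b ≠ 0 ∧
        C.G.nw w * φ (stepUp i 1) * (C.G.nw w)⁻¹ = φ (stepDown (tauRev rev i) b) := by
      intro i
      have hij := (Fin.castSucc_lt_succ (i := i)).ne
      have hji := (Fin.castSucc_lt_succ (i := tauRev rev i)).ne'
      obtain ⟨c, hc⟩ := C.G.nPerm_nw (K := K) w (rootF A hij)
      have hne : (e i.castSucc i.succ : K) ≠ 0 := left_ne_zero_of_mul_eq_one (sign_sq A hij)
      have hne' : (e (tauRev rev i).succ (tauRev rev i).castSucc : K) ≠ 0 :=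
        left_ne_zero_of_mul_eq_one (sign_sq A hji)
      refine ⟨(e (tauRev rev i).succ (tauRev rev i).castSucc : K) * ((c : K) * (e i.castSucc i.succ : K)),
        mul_ne_zero hne' (mul_ne_zero c.ne_zero hne), ?_⟩
      rw [stepUp, stepDown, hφ, hφ, mul_one, hc, ← mul_assoc ((e _ _ : ℤ) : K), sign_sq A hji, one_mul]
      congr 1
      refine Fin.ext ?_
      rw [pw_val C]
      exact A.image i
    choose b hb0 hb using hstep
    refine ⟨((L₀.map (tauRev rev)).map fun j => stepDown j (b (tauRev rev j))).prod,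
      regLower_prod (fun j => hb0 _)
        ((List.nodup_finRange m).map (Function.LeftInverse.injective (tauRev_tauRev rev)))
        (fun j => List.mem_map.2 ⟨tauRev rev j, List.mem_finRange _, tauRev_tauRev rev j⟩), ?_⟩
    show (MulAut.conj (C.G.nw w)).toMonoidHom.comp φ U₀ = φ _
    rw [map_list_prod, map_list_prod, List.map_map, List.map_map, List.map_map]
    refine congrArg List.prod (List.map_congr_left fun i _ => ?_)
    show C.G.nw w * φ (stepUp i 1) * (C.G.nw w)⁻¹ = φ (stepDown (tauRev rev i) (b (tauRev rev (tauRev rev i))))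
    rw [tauRev_tauRev]
    exact hb i
  -- the torus element centralizes the Levi subgroup
  have hcent : ∀ x ∈ (D.diagonalSubgroup K ⊔ LJ C.G (zeroNodes D d) : Subgroup (GL D.Idx K)),
      Commute x (C.G.torθ fun i : Fin D.rank => z ^ d.getD i.val 0) := by
    have hle : (D.diagonalSubgroup K ⊔ LJ C.G (zeroNodes D d) : Subgroup (GL D.Idx K)) ≤
        Subgroup.centralizer {C.G.torθ fun i : Fin D.rank => z ^ d.getD i.val 0} := by
      refine sup_le (fun x hx => ?_) ((Subgroup.closure_le _).2 ?_)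
      · rw [Subgroup.mem_centralizer_singleton_iff]
        exact C.G.diagonal_comm hx (by rw [C.G.diagonal_eq_range]; exact ⟨_, rfl⟩)
      · rintro _ ⟨s, t, hs, rfl⟩
        rw [SetLike.mem_coe, Subgroup.mem_centralizer_singleton_iff]
        have e1 := torθ_pow_conj C z d s t
        rw [(inJ_iff C T.simp_nonneg s).1 hs, zpow_zero, Units.val_one, one_mul, mul_inv_eq_iff_eq_mul] at e1
        exact e1.symm
    exact fun x hx => Subgroup.mem_centralizer_singleton_iff.1 (hle hx)
  -- the diagonal element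
  let e01 : (0 : Fin (m + 1)) ≠ 1 := fun q => by
    have := congrArg Fin.val q
    simp [Fin.val_one', Nat.mod_eq_of_lt (show 1 < m + 1 by omega)] at this
  let W : Kˣ → Matrix.SpecialLinearGroup (Fin (m + 1)) K := fun a =>
    Matrix.SpecialLinearGroup.transvection e01 (a : K) *
      Matrix.SpecialLinearGroup.transvection e01.symm (-(a : K)⁻¹) * Matrix.SpecialLinearGroup.transvection e01 (a : K)
  obtain ⟨he1, he2, he3⟩ := A.pair
  have hW : ∀ a : Kˣ, φ (W a) = C.G.nE (rootF A e01) (a : K) := by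
    intro a
    simp only [W, map_mul, hφ, he1, he2, Int.cast_one, one_mul, Good.nE]
    congr 3
    exact Fin.ext (by rw [C.G.negr_val]; exact he3)
  let Dd : Matrix.SpecialLinearGroup (Fin (m + 1)) K := W z * W (-1)
  have hd : φ Dd = C.G.hd (rootF A e01) z := by
    rw [map_mul, hW, hW, ← C.G.hE_eq, Good.hE, Units.val_neg, Units.val_one]
  let dd : Fin (m + 1) → K := fun l => if l = 0 then (z : K) else if l = 1 then ((z⁻¹ : Kˣ) : K) else 1
  have hWv : ∀ a : Kˣ, (W a).1 = Matrix.diagonal (fun l => if l = 0 ∨ l = 1 then (0 : K) else 1) +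
      Matrix.single 0 1 (a : K) + Matrix.single 1 0 (-(a : K)⁻¹) := by
    intro a
    show (1 + Matrix.single 0 1 (a : K)) * (1 + Matrix.single 1 0 (-(a : K)⁻¹)) * (1 + Matrix.single 0 1 (a : K)) = _
    have h10 := e01.symm
    simp only [Matrix.add_mul, Matrix.mul_add, Matrix.one_mul, Matrix.mul_one, Matrix.single_mul_single_same,
      Matrix.single_mul_single_of_ne _ _ _ _ e01, Matrix.single_mul_single_of_ne _ _ _ _ h10]
    ext x y
    simp only [Matrix.add_apply, Matrix.one_apply, Matrix.diagonal_apply, Matrix.single_apply, Matrix.zero_apply]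
    by_cases hx0 : x = 0
    · subst hx0
      by_cases hy0 : y = 0
      · subst hy0; simp [e01, h10, a.ne_zero]
      · by_cases hy1 : y = 1
        · subst hy1; simp [e01, h10, a.ne_zero]
        · simp [e01, h10, Ne.symm hy0, Ne.symm hy1]
    · by_cases hx1 : x = 1
      · subst hx1
        by_cases hy0 : y = 0
        · subst hy0; simp [e01, h10]
        · by_cases hy1 : y = 1
          · subst hy1; simp [e01, h10, a.ne_zero]
          · simp [e01, h10, Ne.symm hy0, Ne.symm hy1]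
      · simp [Ne.symm hx0, Ne.symm hx1, hx0, hx1]
  have hDd : Dd.1 = Matrix.diagonal dd := by
    show (W z).1 * (W (-1)).1 = _
    rw [hWv, hWv]
    have h10 := e01.symm
    have hds : ∀ (f : Fin (m + 1) → K) (i j : Fin (m + 1)) (a : K),
        Matrix.diagonal f * Matrix.single i j a = Matrix.single i j (f i * a) := fun f i j a => by
      ext x y
      by_cases hq : i = x
      · subst hq; simp [Matrix.diagonal_mul, Matrix.single_apply]
      · simp [Matrix.diagonal_mul, Matrix.single_apply, hq]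
    have hsd : ∀ (f : Fin (m + 1) → K) (i j : Fin (m + 1)) (a : K),
        Matrix.single i j a * Matrix.diagonal f = Matrix.single i j (a * f j) := fun f i j a => by
      ext x y
      by_cases hq : j = y
      · subst hq; simp [Matrix.mul_diagonal, Matrix.single_apply]
      · simp [Matrix.mul_diagonal, Matrix.single_apply, hq]
    simp only [Matrix.add_mul, Matrix.mul_add, Matrix.single_mul_single_same,
      Matrix.single_mul_single_of_ne _ _ _ _ e01, Matrix.single_mul_single_of_ne _ _ _ _ h10,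
      Matrix.diagonal_mul_diagonal, hds, hsd, true_or, or_true,
      if_true, zero_mul, mul_zero, Matrix.single_zero, add_zero, zero_add]
    ext x y
    simp only [Matrix.add_apply, Matrix.diagonal_apply, Matrix.single_apply, dd]
    by_cases hxy : x = y
    · subst hxy
      by_cases hx0 : x = 0
      · subst hx0; simp [e01, h10]
      · by_cases hx1 : x = 1
        · subst hx1; simp [e01, h10]
        · simp [Ne.symm hx0, Ne.symm hx1, hx0, hx1]
    · have n1 : ¬ (0 = x ∧ 0 = y) := fun q => hxy (q.1.symm.trans q.2)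
      have n2 : ¬ (1 = x ∧ 1 = y) := fun q => hxy (q.1.symm.trans q.2)
      simp [hxy, n1, n2]
  refine ⟨{
    J := zeroNodes D d
    c := fun i => z ^ d.getD i.val 0
    fixJ := hfix
    moved := hmov
    l0 := w
    l0_neg := fun r => (word_root C T r).2
    l0_J := hwJ
    σ := φ U₀
    σ_mem := le_sup_right (α := Subgroup (GL D.Idx K)) (phi_mem_LJ C A hφ T U₀)
    σ_pow := fun p _ _ => by
      obtain ⟨k, hk⟩ := exists_pow_eq_one hU₀ p
      exact ⟨k, by rw [← map_pow, hk, map_one]⟩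
    d := φ Dd
    d_mem := by rw [hd]; exact C.G.hd_mem_H _ _
    cover := fun v hv u hu => ?_
    real := ?_ }⟩
  · obtain ⟨V, rfl, hV0, hV1⟩ := exists_lower C A hφ T hv
    obtain ⟨U, rfl, -, -, hW0, hW1⟩ := exists_upper C A hφ T hu
    have h2 : (⟨2, by omega⟩ : Fin (m + 1)) ≠ 0 ∧ (⟨2, by omega⟩ : Fin (m + 1)) ≠ 1 :=
      ⟨fun q => by simpa using congrArg Fin.val q, fun q => by
        have := congrArg Fin.val q
        simp [Fin.val_one', Nat.mod_eq_of_lt (show 1 < m + 1 by omega)] at this⟩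
    have hz1 : (z : K) ≠ 1 := fun q => hz 1 one_ne_zero (by norm_num) (by rw [zpow_one]; exact Units.ext q)
    have hns : ¬ ∃ c : K, (V * Dd * U).1 = c • (1 : Matrix (Fin (m + 1)) (Fin (m + 1)) K) := by
      show ¬ ∃ c : K, V.1 * Dd.1 * U.1 = c • (1 : Matrix (Fin (m + 1)) (Fin (m + 1)) K)
      rw [hDd]
      exact not_scalar_ldu (fun i j q => (hV0 i j q).1) (fun i => (hV1 i).1) hW0 hW1
        (congrArg Subtype.val (mul_inv_cancel U)) (a := 0) (b := ⟨2, by omega⟩) (by simp [dd, h2.1, h2.2, hz1])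
    obtain ⟨X, Y, hXY⟩ := exists_conjSL_sq (by omega) hcard hU₀ hns
    obtain ⟨x, hx, hxc⟩ := conj_GL C A hφ T X
    obtain ⟨y, hy, hyc⟩ := conj_GL C A hφ T Y
    exact ⟨x, hx, y, hy, by rw [← map_mul, ← map_mul, hXY, map_mul, hxc, hyc]⟩
  · obtain ⟨L, hLlow, hnL⟩ := himg
    obtain ⟨X, hX⟩ := exists_conj_of_eq (A := L) (B := U₀⁻¹) hLlow.exists_conj hU₀i.exists_conj
    obtain ⟨x, hx, hxc⟩ := conj_GL C A hφ T X
    have hxg : x ∈ D.group K := by
      refine (sup_le C.G.diagonal_le_group ((Subgroup.closure_le _).2 ?_) :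
        (D.diagonalSubgroup K ⊔ LJ C.G (zeroNodes D d) : Subgroup (GL D.Idx K)) ≤ D.group K) hx
      rintro _ ⟨s, t, -, rfl⟩
      exact C.G.xu_mem s t
    refine ⟨x * C.G.nw w, mul_mem hxg (nw_mem_group C w), ?_⟩
    set τt := C.G.torθ fun i : Fin D.rank => z ^ d.getD i.val 0 with hτ
    have hnt : C.G.nw w * τt * (C.G.nw w)⁻¹ = τt⁻¹ := nw_torθ C T z
    have hσt : Commute (φ U₀) τt := hcent _ (le_sup_right (α := Subgroup (GL D.Idx K)) (phi_mem_LJ C A hφ T U₀))
    calc x * C.G.nw w * (τt * φ U₀) * (x * C.G.nw w)⁻¹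
        = x * (C.G.nw w * τt * (C.G.nw w)⁻¹) * x⁻¹ * (x * (C.G.nw w * φ U₀ * (C.G.nw w)⁻¹) * x⁻¹) := by group
      _ = τt⁻¹ * (φ U₀)⁻¹ := by
        rw [hnt, hnL, hxc, hX, map_inv, ((hcent x hx).inv_right).eq, mul_inv_cancel_right]
      _ = (τt * φ U₀)⁻¹ := by rw [_root_.mul_inv_rev]; exact hσt.symm.inv_inv.eq

end

end CfsgLib.Lie.ClassSquare
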