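import Cfsg.Agent.Lib.Lie.ClassSquare.Cells
import Cfsg.Agent.Lib.Lie.Chev.TorCard

/-!
# The torus part of an element of `V H U` moves along a fundamental coroot
-/

set_option autoImplicit false

namespace CfsgLib.Lie.ClassSquare

open Cfsg.Lie CfsgLib.Lie.Chev
open scoped MatrixGroups
open CfsgLib.Lie.SL2Rel (Fam val_mul')

variable {D : ChevalleyDatum} {K : Type*} [Field K]

/-- conjugation by a diagonal matrix with ratio `δ`, as a map -/
def dfun (δ : Kˣ) (X : SL(2, K)) : SL(2, K) :=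
  ⟨!![X.1 0 0, (δ : K) * X.1 0 1; (δ : K)⁻¹ * X.1 1 0, X.1 1 1], by
    have h := Matrix.det_fin_two X.1
    rw [X.2] at h
    rw [Matrix.det_fin_two]
    have hd := δ.ne_zero
    simp only [Matrix.of_apply, Matrix.cons_val', Matrix.cons_val_zero, Matrix.cons_val_one,
      Matrix.empty_val', Matrix.cons_val_fin_one]
    field_simp
    linear_combination -h⟩

theorem coe_dfun (δ : Kˣ) (X : SL(2, K)) :
    (dfun δ X).1 = !![X.1 0 0, (δ : K) * X.1 0 1; (δ : K)⁻¹ * X.1 1 0, X.1 1 1] := rfl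

/-- conjugation by a diagonal matrix with ratio `δ` -/
def dconj (δ : Kˣ) : SL(2, K) →* SL(2, K) :=
  MonoidHom.mk' (dfun δ) fun X Y => by
    apply Subtype.ext
    have hd := δ.ne_zero
    rw [val_mul', coe_dfun, coe_dfun, coe_dfun, val_mul']
    ext a b
    fin_cases a <;> fin_cases b <;>
      simp [Matrix.mul_apply, Fin.sum_univ_two] <;> field_simp

theorem coe_dconj (δ : Kˣ) (X : SL(2, K)) :
    (dconj δ X).1 = !![X.1 0 0, (δ : K) * X.1 0 1; (δ : K)⁻¹ * X.1 1 0, X.1 1 1] := rfl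

theorem sl2_ext' {a b : SL(2, K)} (h00 : a.1 0 0 = b.1 0 0) (h01 : a.1 0 1 = b.1 0 1) (h10 : a.1 1 0 = b.1 1 0)
    (h11 : a.1 1 1 = b.1 1 1) : a = b :=
  Subtype.ext (Matrix.ext fun i j => by fin_cases i <;> fin_cases j <;> assumption)

theorem dconj_upper (δ : Kˣ) (t : K) : dconj δ (Fam.upper t) = Fam.upper ((δ : K) * t) :=
  sl2_ext' (by simp [coe_dconj, coe_up]) (by simp [coe_dconj, coe_up]) (by simp [coe_dconj, coe_up])
    (by simp [coe_dconj, coe_up])

theorem dconj_lower (δ : Kˣ) (t : K) : dconj δ (Fam.lower t) = Fam.lower ((δ : K)⁻¹ * t) :=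
  sl2_ext' (by simp [coe_dconj, coe_low]) (by simp [coe_dconj, coe_low]) (by simp [coe_dconj, coe_low])
    (by simp [coe_dconj, coe_low])

/-- the corner entry of a twisted conjugate takes every value -/
theorem exists_corner (δ : Kˣ) (a b : K) (hne : (δ : K) ≠ 1 ∨ a ≠ 0 ∨ b ≠ 0) (s : K) :
    ∃ P : SL(2, K), (P * (Fam.lower a * dconj δ (Fam.upper b)) * dconj δ P⁻¹).1 0 0 = s := by
  have hinv : ∀ X : SL(2, K), (X⁻¹).1 = !![X.1 1 1, -X.1 0 1; -X.1 1 0, X.1 0 0] := fun X =>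
    (Matrix.SpecialLinearGroup.coe_inv X).trans (Matrix.adjugate_fin_two X.1)
  have hd := δ.ne_zero
  rcases eq_or_ne a 0 with rfl | ha
  · rcases eq_or_ne b 0 with rfl | hb
    · obtain h | h | h := hne
      · refine ⟨Fam.upper ((s - 1) / (1 - (δ : K)⁻¹)) * Fam.lower 1, ?_⟩
        have h1 : (1 : K) - (δ : K)⁻¹ ≠ 0 := fun e => h (by
          have := (inv_eq_one (a := (δ : K))).1 (sub_eq_zero.1 e).symm; exact this)
        simp [val_mul', coe_dconj, coe_up, coe_low, hinv, Matrix.mul_apply, Fin.sum_univ_two]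
        field_simp
        ring
      · exact absurd rfl h
      · exact absurd rfl h
    · refine ⟨Fam.lower ((1 - s) / b), ?_⟩
      simp [val_mul', coe_dconj, coe_up, coe_low, hinv, Matrix.mul_apply, Fin.sum_univ_two]
      field_simp
      ring
  · refine ⟨Fam.upper ((s - 1) / a), ?_⟩
    simp [val_mul', coe_dconj, coe_up, coe_low, hinv, Matrix.mul_apply, Fin.sum_univ_two]
    field_simp
    ring

/-- an element with corner `s` is lower times diagonal times upper -/
theorem lower_dia_upper (N : SL(2, K)) (s : Kˣ) (h : N.1 0 0 = (s : K)) :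
    N = Fam.lower (N.1 1 0 / s) * dia s * Fam.upper (N.1 0 1 / s) := by
  have hs := s.ne_zero
  have hdet := Matrix.det_fin_two N.1
  rw [N.2, h] at hdet
  refine sl2_ext' ?_ ?_ ?_ ?_ <;>
    simp [val_mul', coe_dia, coe_up, coe_low, Matrix.mul_apply, Fin.sum_univ_two, h] <;>
    field_simp
  linear_combination -hdet

section good

variable (G : Good D)

/-- the values of the fundamental roots at the torus element with coroot coordinates `c` -/
def al (c : Fin D.rank → Kˣ) (l : Fin D.rank) : Kˣ := ∏ i, c i ^ cart D i (G.simp' l)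

theorem torθ_eq (c : Fin D.rank → Kˣ) : G.torθ c = G.tor (al G c) := rfl

theorem torθ_mem (c : Fin D.rank → Kˣ) : G.torθ c ∈ D.diagonalSubgroup K := by
  rw [G.diagonal_eq_range]; exact ⟨c, rfl⟩

theorem al_mul (c c' : Fin D.rank → Kˣ) (l : Fin D.rank) : al G (c * c') l = al G c l * al G c' l := by
  simp [al, mul_zpow, Finset.prod_mul_distrib]

theorem al_single (k : Fin D.rank) (s : Kˣ) (l : Fin D.rank) :
    al G (Pi.mulSingle k s) l = s ^ cart D k (G.simp' l) := by
  rw [al, Finset.prod_eq_single k]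
  · simp
  · intro b _ hb; simp [hb]
  · simp

theorem chi_neg' (d : Fin D.rank → Kˣ) (v : Fin D.rank → ℤ) : G.chi d (-v) = (G.chi d v)⁻¹ := by
  simp [Good.chi, Finset.prod_inv_distrib]

theorem tor_conj_phi (i : Fin D.rank) (d : Fin D.rank → Kˣ) (X : SL(2, K)) :
    G.tor d * phi G i X * (G.tor d)⁻¹ = phi G i (dconj (d i) X) := by
  have key : ((MulAut.conj (G.tor d)).toMonoidHom.comp (phi G i)) = (phi G i).comp (dconj (d i)) := by
    refine MonoidHom.ext fun X => ?_
    refine Fam.mem_gens (P := fun X => ((MulAut.conj (G.tor d)).toMonoidHom.comp (phi G i)) X =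
      ((phi G i).comp (dconj (d i))) X) (fun a b ha hb => by rw [map_mul, map_mul, ha, hb]) ?_ ?_ X
    · intro t
      show G.tor d * phi G i (Fam.upper t) * (G.tor d)⁻¹ = phi G i (dconj (d i) (Fam.upper t))
      rw [dconj_upper, phi_upper, phi_upper, G.tor_conj_xu, G.rho_simp, G.chi_single]
    · have e : (Fam.wel : SL(2, K)) = Fam.upper (-1) * Fam.lower 1 * Fam.upper (-1) := by
        refine sl2_ext' ?_ ?_ ?_ ?_ <;>
          simp [Fam.wel, val_mul', coe_up, coe_low, Matrix.mul_apply, Fin.sum_univ_two]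
      show G.tor d * phi G i Fam.wel * (G.tor d)⁻¹ = phi G i (dconj (d i) Fam.wel)
      rw [e, map_mul, map_mul, map_mul, map_mul, map_mul, map_mul, dconj_upper, dconj_lower, phi_upper,
        phi_lower, phi_upper, phi_lower,
        show ∀ x y z : GL D.Idx K, G.tor d * (x * y * z) * (G.tor d)⁻¹ =
          (G.tor d * x * (G.tor d)⁻¹) * (G.tor d * y * (G.tor d)⁻¹) * (G.tor d * z * (G.tor d)⁻¹)
          from fun x y z => by group,
        G.tor_conj_xu, G.tor_conj_xu, G.rho_negr, G.rho_simp, chi_neg', G.chi_single]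
      simp
  exact DFunLike.congr_fun key X

theorem eq_one_of_al (c : Fin D.rank → Kˣ) (h : ∀ l, al G c l = 1) : G.torθ c = 1 := by
  rw [torθ_eq, show al G c = 1 from funext h, map_one]

end good

section full

variable (C : Full D)

/-- `g` is in the cell of `c` with room to move along the coroot `i` -/
def Movable (g : GL D.Idx K) (c : Fin D.rank → Kˣ) (i : Fin D.rank) : Prop :=
  ∃ x ∈ D.group K, ∃ v ∈ (VR C.G {i} : Subgroup (GL D.Idx K)), ∃ a b : K,
    ∃ u ∈ (UR C.G {i} : Subgroup (GL D.Idx K)),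
    x * g * x⁻¹ = v * C.G.xu (C.G.negr (C.G.simp' i)) a * C.G.torθ c * C.G.xu (C.G.simp' i) b * u ∧
      (((al C.G c i : Kˣ) : K) ≠ 1 ∨ a ≠ 0 ∨ b ≠ 0)

theorem movable_of_al {g : GL D.Idx K} {c : Fin D.rank → Kˣ} (hg : InCell D g (C.G.torθ c)) {i : Fin D.rank}
    (hi : al C.G c i ≠ 1) : Movable C g c i := by
  obtain ⟨x, hx, v, hv, u, hu, e⟩ := hg
  obtain ⟨v₁, hv₁, v₂, hv₂, rfl⟩ := exists_VR_VJ C (J := {i}) hv
  obtain ⟨u₁, hu₁, u₂, hu₂, rfl⟩ := exists_UR_UJ C (J := {i}) hu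
  obtain ⟨a, rfl⟩ := VJ_single C.G hv₂
  obtain ⟨b, rfl⟩ := UJ_single C.G hu₂
  exact ⟨x, hx, v₁, hv₁, a, b, u₁, hu₁, by rw [e]; group, Or.inl fun h => hi (Units.ext h)⟩

/-- the move -/
theorem Movable.move {g : GL D.Idx K} {c : Fin D.rank → Kˣ} {i : Fin D.rank} (hg : Movable C g c i) (s : Kˣ) :
    InCell D g (C.G.torθ (c * Pi.mulSingle i s)) := by
  obtain ⟨x, hx, v, hv, a, b, u, hu, e, hne⟩ := hg
  obtain ⟨P, hP⟩ := exists_corner _ a b hne (s : K)
  set δ := al C.G c i with hδ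
  set N := P * (Fam.lower a * dconj δ (Fam.upper b)) * dconj δ P⁻¹ with hN
  have hN' := lower_dia_upper N s hP
  set h : GL D.Idx K := C.G.torθ c with hh
  have hconj : ∀ X, h * phi C.G i X * h⁻¹ = phi C.G i (dconj δ X) := fun X => tor_conj_phi C.G i _ X
  have hPL : phi C.G i P ∈ D.diagonalSubgroup K ⊔ LJ C.G ({i} : Finset (Fin D.rank)) :=
    Subgroup.mem_sup_right (phi_mem_levi C.G i P)
  refine ⟨phi C.G i P * x, mul_mem (phi_mem_group C.G i P) hx,
    phi C.G i P * v * (phi C.G i P)⁻¹ * C.G.xu (C.G.negr (C.G.simp' i)) (N.1 1 0 / s), ?_,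
    C.G.xu (C.G.simp' i) ((δ : K)⁻¹ * (N.1 0 1 / s)) * (phi C.G i P * u * (phi C.G i P)⁻¹), ?_, ?_⟩
  · exact mul_mem (VR_le_V C.G ((Subgroup.mem_normalizer_iff.1 (levi_normalizes_VR C hPL) v).1 hv))
      (C.G.xu_mem_V ((C.G.isNegRoot_iff_not_pos _).2 (C.G.negr_simp_not_pos i)) _)
  · exact mul_mem (C.G.xu_mem_U (C.G.simp_pos i) _)
      (C.G.UR_le_U ((Subgroup.mem_normalizer_iff.1 (levi_normalizes_UR C hPL) u).1 hu))
  · have e1 : phi C.G i P * (C.G.xu (C.G.negr (C.G.simp' i)) a * h * C.G.xu (C.G.simp' i) b) * (phi C.G i P)⁻¹ =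
        phi C.G i N * h := by
      have eb : h * C.G.xu (C.G.simp' i) b = phi C.G i (dconj δ (Fam.upper b)) * h := by
        rw [← hconj, phi_upper]; group
      have ep : h * (phi C.G i P)⁻¹ = phi C.G i (dconj δ P⁻¹) * h := by
        rw [← hconj, map_inv]; group
      rw [hN, map_mul, map_mul, map_mul, phi_lower]
      calc _ = phi C.G i P * C.G.xu (C.G.negr (C.G.simp' i)) a * (h * C.G.xu (C.G.simp' i) b) *
            (phi C.G i P)⁻¹ := by group
        _ = phi C.G i P * C.G.xu (C.G.negr (C.G.simp' i)) a * phi C.G i (dconj δ (Fam.upper b)) *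
            (h * (phi C.G i P)⁻¹) := by rw [eb]; group
        _ = _ := by rw [ep]; group
    have eu : C.G.xu (C.G.simp' i) (N.1 0 1 / (s : K)) * h =
        h * C.G.xu (C.G.simp' i) ((δ : K)⁻¹ * (N.1 0 1 / s)) := by
      have := hconj (Fam.upper ((δ : K)⁻¹ * (N.1 0 1 / s)))
      rw [dconj_upper, phi_upper, phi_upper, ← mul_assoc, mul_inv_cancel₀ δ.ne_zero, one_mul] at this
      rw [← this]; group
    have et : C.G.torθ (c * Pi.mulSingle i s) = C.G.hd (C.G.simp' i) s * h := by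
      rw [mul_comm c, map_mul, C.G.torθ_single]
    calc phi C.G i P * x * g * (phi C.G i P * x)⁻¹
        = phi C.G i P * v * (phi C.G i P)⁻¹ * (phi C.G i P * (C.G.xu (C.G.negr (C.G.simp' i)) a * h *
          C.G.xu (C.G.simp' i) b) * (phi C.G i P)⁻¹) * (phi C.G i P * u * (phi C.G i P)⁻¹) := by
          rw [show phi C.G i P * x * g * (phi C.G i P * x)⁻¹ = phi C.G i P * (x * g * x⁻¹) * (phi C.G i P)⁻¹ by
            group, e]
          group
      _ = _ := by
          have eN : phi C.G i N = C.G.xu (C.G.negr (C.G.simp' i)) (N.1 1 0 / (s : K)) * C.G.hd (C.G.simp' i) s *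
              C.G.xu (C.G.simp' i) (N.1 0 1 / (s : K)) :=
            (congrArg (phi C.G i) hN').trans (by rw [map_mul, map_mul, phi_lower, phi_upper, phi_dia])
          rw [e1, eN, et,
            show ∀ p q r t w : GL D.Idx K, p * (q * r * t * h) * w = p * q * r * (t * h) * w from
              fun p q r t w => by group, eu]
          group

include C in
/-- a non-trivial element has a cell with room to move -/
theorem exists_movable (hq : ∀ a : K, ∃ s : K, s ≠ 0 ∧ 1 + a * s ≠ 0) {g : GL D.Idx K} (hg : g ∈ D.group K)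
    (hg1 : g ≠ 1) : ∃ c i, Movable C g c i := by
  obtain ⟨h, hh, hc⟩ := exists_inCell C hq hg
  rw [C.G.diagonal_eq_range] at hh
  obtain ⟨c, rfl⟩ := hh
  by_cases hal : ∀ l, al C.G c l = 1
  swap
  · push Not at hal
    obtain ⟨i, hi⟩ := hal
    exact ⟨c, i, movable_of_al C hc hi⟩
  by_contra hno
  have ht : C.G.torθ c = 1 := eq_one_of_al C.G c hal
  -- in every such position both unipotent parts avoid every fundamental root
  have bad : ∀ x ∈ D.group K, ∀ v ∈ D.negUnipotent K, ∀ u ∈ D.posUnipotent K, x * g * x⁻¹ = v * u →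
      ∀ i, v ∈ (VR C.G {i} : Subgroup (GL D.Idx K)) ∧ u ∈ (UR C.G {i} : Subgroup (GL D.Idx K)) := by
    intro x hx v hv u hu e i
    obtain ⟨v₁, hv₁, v₂, hv₂, rfl⟩ := exists_VR_VJ C (J := {i}) hv
    obtain ⟨u₁, hu₁, u₂, hu₂, rfl⟩ := exists_UR_UJ C (J := {i}) hu
    obtain ⟨a, rfl⟩ := VJ_single C.G hv₂
    obtain ⟨b, rfl⟩ := UJ_single C.G hu₂
    by_cases h0 : a = 0 ∧ b = 0
    · obtain ⟨rfl, rfl⟩ := h0
      rw [C.G.xu_zero, C.G.xu_zero, mul_one, one_mul]
      exact ⟨hv₁, hu₁⟩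
    · refine absurd ⟨c, i, x, hx, v₁, hv₁, a, b, u₁, hu₁, by rw [e, ht]; group, ?_⟩ hno
      by_cases ha : a = 0
      · exact Or.inr (Or.inr fun hb => h0 ⟨ha, hb⟩)
      · exact Or.inr (Or.inl ha)
  obtain ⟨x, hx, v, hv, u, hu, e⟩ := hc
  rw [ht, mul_one] at e
  have all : ∀ l : List (Fin D.rank), C.G.nw l * v * (C.G.nw l)⁻¹ ∈ D.negUnipotent K ∧
      C.G.nw l * u * (C.G.nw l)⁻¹ ∈ D.posUnipotent K := by
    intro l
    induction l with
    | nil => simp [Good.nw_nil, hv, hu]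
    | cons i l ih =>
      have hnw : C.G.nw l ∈ D.group K := C.G.monomial_le_group (C.G.nw_mem_monomial l)
      obtain ⟨b1, b2⟩ := bad (C.G.nw l * x) (mul_mem hnw hx) _ ih.1 _ ih.2 (by
        rw [show C.G.nw l * x * g * (C.G.nw l * x)⁻¹ = C.G.nw l * (x * g * x⁻¹) * (C.G.nw l)⁻¹ by group, e]
        group) i
      have hn : (C.G.nU i : GL D.Idx K) ∈ D.diagonalSubgroup K ⊔ LJ C.G ({i} : Finset (Fin D.rank)) := by
        rw [phi_weyl]; exact Subgroup.mem_sup_right (phi_mem_levi C.G i _)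
      have conj : ∀ w : GL D.Idx K, C.G.nw (i :: l) * w * (C.G.nw (i :: l))⁻¹ =
          C.G.nU i * (C.G.nw l * w * (C.G.nw l)⁻¹) * (C.G.nU i)⁻¹ := fun w => by rw [Good.nw_cons]; group
      rw [conj, conj]
      exact ⟨VR_le_V C.G ((Subgroup.mem_normalizer_iff.1 (levi_normalizes_VR C hn) _).1 b1),
        C.G.UR_le_U ((Subgroup.mem_normalizer_iff.1 (levi_normalizes_UR C hn) _).1 b2)⟩
  obtain ⟨l0, hl0⟩ := C.G.exists_longest
  have flip : ∀ (w : GL D.Idx K), w ∈ D.posUnipotent K →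
      C.G.nw l0 * w * (C.G.nw l0)⁻¹ ∈ D.negUnipotent K := by
    intro w hw
    rw [C.G.posUnipotent_eq_closure] at hw
    induction hw using Subgroup.closure_induction with
    | mem y hy =>
      obtain ⟨r, t, hr, rfl⟩ := hy
      obtain ⟨d, hd'⟩ := C.G.nPerm_nw (K := K) l0 r
      rw [hd']
      exact C.G.xu_mem_V ((C.G.isNegRoot_iff_not_pos _).2 (hl0 r hr)) _
    | one => simp
    | mul a b _ _ ha hb =>
      rw [show C.G.nw l0 * (a * b) * (C.G.nw l0)⁻¹ = (C.G.nw l0 * a * (C.G.nw l0)⁻¹) *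
        (C.G.nw l0 * b * (C.G.nw l0)⁻¹) by group]
      exact mul_mem ha hb
    | inv a _ ha =>
      rw [show C.G.nw l0 * a⁻¹ * (C.G.nw l0)⁻¹ = (C.G.nw l0 * a * (C.G.nw l0)⁻¹)⁻¹ by group]
      exact inv_mem ha
  have hu1 : u = 1 := by
    have h := Subgroup.mem_bot.1 (C.G.U_inf_V_eq (K := K) ▸ Subgroup.mem_inf.2 ⟨(all l0).2, flip u hu⟩)
    rw [mul_inv_eq_one] at h
    exact mul_left_cancel (h.trans (mul_one _).symm)
  have hvn : v ∈ D.negUnipotent K := hv
  have hv1 : v = 1 := by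
    -- `v` stays lower, but its image under the longest element is upper
    have : C.G.nw l0 * v * (C.G.nw l0)⁻¹ ∈ D.posUnipotent K := by
      clear e all hv
      rw [C.G.negUnipotent_eq_closure] at hvn
      induction hvn using Subgroup.closure_induction with
      | mem y hy =>
        obtain ⟨r, t, hr, rfl⟩ := hy
        obtain ⟨d, hd'⟩ := C.G.nPerm_nw (K := K) l0 r
        rw [hd']
        refine C.G.xu_mem_U ?_ _
        have hp : D.IsPosRoot (C.G.negr r).val :=
          (C.G.negr_pos_iff r).2 ((C.G.isNegRoot_iff_not_pos r).1 hr)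
        have := hl0 _ hp
        rwa [C.G.pw_negr, C.G.negr_pos_iff, not_not] at this
      | one => simp
      | mul a b _ _ ha hb =>
        rw [show C.G.nw l0 * (a * b) * (C.G.nw l0)⁻¹ = (C.G.nw l0 * a * (C.G.nw l0)⁻¹) *
          (C.G.nw l0 * b * (C.G.nw l0)⁻¹) by group]
        exact mul_mem ha hb
      | inv a _ ha =>
        rw [show C.G.nw l0 * a⁻¹ * (C.G.nw l0)⁻¹ = (C.G.nw l0 * a * (C.G.nw l0)⁻¹)⁻¹ by group]
        exact inv_mem ha
    have h := Subgroup.mem_bot.1 (C.G.U_inf_V_eq (K := K) ▸ Subgroup.mem_inf.2 ⟨this, (all l0).1⟩)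
    rw [mul_inv_eq_one] at h
    exact mul_left_cancel (h.trans (mul_one _).symm)
  rw [hu1, hv1, mul_one, mul_inv_eq_one] at e
  exact hg1 (mul_left_cancel (e.trans (mul_one x).symm))

end full

end CfsgLib.Lie.ClassSquare
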