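import Cfsg.Agent.Lib.Lie.ClassSquare.OrthConj
import Cfsg.Agent.Lib.Perm.Trans.QuadStd

/-!
`PΩ(2m+1, q)` and `PΩ⁺(2m, q)` are squares of a conjugacy class.
-/

set_option autoImplicit false
set_option linter.all false

namespace CfsgLib.Lie.ClassSquare

open scoped Matrix
open Matrix Cfsg.Geo CfsgLib.Perm.Asch CfsgLib.Perm.Trans CfsgLib.Perm.Trans.Quad CfsgLib.Orth
open CfsgLib.Char.OreOrth CfsgLib.GLClass.CommSL CfsgLib.GLClass.Cover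

variable {ι : Type} [Fintype ι] [DecidableEq ι] {F : Type*} [Field F] [Fintype F]
variable {Q : (ι → F) → F} {k : ℕ}

variable (hQ : IsNondegenerateQuadraticForm Q)
include hQ

/-- lower times upper flag unipotent is a product of conjugates of the Levi element and of its inverse -/
theorem two_conj_of_up (Fr : Frame Q k) (hk : 3 ≤ k) {L U : GL ι F} (hL : L ∈ omegaGL Q) (hU : U ∈ omegaGL Q)
    (uL : IsUp Fr.swap L) (uU : IsUp Fr U) {A : GL (Fin k) F} {p : Polynomial F}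
    (hcyc : Cyc p (A : Matrix (Fin k) (Fin k) F)) (hsr : SimpleRoot p)
    (hS : NoAlt (A : Matrix (Fin k) (Fin k) F)) (hS' : NoAlt (cot A : Matrix (Fin k) (Fin k) F))
    (h1 : ((A : Matrix (Fin k) (Fin k) F) - 1).det ≠ 0) (h1' : ((cot A : Matrix (Fin k) (Fin k) F) - 1).det ≠ 0) :
    ∃ c ∈ omegaGL Q, ∃ d ∈ omegaGL Q,
      L * U = c * (lev hQ Fr A)⁻¹ * c⁻¹ * (d * lev hQ Fr A * d⁻¹) := by
  obtain ⟨low, up, M, hlow, hup, hLU, hMd, hscal⟩ := exists_gauss hQ Fr hk hL hU uL uU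
  obtain ⟨P, R, hP, hR, hMPR⟩ : ∃ P R : GL (Fin k) F, (P : Matrix (Fin k) (Fin k) F).det = 1 ∧
      (R : Matrix (Fin k) (Fin k) F).det = 1 ∧ M = P * A⁻¹ * P⁻¹ * (R * A * R⁻¹) := by
    by_cases hsc : ∃ c : F, (M : Matrix (Fin k) (Fin k) F) = c • 1
    · obtain ⟨c, hc⟩ := hsc
      refine ⟨1, 1, by simp, by simp, Units.ext ?_⟩
      rw [hc, hscal c hc, one_smul]
      simp
    push Not at hsc
    have hAA : (A : Matrix (Fin k) (Fin k) F) * ((A⁻¹ : GL (Fin k) F) : Matrix (Fin k) (Fin k) F) = 1 := Units.mul_inv A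
    obtain ⟨y, z, ε, hy, hz, hMyz, hε⟩ := two_class (by omega : 2 ≤ k) hsc (cyc_inv hcyc hAA) hcyc hsr
      (by rw [hMd, ← Matrix.det_mul, Units.inv_mul, Matrix.det_one]) (by rw [hMd]; exact one_ne_zero)
      (δ₁ := 1) (δ₂ := 1) one_ne_zero one_ne_zero
    rw [hε hk] at hy
    obtain ⟨P, P', hPP, hPd, rfl⟩ := hy
    obtain ⟨R, R', hRR, hRd, rfl⟩ := hz
    let Pu : GL (Fin k) F := ⟨P, P', hPP, mul_eq_one_comm.1 hPP⟩
    let Ru : GL (Fin k) F := ⟨R, R', hRR, mul_eq_one_comm.1 hRR⟩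
    exact ⟨Pu, Ru, hPd, hRd, Units.ext (by rw [hMyz]; rfl)⟩
  have hswap : lev hQ Fr.swap (cot A) = lev hQ Fr A := lev_swap hQ Fr A
  obtain ⟨x, hx⟩ : ∃ x, x = lev hQ Fr A := ⟨_, rfl⟩
  have hone : ∀ i, ((1 : GL ι F) : Matrix ι ι F) *ᵥ Fr.e i = Fr.e i := fun i => by rw [Units.val_one, one_mulVec]
  have hone' : ∀ i, ((1 : GL ι F) : Matrix ι ι F) *ᵥ Fr.f i = Fr.f i := fun i => by rw [Units.val_one, one_mulVec]
  have hC1 : ∀ u ∈ uGroup hQ Fr, u * x = x * u → u = 1 := fun u hu h =>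
    eq_one_of_comm hQ Fr (one_mem _) hone hone' hS (noInt_one hQ Fr h1) (omegaGL_le_iso hu.1) hu.2
      (by rw [mul_one, ← hx]; exact h)
  have hC2 : ∀ u ∈ uGroup hQ Fr.swap, u * x⁻¹ = x⁻¹ * u → u = 1 := fun u hu h => by
    refine eq_one_of_comm hQ Fr.swap (one_mem _) hone' hone hS' (noInt_one hQ Fr.swap h1') (omegaGL_le_iso hu.1)
      hu.2 ?_
    rw [mul_one, hswap, ← hx]
    calc u * x = x * (x⁻¹ * u) * x := by group
      _ = x * (u * x⁻¹) * x := by rw [h]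
      _ = x * u := by group
  have hn1 : ∀ u ∈ uGroup hQ Fr, x * u * x⁻¹ ∈ uGroup hQ Fr := fun u hu => hx ▸ uGroup_conj_lev hQ Fr A hu
  have hn2 : ∀ u ∈ uGroup hQ Fr.swap, x⁻¹ * u * x⁻¹⁻¹ ∈ uGroup hQ Fr.swap := fun u hu => by
    rw [hx, ← hswap, ← map_inv]
    exact uGroup_conj_lev hQ Fr.swap _ hu
  have hw1 : (lev hQ Fr P)⁻¹ * low * (lev hQ Fr P)⁻¹⁻¹ ∈ uGroup hQ Fr.swap := by
    rw [← lev_swap hQ Fr P, ← map_inv]
    exact uGroup_conj_lev hQ Fr.swap _ hlow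
  have hw2 : (lev hQ Fr R)⁻¹ * up * (lev hQ Fr R)⁻¹⁻¹ ∈ uGroup hQ Fr := by
    rw [← map_inv]
    exact uGroup_conj_lev hQ Fr _ hup
  obtain ⟨u₁, hu₁, e₁⟩ := exists_conj_coset hn2 hC2 hw1
  obtain ⟨u₂, hu₂, e₂⟩ := exists_conj_coset' hn1 hC1 hw2
  refine ⟨lev hQ Fr P * u₁, mul_mem (lev_det_one hQ Fr hk P hP) hu₁.1,
    lev hQ Fr R * u₂, mul_mem (lev_det_one hQ Fr hk R hR) hu₂.1, ?_⟩
  calc L * U = low * (lev hQ Fr P * x⁻¹ * (lev hQ Fr P)⁻¹ * (lev hQ Fr R * x * (lev hQ Fr R)⁻¹)) * up := by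
        rw [hLU, hMPR, hx]; simp only [map_mul, map_inv]
    _ = lev hQ Fr P * ((lev hQ Fr P)⁻¹ * low * (lev hQ Fr P)⁻¹⁻¹ * x⁻¹) * (lev hQ Fr P)⁻¹ *
          (lev hQ Fr R * (x * ((lev hQ Fr R)⁻¹ * up * (lev hQ Fr R)⁻¹⁻¹)) * (lev hQ Fr R)⁻¹) := by group
    _ = _ := by rw [← e₁, ← e₂, hx]; group

/-- the core: one class of `Ω` whose square covers all non-central elements and one -/
theorem class_square_of_dec {r : ℕ} (hr : 2 ≤ r) (hq : 3 ≤ Fintype.card F) (hdim : 2 * (r + 1) < Fintype.card ι)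
    (Fr₀ : Frame Q (r + 1))
    (hdec : ∀ g : Cfsg.Omega F Q, g ∈ Subgroup.center (Cfsg.Omega F Q) ∨ ∃ (Fr : Frame Q (r + 1)) (L U : GL ι F),
      L ∈ omegaGL Q ∧ U ∈ omegaGL Q ∧ IsUp Fr.swap L ∧ IsUp Fr U ∧
        ((g : ↥(Cfsg.isometryGroup F Q)) : GL ι F) = L * U) :
    ∃ c : Cfsg.POmega F Q, ∀ g : Cfsg.POmega F Q, ∃ x y, g = (x * c * x⁻¹) * (y * c * y⁻¹) := by
  obtain ⟨A, p, hcyc, hsr, hsq, hS, hS', h1, h1'⟩ := exists_levi_big (F := F) hq hr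
  have hk : 3 ≤ r + 1 := by omega
  obtain ⟨φ, hφ⟩ : ∃ φ : Cfsg.Omega F Q →* GL ι F,
      φ = (Cfsg.isometryGroup F Q).subtype.comp (Cfsg.Omega F Q).subtype := ⟨_, rfl⟩
  have hφa : ∀ a : Cfsg.Omega F Q, φ a = ((a : ↥(Cfsg.isometryGroup F Q)) : GL ι F) := fun a => by rw [hφ]; rfl
  have hφi : Function.Injective φ := by
    rw [hφ]; exact Subtype.val_injective.comp Subtype.val_injective
  have hlift : ∀ v ∈ omegaGL Q, ∃ a : Cfsg.Omega F Q, φ a = v := fun v hv => by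
    obtain ⟨v', hv', rfl⟩ := Subgroup.mem_map.1 hv
    exact ⟨⟨v', hv'⟩, by rw [hφ]; rfl⟩
  obtain ⟨c, hc⟩ := hlift _ (lev_mem_omega hQ Fr₀ hk A hsq)
  refine ⟨QuotientGroup.mk c, fun g => ?_⟩
  obtain ⟨G, rfl⟩ := QuotientGroup.mk_surjective g
  obtain ⟨w, hw, hwe⟩ := exists_conj_inv hQ Fr₀ hk hdim hcyc hsr
  rcases hdec G with hG | ⟨Fr, L, U, hL, hU, uL, uU, hLU⟩
  · obtain ⟨W, hW⟩ := hlift w hw
    have hinv : W * c * W⁻¹ = c⁻¹ := hφi (by simp only [map_mul, map_inv, hW, hc, hwe])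
    refine ⟨1, QuotientGroup.mk W, ?_⟩
    rw [(QuotientGroup.eq_one_iff G).2 hG, inv_one, one_mul, mul_one, ← QuotientGroup.mk_mul, ← QuotientGroup.mk_inv,
      ← QuotientGroup.mk_mul, ← QuotientGroup.mk_mul, hinv, mul_inv_cancel, QuotientGroup.mk_one]
  · obtain ⟨a, ha, b, hb, hab⟩ := two_conj_of_up hQ Fr hk hL hU uL uU hcyc hsr hS hS' h1 h1'
    obtain ⟨s, hs, hse⟩ := exists_conj_frames hQ Fr₀ Fr hk hdim hcyc hsr
    obtain ⟨X, hX⟩ := hlift (a * s * w) (mul_mem (mul_mem ha hs) hw)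
    obtain ⟨Y, hY⟩ := hlift (b * s) (mul_mem hb hs)
    have hGe : G = X * c * X⁻¹ * (Y * c * Y⁻¹) := hφi (by
      simp only [map_mul, map_inv, hX, hY, hc]
      rw [hφa, hLU, hab, ← hse]
      calc a * (s * lev hQ Fr₀ A * s⁻¹)⁻¹ * a⁻¹ * (b * (s * lev hQ Fr₀ A * s⁻¹) * b⁻¹)
          = a * (s * (lev hQ Fr₀ A)⁻¹ * s⁻¹) * a⁻¹ * (b * (s * lev hQ Fr₀ A * s⁻¹) * b⁻¹) := by group
        _ = _ := by rw [← hwe]; group)
    refine ⟨QuotientGroup.mk X, QuotientGroup.mk Y, ?_⟩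
    rw [hGe]
    simp only [QuotientGroup.mk_mul, QuotientGroup.mk_inv]

omit hQ

theorem pOmega_odd_class_square (F : Type*) [Field F] [Fintype F] (hF : 9 ≤ Fintype.card F) (m : ℕ) (hm : 3 ≤ m)
    (hodd : Odd (Fintype.card F)) :
    ∃ c : Cfsg.POmega F (Cfsg.quadFormOdd m F), ∀ g : Cfsg.POmega F (Cfsg.quadFormOdd m F),
      ∃ x y, g = (x * c * x⁻¹) * (y * c * y⁻¹) := by
  have hQ : IsNondegenerateQuadraticForm (Cfsg.quadFormOdd m F) :=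
    quadFormOdd_nd (CfsgLib.Orth.two_ne_zero_of_odd hodd)
  have hdim : Fintype.card (Unit ⊕ (Fin m ⊕ Fin m)) = 2 * m + 1 := by
    simp only [Fintype.card_sum, Fintype.card_unit, Fintype.card_fin]; omega
  obtain ⟨r, rfl⟩ : ∃ r, m = r + 1 := ⟨m - 1, by omega⟩
  have hdec : ∀ g ∈ omegaGL (Cfsg.quadFormOdd (r + 1) F), ∃ (Fr : Frame (Cfsg.quadFormOdd (r + 1) F) (r + 1))
      (L U : GL (Unit ⊕ (Fin (r + 1) ⊕ Fin (r + 1))) F),
      L ∈ omegaGL (Cfsg.quadFormOdd (r + 1) F) ∧ U ∈ omegaGL (Cfsg.quadFormOdd (r + 1) F) ∧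
        IsUp Fr.swap L ∧ IsUp Fr U ∧ g = L * U := by
    intro g hg
    obtain ⟨Fr, -, -, L, U, hL, hU, -, -, uL, uU, h⟩ := hasDec_odd hQ (by omega) (r + 1) ⊤ (ns_top hQ)
      (by rw [finrank_top, Module.finrank_fintype_fun_eq_card, hdim]) g hg (fixPerp_top hQ g)
    exact ⟨Fr, L, U, hL, hU, uL, uU, h⟩
  obtain ⟨Fr₀, -⟩ := hdec 1 (one_mem _)
  exact class_square_of_dec hQ (by omega) (by omega) (by omega) Fr₀
    fun g => Or.inr (hdec _ (Subgroup.mem_map.2 ⟨g.1, g.2, rfl⟩))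

theorem pOmega_plus_class_square (F : Type*) [Field F] [Fintype F] (hF : 9 ≤ Fintype.card F) (m : ℕ) (hm : 4 ≤ m) :
    ∃ c : Cfsg.POmega F (Cfsg.quadFormPlus m F), ∀ g : Cfsg.POmega F (Cfsg.quadFormPlus m F),
      ∃ x y, g = (x * c * x⁻¹) * (y * c * y⁻¹) := by
  have hQ : IsNondegenerateQuadraticForm (Cfsg.quadFormPlus m F) := quadFormPlus_nd
  have hdim : Fintype.card (Fin m ⊕ Fin m) = 2 * m := by
    simp only [Fintype.card_sum, Fintype.card_fin]; omega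
  obtain ⟨r, rfl⟩ : ∃ r, m = r + 2 := ⟨m - 2, by omega⟩
  have hdec : ∀ g ∈ omegaGL (Cfsg.quadFormPlus (r + 2) F),
      ((2 : F) = 0 ∨ ∃ x, (g : Matrix (Fin (r + 2) ⊕ Fin (r + 2)) (Fin (r + 2) ⊕ Fin (r + 2)) F) *ᵥ x ≠ -x) →
      ∃ (Fr : Frame (Cfsg.quadFormPlus (r + 2) F) (r + 1)) (L U : GL (Fin (r + 2) ⊕ Fin (r + 2)) F),
        L ∈ omegaGL (Cfsg.quadFormPlus (r + 2) F) ∧ U ∈ omegaGL (Cfsg.quadFormPlus (r + 2) F) ∧ IsUp Fr.swap L ∧ IsUp Fr U ∧ g = L * U := by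
    intro g hg hnc
    obtain ⟨Fr, -, -, L, U, hL, hU, -, -, uL, uU, h⟩ :
        HasDec hQ ⊤ (r + 1) g := hasDec_even hQ hm hdim hg hnc
    exact ⟨Fr, L, U, hL, hU, uL, uU, h⟩
  obtain ⟨Fr₀, -⟩ := hdec 1 (one_mem _) (by
    by_cases h2 : (2 : F) = 0
    · exact Or.inl h2
    refine Or.inr ⟨Pi.single (Sum.inl 0) 1, fun h => h2 ?_⟩
    rw [Units.val_one, Matrix.one_mulVec] at h
    have h1 := congrFun h (Sum.inl 0)
    rw [Pi.neg_apply, Pi.single_eq_same] at h1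
    linear_combination h1)
  refine class_square_of_dec hQ (by omega) (by omega) (by omega) Fr₀ fun g => ?_
  obtain ⟨G, hG⟩ : ∃ G : GL (Fin (r + 2) ⊕ Fin (r + 2)) F,
      G = ((g : ↥(Cfsg.isometryGroup F (Cfsg.quadFormPlus (r + 2) F))) : GL (Fin (r + 2) ⊕ Fin (r + 2)) F) := ⟨_, rfl⟩
  by_cases hnc : (2 : F) = 0 ∨ ∃ x, (G : Matrix (Fin (r + 2) ⊕ Fin (r + 2)) (Fin (r + 2) ⊕ Fin (r + 2)) F) *ᵥ x ≠ -x
  · exact Or.inr (hG ▸ hdec G (hG ▸ Subgroup.mem_map.2 ⟨g.1, g.2, rfl⟩) hnc)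
  · push Not at hnc
    refine Or.inl (Subgroup.mem_center_iff.2 fun h => Subtype.ext (Subtype.ext (gl_ext_vec fun x => ?_)))
    rw [Subgroup.coe_mul, Subgroup.coe_mul, Subgroup.coe_mul, Subgroup.coe_mul, ← hG, gl_mul_mulVec, gl_mul_mulVec,
      hnc.2, hnc.2, Matrix.mulVec_neg]

end CfsgLib.Lie.ClassSquare
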