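import Cfsg.Agent.Lib.Char.OreOrth.EvenMain
import Cfsg.Agent.Lib.Perm.Trans.QuadWitt
import Cfsg.Agent.Lib.Perm.Trans.QuadNondeg
import Cfsg.Agent.Lib.Lie.ClassSquare.GL

/-!
Levi elements of cyclic matrices in orthogonal groups: one class in `Ω` for all frames, and real.
-/

set_option autoImplicit false
set_option linter.all false

namespace CfsgLib.Lie.ClassSquare

open scoped Matrix
open Matrix Cfsg.Geo CfsgLib.Perm.Asch CfsgLib.Perm.Trans CfsgLib.Perm.Trans.Quad CfsgLib.Orth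
open CfsgLib.Char.OreOrth CfsgLib.GLClass.CommSL CfsgLib.GLClass.Cover

variable {ι : Type} [Fintype ι] [DecidableEq ι] {F : Type*} [Field F] [Fintype F]
variable {Q : (ι → F) → F} {k : ℕ}

local notation "pol" => QuadraticMap.polar

variable (hQ : IsNondegenerateQuadraticForm Q)
include hQ

/-- two frames differ by an isometry -/
theorem exists_frame_iso (Fr Fr' : Frame Q k) :
    ∃ σ ∈ Cfsg.isometryGroup F Q, (∀ i, (σ : Matrix ι ι F) *ᵥ Fr.e i = Fr'.e i) ∧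
      ∀ i, (σ : Matrix ι ι F) *ᵥ Fr.f i = Fr'.f i := by
  obtain ⟨B, hB, hN⟩ := exists_bundled hQ
  let Φ : Frame Q k → ((Fin k → F) × (Fin k → F)) →ₗ[F] (ι → F) := fun G => G.emb.coprod G.swap.emb
  have hq : ∀ (G : Frame Q k) p, Q (Φ G p) = p.1 ⬝ᵥ p.2 := by
    intro G p
    show Q (G.emb p.1 + G.swap.emb p.2) = _
    rw [← add_zero (G.emb p.1 + G.swap.emb p.2), q_decomp hQ G p.1 p.2 (map_zero _) (map_zero _), qzero hQ, add_zero]
  have hinj : ∀ G : Frame Q k, Function.Injective (Φ G) := by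
    intro G
    refine (injective_iff_map_eq_zero _).2 fun p hp => ?_
    have hp' : G.emb p.1 + G.swap.emb p.2 = 0 := hp
    have h1 := congrArg (cvec hQ G) hp'
    have h2 := congrArg (dvec hQ G) hp'
    rw [map_add, cvec_emb, cvec_emb', add_zero, map_zero] at h1
    rw [map_add, dvec_emb, dvec_emb', zero_add, map_zero] at h2
    exact Prod.ext h1 h2
  let E := LinearEquiv.ofInjective (Φ Fr) (hinj Fr)
  obtain ⟨g, hg, hgφ⟩ := CfsgLib.Perm.Trans.Witt.witt_extension hN (LinearMap.range (Φ Fr))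
    ((Φ Fr').comp E.symm.toLinearMap) ((hinj Fr').comp E.symm.injective) fun x => by
      obtain ⟨p, rfl⟩ := E.surjective x
      rw [LinearMap.comp_apply, LinearEquiv.coe_coe, E.symm_apply_apply, hB, hq Fr']
      exact (hq Fr p).symm
  obtain ⟨σ, hσ, hact⟩ := exists_iso_of_equiv (Q := Q) g fun v => by rw [← hB]; exact hg v
  have key : ∀ p, (σ : Matrix ι ι F) *ᵥ (Φ Fr p) = Φ Fr' p := fun p => by
    rw [hact]
    have h := hgφ (E p)
    rw [LinearMap.comp_apply, LinearEquiv.coe_coe, E.symm_apply_apply] at h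
    exact h
  refine ⟨σ, hσ, fun i => ?_, fun i => ?_⟩
  · have h := key (Pi.single i 1, 0)
    simpa [Φ, Frame.emb_single] using h
  · have h := key (0, Pi.single i 1)
    simpa [Φ, Frame.emb_single, Frame.swap_e] using h

omit [Fintype F] in
/-- transporting a Levi element along an isometry of frames -/
theorem lev_transport {Fr Fr' : Frame Q k} {σ : GL ι F} (hσ : σ ∈ Cfsg.isometryGroup F Q)
    (he : ∀ i, (σ : Matrix ι ι F) *ᵥ Fr.e i = Fr'.e i) (hf : ∀ i, (σ : Matrix ι ι F) *ᵥ Fr.f i = Fr'.f i)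
    (A : GL (Fin k) F) : σ * lev hQ Fr A * σ⁻¹ = lev hQ Fr' A := by
  have hc : ∀ x, cvec hQ Fr' ((σ : Matrix ι ι F) *ᵥ x) = cvec hQ Fr x := fun x => funext fun i => by
    rw [cvec_apply, cvec_apply, ← hf i, iso_pol hσ]
  have hd : ∀ x, dvec hQ Fr' ((σ : Matrix ι ι F) *ᵥ x) = dvec hQ Fr x := fun x => funext fun i => by
    rw [dvec_apply, dvec_apply, ← he i, iso_pol hσ]
  have hE : ∀ c, (σ : Matrix ι ι F) *ᵥ Fr.emb c = Fr'.emb c := fun c => by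
    rw [Frame.emb_apply, Frame.emb_apply, Matrix.mulVec_sum]
    exact Finset.sum_congr rfl fun i _ => by rw [Matrix.mulVec_smul, he]
  have hE' : ∀ c, (σ : Matrix ι ι F) *ᵥ Fr.swap.emb c = Fr'.swap.emb c := fun c => by
    rw [Frame.emb_apply, Frame.emb_apply, Matrix.mulVec_sum]
    exact Finset.sum_congr rfl fun i _ => by rw [Matrix.mulVec_smul, Frame.swap_e, Frame.swap_e, hf]
  rw [mul_inv_eq_iff_eq_mul]
  refine gl_ext_vec fun x => ?_
  rw [gl_mul_mulVec, gl_mul_mulVec, lev_mulVec, lev_mulVec, levL_apply, levL_apply, pr_apply, pr_apply, hc, hd]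
  simp only [Matrix.mulVec_add, Matrix.mulVec_sub, hE, hE']

/-- a residual vector of non-zero value -/
theorem exists_residual (Fr : Frame Q k) (hk : 2 * k < Fintype.card ι) :
    ∃ w, cvec hQ Fr w = 0 ∧ dvec hQ Fr w = 0 ∧ Q w ≠ 0 := by
  obtain ⟨z, hz, hz0⟩ := Submodule.exists_mem_ne_zero_of_ne_bot
    (LinearMap.ker_ne_bot_of_finrank_lt (f := (cvec hQ Fr).prod (dvec hQ Fr))
      (by simp only [Module.finrank_prod, Module.finrank_fintype_fun_eq_card, Fintype.card_fin]; omega))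
  rw [LinearMap.mem_ker, LinearMap.prod_apply] at hz
  have hzc : cvec hQ Fr z = 0 := congrArg Prod.fst hz
  have hzd : dvec hQ Fr z = 0 := congrArg Prod.snd hz
  by_cases hQz : Q z = 0
  swap
  · exact ⟨z, hzc, hzd, hQz⟩
  obtain ⟨y, hy⟩ := (hQ.nondegenerate z hz0).2
  obtain ⟨y', hy'⟩ : ∃ y', y' = pr hQ Fr y := ⟨_, rfl⟩
  have hyc : cvec hQ Fr y' = 0 := by rw [hy', cvec_pr]
  have hyd : dvec hQ Fr y' = 0 := by rw [hy', dvec_pr]
  by_cases hQy : Q y' = 0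
  swap
  · exact ⟨y', hyc, hyd, hQy⟩
  refine ⟨z + y', by rw [map_add, hzc, hyc, add_zero], by rw [map_add, hzd, hyd, add_zero], fun h => hy ?_⟩
  have hp : pol Q z y' = 0 := by
    rw [QuadraticMap.polar, h, hQz, hQy]; ring
  have e1 : pol Q z (Fr.emb (cvec hQ Fr y)) = 0 := by
    rw [pcomm, pol_emb_left hQ, hzd, dotProduct_zero]
  have e2 : pol Q z (Fr.swap.emb (dvec hQ Fr y)) = 0 := by
    rw [pcomm, pol_emb_left hQ Fr.swap, show dvec hQ Fr.swap z = cvec hQ Fr z from rfl, hzc, dotProduct_zero]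
  calc pol Q z y = pol Q z (Fr.emb (cvec hQ Fr y) + Fr.swap.emb (dvec hQ Fr y) + pr hQ Fr y) := by rw [pr_add]
    _ = 0 := by rw [padd_right hQ, padd_right hQ, e1, e2, ← hy', hp, add_zero, add_zero]

theorem cls_refl (hex : Fintype.card F ≠ 2 ∨ Fintype.card ι ≠ 4) {v : ι → F} (hv : Q v ≠ 0) {r : GL ι F}
    (hr : r ∈ Cfsg.isometryGroup F Q) (hrv : IsRefl Q v r) :
    clsHom hQ hex ⟨r, hr⟩ = (sqc (Q v), Multiplicative.ofAdd (1 : ZMod 2)) := by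
  obtain ⟨e1, e2⟩ := refl_spn hQ hr hrv hv
  refine Prod.ext e2 ?_
  show Multiplicative.ofAdd ((wrk r : ℕ) : ZMod 2) = _
  rw [e1, Nat.cast_one]

theorem cls_scaleFirst (Fr : Frame Q k) (hex : Fintype.card F ≠ 2 ∨ Fintype.card ι ≠ 4) (hk : 0 < k) (t : Fˣ) :
    clsHom hQ hex ⟨lev hQ Fr (scaleFirst hk t), lev_iso hQ Fr _⟩ = (sqc (t : F), 1) := by
  obtain ⟨i, hi⟩ : ∃ i : Fin k, i = ⟨0, hk⟩ := ⟨_, rfl⟩
  have hfe : pol Q (Fr.f i) (Fr.e i) = 1 := by rw [pcomm, Fr.ef, if_pos rfl]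
  have hef : pol Q (Fr.e i) (Fr.f i) = 1 := by rw [Fr.ef, if_pos rfl]
  have hQv : ∀ s : F, Q (Fr.e i - s • Fr.f i) = -s := fun s => by
    rw [qsub hQ, qsmul hQ, psmul_right hQ, Fr.qe, Fr.qf, hef]; ring
  have hne : ∀ s : F, s ≠ 0 → Q (Fr.e i - s • Fr.f i) ≠ 0 := fun s hs => by rw [hQv]; exact neg_ne_zero.2 hs
  obtain ⟨r₁, hr₁, hu₁⟩ := exists_refl hQ (hne 1 one_ne_zero)
  obtain ⟨r₂, hr₂, hu₂⟩ := exists_refl hQ (hne t t.ne_zero)
  have happ : ∀ (s : F) (r : GL ι F), IsRefl Q (Fr.e i - s • Fr.f i) r → ∀ x, (r : Matrix ι ι F) *ᵥ x =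
      x + (s⁻¹ * (pol Q x (Fr.e i) - s * pol Q x (Fr.f i))) • (Fr.e i - s • Fr.f i) := fun s r hr x => by
    rw [hr, hQv, psub_right hQ, psmul_right hQ, inv_neg, neg_mul, neg_smul, sub_neg_eq_add]
  have he : (⟨lev hQ Fr (scaleFirst hk t), lev_iso hQ Fr _⟩ : ↥(Cfsg.isometryGroup F Q)) = ⟨r₁, hr₁⟩ * ⟨r₂, hr₂⟩ := by
    refine Subtype.ext (gl_ext_vec fun x => ?_)
    show _ = ((r₁ * r₂ : GL ι F) : Matrix ι ι F) *ᵥ x
    rw [gl_mul_mulVec, happ 1 r₁ hu₁, happ t r₂ hu₂]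
    refine (lev_scaleFirst hQ Fr hk t x).trans ?_
    rw [← hi]
    simp only [padd_left hQ, psub_left hQ, psmul_left hQ, Fr.ee, Fr.ff, hef, hfe]
    have ht : (t : F) ≠ 0 := t.ne_zero
    rw [show ((t⁻¹ : Fˣ) : F) = (t : F)⁻¹ from Units.val_inv_eq_inv_val t]
    match_scalars <;> field_simp <;> ring
  have h11 : (Multiplicative.ofAdd (1 : ZMod 2)) * Multiplicative.ofAdd 1 = 1 := by decide
  rw [he, map_mul, cls_refl hQ hex (hne 1 one_ne_zero) hr₁ hu₁, cls_refl hQ hex (hne t t.ne_zero) hr₂ hu₂,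
    Prod.mk_mul_mk, h11, hQv, hQv, ← sqc_mul (neg_ne_zero.2 one_ne_zero) (neg_ne_zero.2 t.ne_zero), neg_mul_neg,
    one_mul]

/-- the centraliser of a Levi element of a cyclic matrix covers the quotient by `Ω` -/
theorem exists_cent (Fr : Frame Q k) (hk : 3 ≤ k) (hdim : 2 * k < Fintype.card ι) {A : GL (Fin k) F}
    {f : Polynomial F} (hcyc : Cyc f (A : Matrix (Fin k) (Fin k) F)) (hsr : SimpleRoot f)
    (p : ↥(Cfsg.isometryGroup F Q)) :
    ∃ c : ↥(Cfsg.isometryGroup F Q), (c : GL ι F) * lev hQ Fr A = lev hQ Fr A * c ∧ p * c⁻¹ ∈ Cfsg.Omega F Q := by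
  have hn : 5 ≤ Fintype.card ι := by omega
  have hex : Fintype.card F ≠ 2 ∨ Fintype.card ι ≠ 4 := hex_of_five hQ hn
  obtain ⟨w, hwc, hwd, hw⟩ := exists_residual hQ Fr hdim
  obtain ⟨rw', hrw, hrwv⟩ := exists_refl hQ hw
  have hfixe : ∀ i, (rw' : Matrix ι ι F) *ᵥ Fr.e i = Fr.e i := fun i => by
    have h : pol Q w (Fr.e i) = 0 := congrFun hwd i
    rw [hrwv, pcomm (Fr.e i) w, h, mul_zero, zero_smul, sub_zero]
  have hfixf : ∀ i, (rw' : Matrix ι ι F) *ᵥ Fr.f i = Fr.f i := fun i => by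
    have h : pol Q w (Fr.f i) = 0 := congrFun hwc i
    rw [hrwv, pcomm (Fr.f i) w, h, mul_zero, zero_smul, sub_zero]
  obtain ⟨R, hR⟩ : ∃ R : ↥(Cfsg.isometryGroup F Q), R = ⟨rw', hrw⟩ := ⟨_, rfl⟩
  have hRc : (R : GL ι F) * lev hQ Fr A = lev hQ Fr A * R := by
    rw [hR]; exact (lev_comm hQ Fr hrw hfixe hfixf A).symm
  have hflex : Flex (A : Matrix (Fin k) (Fin k) F) := flex_of_simpleRoot hcyc hsr
  have hlev : ∀ κ : SqClass F, ∃ c : ↥(Cfsg.isometryGroup F Q),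
      (c : GL ι F) * lev hQ Fr A = lev hQ Fr A * c ∧ clsHom hQ hex c = (κ, 1) := by
    intro κ
    obtain ⟨u, rfl⟩ : ∃ u, sqMk F u = κ := QuotientGroup.mk'_surjective _ κ
    obtain ⟨U, V, hUV, hUd, hUA⟩ := hflex (u : F) u.ne_zero
    let Ug : GL (Fin k) F := ⟨U, V, hUV, mul_eq_one_comm.1 hUV⟩
    have hcomm : Ug * A = A * Ug := Units.ext (by
      show U * (A : Matrix (Fin k) (Fin k) F) = (A : Matrix (Fin k) (Fin k) F) * U
      conv_rhs => rw [hUA]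
      rw [Matrix.mul_assoc _ V, mul_eq_one_comm.1 hUV, Matrix.mul_one])
    refine ⟨⟨lev hQ Fr Ug, lev_iso hQ Fr _⟩, ?_, ?_⟩
    · show lev hQ Fr Ug * lev hQ Fr A = lev hQ Fr A * lev hQ Fr Ug
      rw [← map_mul, ← map_mul, hcomm]
    obtain ⟨W, hW⟩ : ∃ W, W = (scaleFirst (F := F) (k := k) (by omega) u)⁻¹ * Ug := ⟨_, rfl⟩
    have hWd : (W : Matrix (Fin k) (Fin k) F).det = 1 := by
      have h := congrArg Matrix.det (Units.inv_mul (scaleFirst (F := F) (k := k) (by omega) u))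
      rw [Matrix.det_mul, det_scaleFirst, Matrix.det_one] at h
      rw [hW, Units.val_mul, Matrix.det_mul, show (Ug : Matrix (Fin k) (Fin k) F).det = u from hUd, h]
    have hWΩ : (⟨lev hQ Fr W, lev_iso hQ Fr _⟩ : ↥(Cfsg.isometryGroup F Q)) ∈ Cfsg.Omega F Q := by
      obtain ⟨x, hx, he⟩ := Subgroup.mem_map.1 (lev_det_one hQ Fr hk W hWd)
      rwa [show (⟨lev hQ Fr W, lev_iso hQ Fr _⟩ : ↥(Cfsg.isometryGroup F Q)) = x from Subtype.ext he.symm]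
    rw [← clsHom_ker hQ (by omega) hex, MonoidHom.mem_ker] at hWΩ
    have hsplit : (⟨lev hQ Fr Ug, lev_iso hQ Fr _⟩ : ↥(Cfsg.isometryGroup F Q)) =
        ⟨lev hQ Fr (scaleFirst (by omega) u), lev_iso hQ Fr _⟩ * ⟨lev hQ Fr W, lev_iso hQ Fr _⟩ := Subtype.ext (by
      show lev hQ Fr Ug = lev hQ Fr (scaleFirst _ u) * lev hQ Fr W
      rw [← map_mul, hW, mul_inv_cancel_left])
    rw [hsplit, map_mul, hWΩ, mul_one, cls_scaleFirst hQ Fr hex (by omega) u]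
    refine Prod.ext ?_ rfl
    show sqc (u : F) = _
    unfold sqc
    rw [dif_neg u.ne_zero]
    exact congrArg _ (Units.ext rfl)
  suffices h : ∃ c : ↥(Cfsg.isometryGroup F Q), (c : GL ι F) * lev hQ Fr A = lev hQ Fr A * c ∧
      clsHom hQ hex c = clsHom hQ hex p by
    obtain ⟨c, hc, he⟩ := h
    exact ⟨c, hc, by rw [← clsHom_ker hQ (by omega) hex, MonoidHom.mem_ker, map_mul, map_inv, he, mul_inv_cancel]⟩
  rcases (show ∀ z : ZMod 2, z = 0 ∨ z = 1 by decide) (Multiplicative.toAdd (clsHom hQ hex p).2) with h | h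
  · obtain ⟨c, hc, he⟩ := hlev (clsHom hQ hex p).1
    exact ⟨c, hc, he.trans (Prod.ext rfl (Multiplicative.toAdd.injective h).symm)⟩
  · obtain ⟨c, hc, he⟩ := hlev ((clsHom hQ hex p).1 * sqc (Q w))
    refine ⟨c * R, ?_, ?_⟩
    · rw [Subgroup.coe_mul, mul_assoc, hRc, ← mul_assoc, hc, mul_assoc]
    · rw [map_mul, he, hR, cls_refl hQ hex hw hrw hrwv, Prod.mk_mul_mk, one_mul, mul_assoc, sqc_mul_self hw, mul_one]
      exact Prod.ext rfl (Multiplicative.toAdd.injective h).symm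

/-- a conjugate of a Levi element in the isometry group is one in `Ω` -/
theorem exists_omega_conj (Fr : Frame Q k) (hk : 3 ≤ k) (hdim : 2 * k < Fintype.card ι) {A : GL (Fin k) F}
    {f : Polynomial F} (hcyc : Cyc f (A : Matrix (Fin k) (Fin k) F)) (hsr : SimpleRoot f) {τ : GL ι F}
    (hτ : τ ∈ Cfsg.isometryGroup F Q) :
    ∃ v ∈ omegaGL Q, v * lev hQ Fr A * v⁻¹ = τ * lev hQ Fr A * τ⁻¹ := by
  obtain ⟨c, hc, hΩ⟩ := exists_cent hQ Fr hk hdim hcyc hsr ⟨τ, hτ⟩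
  refine ⟨τ * (c : GL ι F)⁻¹, Subgroup.mem_map.2 ⟨_, hΩ, rfl⟩, ?_⟩
  calc τ * (c : GL ι F)⁻¹ * lev hQ Fr A * (τ * (c : GL ι F)⁻¹)⁻¹
      = τ * ((c : GL ι F)⁻¹ * (lev hQ Fr A * c)) * τ⁻¹ := by group
    _ = _ := by rw [← hc]; group

/-- the Levi elements of all frames are conjugate in `Ω` -/
theorem exists_conj_frames (Fr Fr' : Frame Q k) (hk : 3 ≤ k) (hdim : 2 * k < Fintype.card ι) {A : GL (Fin k) F}
    {f : Polynomial F} (hcyc : Cyc f (A : Matrix (Fin k) (Fin k) F)) (hsr : SimpleRoot f) :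
    ∃ v ∈ omegaGL Q, v * lev hQ Fr A * v⁻¹ = lev hQ Fr' A := by
  obtain ⟨σ, hσ, he, hf⟩ := exists_frame_iso hQ Fr Fr'
  obtain ⟨v, hv, h⟩ := exists_omega_conj hQ Fr hk hdim hcyc hsr hσ
  exact ⟨v, hv, h.trans (lev_transport hQ hσ he hf A)⟩

/-- they are real -/
theorem exists_conj_inv (Fr : Frame Q k) (hk : 3 ≤ k) (hdim : 2 * k < Fintype.card ι) {A : GL (Fin k) F}
    {f : Polynomial F} (hcyc : Cyc f (A : Matrix (Fin k) (Fin k) F)) (hsr : SimpleRoot f) :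
    ∃ v ∈ omegaGL Q, v * lev hQ Fr A * v⁻¹ = (lev hQ Fr A)⁻¹ := by
  obtain ⟨σ, hσ, he, hf⟩ := exists_frame_iso hQ Fr Fr.swap
  have hσA : σ * lev hQ Fr A * σ⁻¹ = lev hQ Fr (cot A) := by
    rw [lev_transport hQ hσ he hf A, ← lev_swap hQ Fr (cot A), cot_cot]
  have hAA : (A : Matrix (Fin k) (Fin k) F) * ((A⁻¹ : GL (Fin k) F) : Matrix (Fin k) (Fin k) F) = 1 := Units.mul_inv A
  obtain ⟨U, V, hUV, hVU, hcot⟩ := sim_transpose (cyc_inv hcyc hAA)
  obtain ⟨P, hP⟩ : ∃ P : GL (Fin k) F, P = ⟨U, V, hUV, hVU⟩ := ⟨_, rfl⟩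
  have hPA : cot A = P * A⁻¹ * P⁻¹ := Units.ext (by rw [hP]; exact hcot)
  obtain ⟨v, hv, h⟩ := exists_omega_conj hQ Fr hk hdim hcyc hsr
    (mul_mem (inv_mem (lev_iso hQ Fr P)) hσ)
  refine ⟨v, hv, h.trans ?_⟩
  calc (lev hQ Fr P)⁻¹ * σ * lev hQ Fr A * ((lev hQ Fr P)⁻¹ * σ)⁻¹
      = (lev hQ Fr P)⁻¹ * (σ * lev hQ Fr A * σ⁻¹) * lev hQ Fr P := by group
    _ = _ := by
        rw [hσA, hPA, map_mul, map_mul, map_inv, map_inv]; group

end CfsgLib.Lie.ClassSquare
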