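import Cfsg.Agent.Lib.Lie.ClassSquare.Basic

/-!
# The two radicals of a set of fundamental roots are normalised by its Levi subgroup
-/

set_option autoImplicit false

namespace CfsgLib.Lie.ClassSquare

open Cfsg.Lie CfsgLib.Lie.Chev
open scoped MatrixGroups Pointwise

variable {D : ChevalleyDatum} {K : Type*} [Field K]

/-- membership in `closure` is kept by conjugation when it is on generators -/
theorem conj_mem_closure {G : Type*} [Group G] {s : Set G} {x : G}
    (h : ∀ y ∈ s, x * y * x⁻¹ ∈ Subgroup.closure s) :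
    ∀ v ∈ Subgroup.closure s, x * v * x⁻¹ ∈ Subgroup.closure s := by
  intro v hv
  induction hv using Subgroup.closure_induction with
  | mem y hy => exact h y hy
  | one => simp
  | mul a b _ _ ha hb =>
    rw [show x * (a * b) * x⁻¹ = (x * a * x⁻¹) * (x * b * x⁻¹) by group]; exact mul_mem ha hb
  | inv a _ ha => rw [show x * a⁻¹ * x⁻¹ = (x * a * x⁻¹)⁻¹ by group]; exact inv_mem ha

/-- a generating set split into a part normalised by the other -/
theorem exists_mul_of_normalized {G : Type*} [Group G] {N M : Subgroup G} (hM : M ≤ Subgroup.normalizer (N : Set G))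
    {x : G} (hx : x ∈ N ⊔ M) : ∃ n ∈ N, ∃ m ∈ M, x = n * m := by
  have : x ∈ ((N : Set G) * (M : Set G)) := by
    rw [← Subgroup.coe_mul_of_right_le_normalizer_left _ _ hM]; exact hx
  obtain ⟨n, hn, m, hm, rfl⟩ := Set.mem_mul.1 this
  exact ⟨n, hn, m, hm, rfl⟩

/-- the same with the normalised part on the right -/
theorem exists_mul_of_normalized' {G : Type*} [Group G] {N M : Subgroup G} (hM : M ≤ Subgroup.normalizer (N : Set G))
    {x : G} (hx : x ∈ N ⊔ M) : ∃ n ∈ N, ∃ m ∈ M, x = m * n := by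
  obtain ⟨n, hn, m, hm, e⟩ := exists_mul_of_normalized hM hx
  refine ⟨m⁻¹ * n * m, ?_, m, hm, by rw [e]; group⟩
  exact (Subgroup.mem_normalizer_iff''.1 (hM hm) n).1 hn

section good

variable (G : Good D) {J : Finset (Fin D.rank)}

theorem UJ_le_U : (UJ G J : Subgroup (GL D.Idx K)) ≤ D.posUnipotent K := by
  rw [UJ, Subgroup.closure_le]; rintro g ⟨r, t, hr, rfl⟩; exact G.xu_mem_U hr.1 t

theorem VJ_le_V : (VJ G J : Subgroup (GL D.Idx K)) ≤ D.negUnipotent K := by
  rw [VJ, Subgroup.closure_le]; rintro g ⟨r, t, hr, rfl⟩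
  exact G.xu_mem_V ((G.isNegRoot_iff_not_pos _).2 hr.1) t

theorem VR_le_V : (VR G J : Subgroup (GL D.Idx K)) ≤ D.negUnipotent K := by
  rw [VR, Subgroup.closure_le]; rintro g ⟨r, t, hr, rfl⟩
  exact G.xu_mem_V ((G.isNegRoot_iff_not_pos _).2 hr.1) t

theorem UJ_le_LJ : (UJ G J : Subgroup (GL D.Idx K)) ≤ LJ G J := by
  rw [UJ, Subgroup.closure_le]; rintro g ⟨r, t, hr, rfl⟩
  exact Subgroup.subset_closure ⟨r, t, hr.2, rfl⟩

theorem VJ_le_LJ : (VJ G J : Subgroup (GL D.Idx K)) ≤ LJ G J := by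
  rw [VJ, Subgroup.closure_le]; rintro g ⟨r, t, hr, rfl⟩
  exact Subgroup.subset_closure ⟨r, t, hr.2, rfl⟩

theorem LJ_le_group : (LJ G J : Subgroup (GL D.Idx K)) ≤ D.group K := by
  rw [LJ, Subgroup.closure_le]; rintro g ⟨r, t, -, rfl⟩; exact G.xu_mem r t

theorem levi_le_group : D.diagonalSubgroup K ⊔ (LJ G J : Subgroup (GL D.Idx K)) ≤ D.group K :=
  sup_le G.diagonal_le_group (LJ_le_group G)

theorem U_le_sup : D.posUnipotent K ≤ (UR G J : Subgroup (GL D.Idx K)) ⊔ UJ G J := by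
  rw [G.posUnipotent_eq_closure, Subgroup.closure_le]
  rintro g ⟨r, t, hr, rfl⟩
  by_cases h : InJ G J r
  · exact Subgroup.mem_sup_right (Subgroup.subset_closure ⟨r, t, ⟨hr, h⟩, rfl⟩)
  · exact Subgroup.mem_sup_left (Subgroup.subset_closure ⟨r, t, ⟨hr, h⟩, rfl⟩)

theorem V_le_sup : D.negUnipotent K ≤ (VR G J : Subgroup (GL D.Idx K)) ⊔ VJ G J := by
  rw [G.negUnipotent_eq_closure, Subgroup.closure_le]
  rintro g ⟨r, t, hr, rfl⟩
  have hr' := (G.isNegRoot_iff_not_pos r).1 hr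
  by_cases h : InJ G J r
  · exact Subgroup.mem_sup_right (Subgroup.subset_closure ⟨r, t, ⟨hr', h⟩, rfl⟩)
  · exact Subgroup.mem_sup_left (Subgroup.subset_closure ⟨r, t, ⟨hr', h⟩, rfl⟩)

theorem inJ_single {i : Fin D.rank} {r : Fin D.nroots} (h : InJ G {i} r) :
    r = G.simp' i ∨ r = G.negr (G.simp' i) := by
  have key : ∀ s : Fin D.nroots, D.IsPosRoot s.val → InJ G {i} s → s = G.simp' i := by
    intro s hs hJ
    by_contra hne
    obtain ⟨j, hj, hpos⟩ := G.exists_coord hs hne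
    have := hJ j (by simpa using hj)
    omega
  by_cases hr : D.IsPosRoot r.val
  · exact Or.inl (key r hr h)
  · refine Or.inr ?_
    have := key _ ((G.negr_pos_iff r).2 hr) fun m hm => by rw [G.rho_negr, Pi.neg_apply, h m hm, neg_zero]
    rw [← this, G.negr_negr]

theorem UJ_single {i : Fin D.rank} {u : GL D.Idx K} (hu : u ∈ (UJ G {i} : Subgroup (GL D.Idx K))) :
    ∃ t, u = G.xu (G.simp' i) t := by
  induction hu using Subgroup.closure_induction with
  | mem y hy =>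
    obtain ⟨r, t, ⟨hp, hr⟩, rfl⟩ := hy
    rcases inJ_single G hr with rfl | rfl
    · exact ⟨t, rfl⟩
    · exact absurd hp (G.negr_simp_not_pos i)
  | one => exact ⟨0, (G.xu_zero _).symm⟩
  | mul a b _ _ ha hb =>
    obtain ⟨s, rfl⟩ := ha; obtain ⟨t, rfl⟩ := hb; exact ⟨s + t, (G.xu_add _ _ _).symm⟩
  | inv a _ ha => obtain ⟨s, rfl⟩ := ha; exact ⟨-s, G.xu_inv _ _⟩

theorem VJ_single {i : Fin D.rank} {u : GL D.Idx K} (hu : u ∈ (VJ G {i} : Subgroup (GL D.Idx K))) :
    ∃ t, u = G.xu (G.negr (G.simp' i)) t := by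
  induction hu using Subgroup.closure_induction with
  | mem y hy =>
    obtain ⟨r, t, ⟨hp, hr⟩, rfl⟩ := hy
    rcases inJ_single G hr with rfl | rfl
    · exact absurd (G.simp_pos i) hp
    · exact ⟨t, rfl⟩
  | one => exact ⟨0, (G.xu_zero _).symm⟩
  | mul a b _ _ ha hb =>
    obtain ⟨s, rfl⟩ := ha; obtain ⟨t, rfl⟩ := hb; exact ⟨s + t, (G.xu_add _ _ _).symm⟩
  | inv a _ ha => obtain ⟨s, rfl⟩ := ha; exact ⟨-s, G.xu_inv _ _⟩

end good

section full

variable (C : Full D) {J : Finset (Fin D.rank)}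

/-- the sign of a combination with a root of the subsystem is the sign of the outside root -/
theorem combo_sign {r s q : Fin D.nroots} (hrJ : InJ C.G J r) (hsJ : ¬ InJ C.G J s) {i j : ℕ} (hj : 1 ≤ j)
    (hq : C.G.rho q = (i : ℤ) • C.G.rho r + (j : ℤ) • C.G.rho s) :
    ¬ InJ C.G J q ∧ (D.IsPosRoot q.val ↔ D.IsPosRoot s.val) := by
  simp only [InJ, not_forall] at hsJ
  obtain ⟨m, hm, h0⟩ := hsJ
  have e : C.G.rho q m = (j : ℤ) * C.G.rho s m := by
    rw [hq, Pi.add_apply, Pi.smul_apply, Pi.smul_apply, hrJ m hm]; simp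
  have hj' : (1 : ℤ) ≤ j := by exact_mod_cast hj
  refine ⟨fun h => ?_, ?_⟩
  · have := h m hm
    rw [e] at this
    rcases mul_eq_zero.1 this with h1 | h1 <;> omega
  · rcases lt_or_gt_of_ne h0 with hlt | hgt
    · have h1 : ¬ D.IsPosRoot s.val := fun h => by have := C.G.rho_nonneg h m; omega
      have h2 : ¬ D.IsPosRoot q.val := fun h => by
        have := C.G.rho_nonneg h m
        rw [e] at this
        nlinarith
      exact iff_of_false h2 h1
    · exact iff_of_true (C.G.isPosRoot_of_coord (j := m) (by rw [e]; positivity)) (C.G.isPosRoot_of_coord hgt)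

theorem levi_normalizes (P : Prop → Prop) :
    D.diagonalSubgroup K ⊔ LJ C.G J ≤ Subgroup.normalizer
      (Subgroup.closure {g : GL D.Idx K | ∃ r t, (P (D.IsPosRoot (r : Fin D.nroots).val) ∧ ¬ InJ C.G J r) ∧
        g = C.G.xu r t} : Set (GL D.Idx K)) := by
  refine sup_le (C.G.H_le_normalizer fun r => P (D.IsPosRoot r.val) ∧ ¬ InJ C.G J r) ?_
  rw [LJ, Subgroup.closure_le]
  rintro g ⟨r, t, hr, rfl⟩
  have key : ∀ t : K, ∀ v ∈ Subgroup.closure {g : GL D.Idx K | ∃ r t,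
      (P (D.IsPosRoot (r : Fin D.nroots).val) ∧ ¬ InJ C.G J r) ∧ g = C.G.xu r t},
      C.G.xu r t * v * (C.G.xu r t)⁻¹ ∈ Subgroup.closure {g : GL D.Idx K | ∃ r t,
        (P (D.IsPosRoot (r : Fin D.nroots).val) ∧ ¬ InJ C.G J r) ∧ g = C.G.xu r t} := by
    intro t
    refine conj_mem_closure ?_
    rintro y ⟨s, u, ⟨hsP, hsJ⟩, rfl⟩
    have hsr : s ≠ r := fun e => hsJ (e ▸ hr)
    have hsn : s ≠ C.G.negr r := fun e => hsJ (by
      rw [e]; intro m hm; rw [C.G.rho_negr, Pi.neg_apply, hr m hm, neg_zero])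
    obtain ⟨l, hl, e⟩ := C.conj_xu r s hsr hsn (-t) u
    rw [← C.G.xu_inv, inv_inv] at e
    rw [e]
    refine mul_mem (Subgroup.subset_closure ⟨s, u, ⟨hsP, hsJ⟩, rfl⟩) (list_prod_mem fun x hx => ?_)
    obtain ⟨p, hp, rfl⟩ := List.mem_map.1 hx
    obtain ⟨i, j, -, hj, hq⟩ := hl p hp
    obtain ⟨h1, h2⟩ := combo_sign C hr hsJ hj hq
    exact Subgroup.subset_closure ⟨p.1, p.2, ⟨by rwa [propext h2], h1⟩, rfl⟩
  rw [SetLike.mem_coe, Subgroup.mem_normalizer_iff]
  intro v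
  refine ⟨key t v, fun hv => ?_⟩
  have h := key (-t) _ hv
  rw [← C.G.xu_inv] at h
  simpa [mul_assoc] using h

theorem levi_normalizes_UR :
    D.diagonalSubgroup K ⊔ LJ C.G J ≤ Subgroup.normalizer ((UR C.G J : Subgroup (GL D.Idx K)) : Set (GL D.Idx K)) :=
  levi_normalizes C id

theorem levi_normalizes_VR :
    D.diagonalSubgroup K ⊔ LJ C.G J ≤ Subgroup.normalizer ((VR C.G J : Subgroup (GL D.Idx K)) : Set (GL D.Idx K)) :=
  levi_normalizes C Not

theorem exists_UR_UJ {u : GL D.Idx K} (hu : u ∈ D.posUnipotent K) :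
    ∃ a ∈ (UR C.G J : Subgroup (GL D.Idx K)), ∃ b ∈ (UJ C.G J : Subgroup (GL D.Idx K)), u = b * a :=
  exists_mul_of_normalized'
    (((UJ_le_LJ C.G).trans le_sup_right).trans (levi_normalizes_UR C)) (U_le_sup C.G hu)

theorem exists_VR_VJ {v : GL D.Idx K} (hv : v ∈ D.negUnipotent K) :
    ∃ a ∈ (VR C.G J : Subgroup (GL D.Idx K)), ∃ b ∈ (VJ C.G J : Subgroup (GL D.Idx K)), v = a * b :=
  exists_mul_of_normalized
    (((VJ_le_LJ C.G).trans le_sup_right).trans (levi_normalizes_VR C)) (V_le_sup C.G hv)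

end full

end CfsgLib.Lie.ClassSquare
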