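import Cfsg.Agent.Lib.Lie.ClassSquare.Move
import Cfsg.Agent.Lib.Lie.Chev.Simple

/-!
# Every element of the torus occurs as the middle part
-/

set_option autoImplicit false

namespace CfsgLib.Lie.ClassSquare

open Cfsg.Lie CfsgLib.Lie.Chev
open scoped MatrixGroups Classical

variable {D : ChevalleyDatum} {K : Type*} [Field K]

/-- an order of the nodes in which each one has, among the later ones, at most one neighbour -/
def LeafOrder (D : ChevalleyDatum) : List (Fin D.rank) → Prop
  | [] => True
  | [_] => True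
  | i :: R => i ∉ R ∧ (∃ k ∈ R, ∀ j ∈ R, j ≠ k → cmat D i j = 0 ∧ cmat D j i = 0) ∧ LeafOrder D R

/-- the hypotheses on the diagram -/
structure DiagramOK (D : ChevalleyDatum) : Prop where
  conn : DiagramConnected D
  row : ∀ k : Fin D.rank, ∑ j, (cmat D k j).natAbs ≤ 5
  order : ∃ o : List (Fin D.rank), (∀ j, j ∈ o) ∧ LeafOrder D o

theorem card_zpow_eq_le [Fintype K] {e : ℤ} (he : e ≠ 0) (y : Kˣ) :
    (Finset.univ.filter fun s : Kˣ => s ^ e = y).card ≤ e.natAbs := by
  classical
  obtain ⟨y', hy'⟩ : ∃ y' : Kˣ, ∀ s : Kˣ, s ^ e = y ↔ s ^ e.natAbs = y' := by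
    rcases Int.natAbs_eq e with h | h
    · exact ⟨y, fun s => by rw [h, zpow_natCast, Int.natAbs_natCast]⟩
    · refine ⟨y⁻¹, fun s => ?_⟩
      rw [h, zpow_neg, zpow_natCast, Int.natAbs_neg, Int.natAbs_natCast, inv_eq_iff_eq_inv]
  refine le_trans ?_ (Polynomial.card_nthRoots e.natAbs (y' : K))
  refine le_trans (le_of_eq ?_) ((Polynomial.nthRoots e.natAbs (y' : K)).toFinset_card_le)
  rw [← Finset.card_image_of_injective (Finset.univ.filter fun s : Kˣ => s ^ e = y) Units.val_injective]
  congr 1
  ext x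
  simp only [Finset.mem_image, Finset.mem_filter, Finset.mem_univ, true_and, Multiset.mem_toFinset,
    Polynomial.mem_nthRoots (Int.natAbs_pos.2 he)]
  constructor
  · rintro ⟨s, hs, rfl⟩
    rw [← Units.val_pow_eq_pow_val, (hy' s).1 hs]
  · intro hx
    have hx0 : x ≠ 0 := by
      rintro rfl
      rw [zero_pow (Int.natAbs_ne_zero.2 he)] at hx
      exact y'.ne_zero hx.symm
    exact ⟨Units.mk0 x hx0, (hy' _).2 (Units.ext (by simpa using hx)), rfl⟩

section good

variable (G : Good D)

theorem al_mul_single (c : Fin D.rank → Kˣ) (k : Fin D.rank) (s : Kˣ) (j : Fin D.rank) :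
    al G (c * Pi.mulSingle k s) j = al G c j * s ^ cart D k (G.simp' j) := by
  rw [al_mul, al_single]

theorem cmat_eq (k j : Fin D.rank) : cmat D k j = cart D k (G.simp' j) := by
  rw [cmat, cart, G.simp_val]

/-- a value on the coroot `k` keeping every good node good and making its neighbours good -/
theorem exists_step [Fintype K] (h9 : 9 ≤ Fintype.card K) {k : Fin D.rank}
    (hrow : ∑ j, (cmat D k j).natAbs ≤ 5) (c : Fin D.rank → Kˣ) (y : Kˣ) :
    ∃ s : Kˣ, (∀ j, (al G c j ≠ 1 ∨ cart D k (G.simp' j) ≠ 0) → al G (c * Pi.mulSingle k s) j ≠ 1) ∧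
      s ^ (2 : ℤ) ≠ y := by
  classical
  let S : Fin D.rank → Finset Kˣ := fun j => if cart D k (G.simp' j) = 0 then ∅ else
    (Finset.univ : Finset Kˣ).filter fun s : Kˣ => s ^ cart D k (G.simp' j) = (al G c j)⁻¹
  have hS : ∀ j, (S j).card ≤ (cmat D k j).natAbs := by
    intro j
    rw [cmat_eq G]
    simp only [S]
    split_ifs with h
    · simp
    · exact card_zpow_eq_le h _
  have hcard : (Finset.univ.biUnion S ∪ Finset.univ.filter fun s : Kˣ => s ^ (2 : ℤ) = y).card <
      (Finset.univ : Finset Kˣ).card := by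
    calc _ ≤ (Finset.univ.biUnion S).card + (Finset.univ.filter fun s : Kˣ => s ^ (2 : ℤ) = y).card :=
          Finset.card_union_le _ _
      _ ≤ 5 + 2 := add_le_add
          ((Finset.card_biUnion_le.trans (Finset.sum_le_sum fun j _ => hS j)).trans hrow)
          (card_zpow_eq_le (by norm_num) y)
      _ < _ := by rw [Finset.card_univ, Fintype.card_units]; omega
  obtain ⟨s, -, hs⟩ := Finset.exists_mem_notMem_of_card_lt_card hcard
  simp only [Finset.mem_union, Finset.mem_biUnion, Finset.mem_univ, true_and, Finset.mem_filter, not_or,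
    not_exists] at hs
  refine ⟨s, fun j hj h => ?_, hs.2⟩
  rw [al_mul_single] at h
  by_cases h0 : cart D k (G.simp' j) = 0
  · rw [h0, zpow_zero, mul_one] at h
    exact (hj.resolve_right (fun e => e h0)) h
  · refine hs.1 j ?_
    simp only [S, if_neg h0, Finset.mem_filter, Finset.mem_univ, true_and]
    exact eq_inv_of_mul_eq_one_right h

end good

section full

variable (C : Full D)

include C

theorem InCell.step {g : GL D.Idx K} {c : Fin D.rank → Kˣ} {k : Fin D.rank}
    (hg : InCell D g (C.G.torθ c)) (hk : al C.G c k ≠ 1) (s : Kˣ) :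
    InCell D g (C.G.torθ (c * Pi.mulSingle k s)) :=
  (movable_of_al C hg hk).move C s

/-- all nodes can be made good -/
theorem spread [Fintype K] (hD : DiagramOK D) (h9 : 9 ≤ Fintype.card K) {g : GL D.Idx K} :
    ∀ (n : ℕ) (c : Fin D.rank → Kˣ), InCell D g (C.G.torθ c) → (∃ j, al C.G c j ≠ 1) →
      (Finset.univ.filter fun j => al C.G c j = 1).card ≤ n →
      ∃ c', InCell D g (C.G.torθ c') ∧ ∀ j, al C.G c' j ≠ 1 := by
  classical
  intro n
  induction n with
  | zero =>
    intro c hc _ h0
    refine ⟨c, hc, fun j hj => ?_⟩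
    rw [Nat.le_zero, Finset.card_eq_zero] at h0
    exact Finset.notMem_empty j (h0 ▸ by simp [hj])
  | succ n ih =>
    intro c hc hex hn
    by_cases hall : ∀ j, al C.G c j ≠ 1
    · exact ⟨c, hc, hall⟩
    obtain ⟨j0, hj0⟩ := hex
    obtain ⟨k, hk, j, hj, hkj, -⟩ := hD.conn (Finset.univ.filter fun j => al C.G c j ≠ 1)
      (Finset.mem_powerset.2 (Finset.subset_univ _)) ⟨j0, by simp [hj0]⟩ (fun e => hall fun j => by
        have := Finset.mem_univ j
        rw [← e, Finset.mem_filter] at this
        exact this.2)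
    simp only [Finset.mem_filter, Finset.mem_univ, true_and, not_not] at hk hj
    obtain ⟨s, hs, -⟩ := exists_step C.G h9 (hD.row k) c 1
    refine ih _ (InCell.step C hc hk s) ⟨k, hs k (Or.inl hk)⟩ ?_
    have hkj' : cart D k (C.G.simp' j) ≠ 0 := by rwa [← cmat_eq C.G]
    have hss : (Finset.univ.filter fun l => al C.G (c * Pi.mulSingle k s) l = 1) ⊆
        (Finset.univ.filter fun l => al C.G c l = 1).erase j := by
      intro l hl
      simp only [Finset.mem_filter, Finset.mem_univ, true_and, Finset.mem_erase] at hl ⊢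
      refine ⟨fun e => hs j (Or.inr hkj') (e ▸ hl), ?_⟩
      by_contra hl'
      exact hs l (Or.inl hl') hl
    have h1 := Finset.card_le_card hss
    rw [Finset.card_erase_of_mem (by simp [hj])] at h1
    omega

/-- from a position with all remaining nodes good, the target is reached -/
theorem reach [Fintype K] (hD : DiagramOK D) (h9 : 9 ≤ Fintype.card K) {g : GL D.Idx K}
    (target : Fin D.rank → Kˣ) : ∀ (R : List (Fin D.rank)), LeafOrder D R → ∀ c : Fin D.rank → Kˣ,
      InCell D g (C.G.torθ c) → (∀ j, j ∉ R → c j = target j) → (∀ j ∈ R, al C.G c j ≠ 1) →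
      InCell D g (C.G.torθ target) := by
  intro R
  induction R with
  | nil =>
    intro _ c hc hd' _
    rw [show target = c from funext fun j => (hd' j List.not_mem_nil).symm]
    exact hc
  | cons i R ih =>
    intro hR c hc hd' hg'
    cases R with
    | nil =>
      have h := InCell.step C hc (hg' i (List.mem_singleton_self i)) ((c i)⁻¹ * target i)
      rwa [show c * Pi.mulSingle i ((c i)⁻¹ * target i) = target from funext fun j => by
        by_cases hj : j = i
        · subst hj; simp
        · simp [hj, hd' j (by simp [hj])]] at h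
    | cons a R =>
      obtain ⟨hiR, ⟨k, hk, honly⟩, hrest⟩ := hR
      have hki : k ≠ i := fun e => hiR (e ▸ hk)
      set u := (c i)⁻¹ * target i with hu
      set y : Kˣ := (al C.G c k * u ^ cart D i (C.G.simp' k))⁻¹ with hy
      have hrow : ∑ j, (cmat D k j).natAbs ≤ 5 := hD.row k
      have H := exists_step (K := K) C.G h9 (k := k) hrow c
      obtain ⟨s, hs, hs2⟩ := H y
      obtain ⟨c₁, hc₁⟩ : ∃ c₁ : Fin D.rank → Kˣ, c₁ = c * Pi.mulSingle k s := ⟨_, rfl⟩
      simp only [← hc₁] at hs
      have hgi : al C.G c₁ i ≠ 1 := hs i (Or.inl (hg' i List.mem_cons_self))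
      have hgk : al C.G c k ≠ 1 := hg' k (List.mem_cons_of_mem _ hk)
      have h1 : InCell D g (C.G.torθ c₁) := hc₁ ▸ InCell.step (c := c) (k := k) C hc hgk s
      have h2 : InCell D g (C.G.torθ (c₁ * Pi.mulSingle i u)) := InCell.step (c := c₁) (k := i) C h1 hgi u
      obtain ⟨c₂, hc₂⟩ : ∃ c₂ : Fin D.rank → Kˣ, c₂ = c₁ * Pi.mulSingle i u := ⟨_, rfl⟩
      rw [← hc₂] at h2
      refine ih hrest c₂ h2 (fun j hj => ?_) ?_
      all_goals subst hc₂
      · have hjk : j ≠ k := fun e => hj (e ▸ hk)
        by_cases hji : j = i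
        · subst hji; simp [hc₁, hjk, hu]
        · have hjn : j ∉ i :: a :: R := by
            intro h
            rcases List.mem_cons.1 h with h | h
            · exact hji h
            · exact hj h
          simp [hc₁, hjk, hji, hd' j hjn]
      · intro j hj
        rw [al_mul_single, hc₁]
        by_cases hjk : j = k
        · subst hjk
          rw [al_mul_single, C.G.cart_simp]
          intro h
          refine hs2 ?_
          rw [hy]
          refine eq_inv_of_mul_eq_one_right ?_
          exact (mul_right_comm (al C.G c j) (u ^ cart D i (C.G.simp' j)) (s ^ (2 : ℤ))).trans h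
        · rw [show cart D i (C.G.simp' j) = 0 by rw [← cmat_eq C.G]; exact (honly j hj hjk).1, zpow_zero, mul_one]
          exact hc₁ ▸ hs j (Or.inl (hg' j (List.mem_cons_of_mem _ hj)))

/-- a non-trivial element is conjugate into `V h U` for every `h` in the torus -/
theorem exists_prescribed [Fintype K] (hD : DiagramOK D) (h9 : 9 ≤ Fintype.card K) {g : GL D.Idx K}
    (hg : g ∈ D.group K) (hg1 : g ≠ 1) {h : GL D.Idx K} (hh : h ∈ D.diagonalSubgroup K) : InCell D g h := by
  classical
  rw [C.G.diagonal_eq_range] at hh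
  obtain ⟨target, rfl⟩ := hh
  obtain ⟨c, i, hmv⟩ := exists_movable C (exists_ne_scalar (by omega)) hg hg1
  obtain ⟨s, hs, -⟩ := exists_step C.G h9 (hD.row i) c 1
  have hsi : al C.G (c * Pi.mulSingle i s) i ≠ 1 := hs i (Or.inr (by rw [C.G.cart_simp]; norm_num))
  obtain ⟨c', hc', hall⟩ := spread C hD h9 _ _ (hmv.move C s) ⟨i, hsi⟩ le_rfl
  obtain ⟨o, hmem, ho⟩ := hD.order
  exact reach C hD h9 target o ho c' hc' (fun j hj => absurd (hmem j) hj) fun j _ => hall j

end full

end CfsgLib.Lie.ClassSquare
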