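import Cfsg.Agent.Lib.Lie.ClassSquare.GL
import Cfsg.Agent.Lib.GLClass.Cover.PSL

/-!
`PSL(n, q)` is the square of a conjugacy class.
-/

set_option autoImplicit false

namespace CfsgLib.Lie.ClassSquare

open Polynomial Matrix
open CfsgLib.GLClass.CommSL CfsgLib.GLClass.Cover

variable {F : Type*} [Field F] {n : ℕ}

theorem exists_sl_conj {X : Matrix.SpecialLinearGroup (Fin n) F} {y : Matrix (Fin n) (Fin n) F}
    (h : ConjD 1 (X : Matrix (Fin n) (Fin n) F) y) :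
    ∃ W : Matrix.SpecialLinearGroup (Fin n) F, y = ((W * X * W⁻¹ : Matrix.SpecialLinearGroup (Fin n) F) : Matrix (Fin n) (Fin n) F) := by
  obtain ⟨U, V, hUV, hUd, rfl⟩ := h
  obtain ⟨W, hW⟩ : ∃ W : Matrix.SpecialLinearGroup (Fin n) F, (W : Matrix (Fin n) (Fin n) F) = U := ⟨⟨U, hUd⟩, rfl⟩
  have hVd : V.det = 1 := by
    have := congrArg Matrix.det hUV
    rwa [det_mul, hUd, one_mul, det_one] at this
  obtain ⟨W', hW'⟩ : ∃ W' : Matrix.SpecialLinearGroup (Fin n) F, (W' : Matrix (Fin n) (Fin n) F) = V := ⟨⟨V, hVd⟩, rfl⟩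
  have hWW : W * W' = 1 := Subtype.ext (by rw [Matrix.SpecialLinearGroup.coe_mul, hW, hW', hUV]; rfl)
  refine ⟨W, ?_⟩
  rw [Matrix.SpecialLinearGroup.coe_mul, Matrix.SpecialLinearGroup.coe_mul, inv_eq_of_mul_eq_one_right hWW, hW, hW']

theorem psl_class_square (F : Type*) [Field F] [Fintype F] (hF : 9 ≤ Fintype.card F) (n : ℕ) (hn : 2 ≤ n) :
    ∃ c : Matrix.ProjectiveSpecialLinearGroup (Fin n) F, ∀ g : Matrix.ProjectiveSpecialLinearGroup (Fin n) F,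
      ∃ x y, g = (x * c * x⁻¹) * (y * c * y⁻¹) := by
  obtain ⟨a, ha, ha1⟩ := exists_sq_ne_one (F := F) (by omega)
  obtain ⟨A₀, B₀, f, hcA, hsr, hdet, hAB, hcB⟩ := exists_cyc_real hn ha ha1
  have hflex : Flex A₀ := flex_of_simpleRoot hcA hsr
  obtain ⟨A, hA⟩ : ∃ A : Matrix.SpecialLinearGroup (Fin n) F, (A : Matrix (Fin n) (Fin n) F) = A₀ := ⟨⟨A₀, hdet⟩, rfl⟩
  subst hA
  refine ⟨QuotientGroup.mk A, fun g => ?_⟩
  obtain ⟨G, rfl⟩ := QuotientGroup.mk_surjective g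
  by_cases hG : ∃ c : F, (G : Matrix (Fin n) (Fin n) F) = c • 1
  · rw [(mk_ne_one_iff (by omega)).2 hG]
    obtain ⟨δ, hδ⟩ := exists_conjD_of_sim (hcB.sim hcA)
    obtain ⟨W, hW⟩ := exists_sl_conj (hflex.conjD hδ one_ne_zero)
    have hWA : A * (W * A * W⁻¹) = 1 := Subtype.ext (by
      rw [Matrix.SpecialLinearGroup.coe_mul, ← hW, hAB]; rfl)
    refine ⟨1, QuotientGroup.mk W, ?_⟩
    rw [inv_one, one_mul, mul_one, ← QuotientGroup.mk_mul, ← QuotientGroup.mk_inv, ← QuotientGroup.mk_mul,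
      ← QuotientGroup.mk_mul, hWA, QuotientGroup.mk_one]
  push Not at hG
  obtain ⟨y, z, ε, hy, hz, hM, -⟩ := two_class hn hG hcA hcA hsr
    (by rw [hdet, G.property, one_mul]) (by rw [G.property]; exact one_ne_zero)
    (δ₁ := 1) (δ₂ := 1) one_ne_zero one_ne_zero
  obtain ⟨U, rfl⟩ := exists_sl_conj (hflex.conjD hy one_ne_zero)
  obtain ⟨V, rfl⟩ := exists_sl_conj hz
  refine ⟨QuotientGroup.mk U, QuotientGroup.mk V, ?_⟩
  have hGe : G = U * A * U⁻¹ * (V * A * V⁻¹) := Subtype.ext (by rw [hM, Matrix.SpecialLinearGroup.coe_mul (U * A * U⁻¹)])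
  rw [hGe]
  simp only [QuotientGroup.mk_mul, QuotientGroup.mk_inv]

end CfsgLib.Lie.ClassSquare
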