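import Cfsg.Agent.Lib.OreSp.Block

/-!
A non-central symplectic matrix has a conjugate whose upper left block is invertible, of determinant one,
and not scalar.
-/

set_option autoImplicit false

namespace CfsgLib.Lie.ClassSquare

open Matrix Polynomial CfsgLib.OreSp

variable {F : Type*} [Field F] {ι : Type*} [Fintype ι] [DecidableEq ι]

local notation "MM" => Matrix ι ι F
local notation "SP" => Matrix.symplecticGroup ι F
/-- the upper left block -/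
abbrev b11 (g : Matrix.symplecticGroup ι F) : MM := (g : Matrix (ι ⊕ ι) (ι ⊕ ι) F).toBlocks₁₁

/-- the lower left block -/
abbrev b21 (g : Matrix.symplecticGroup ι F) : MM := (g : Matrix (ι ⊕ ι) (ι ⊕ ι) F).toBlocks₂₁

theorem sp_blocks (g : SP) : ∃ M N Q D : MM, (g : Matrix (ι ⊕ ι) (ι ⊕ ι) F) = fromBlocks M N Q D :=
  ⟨_, _, _, _, (fromBlocks_toBlocks _).symm⟩

theorem upi_inv {R : MM} (hR : Rᵀ = R) :
    (mk' (upi R) (upi_mem hR))⁻¹ = mk' (upi (-R)) (upi_mem (by rw [transpose_neg, hR])) := by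
  refine inv_eq_of_mul_eq_one_right (Subtype.ext ?_)
  show upi R * upi (-R) = 1
  simp [upi, fromBlocks_multiply, fromBlocks_one]

theorem lowi_inv {R : MM} (hR : Rᵀ = R) :
    (mk' (lowi R) (lowi_mem hR))⁻¹ = mk' (lowi (-R)) (lowi_mem (by rw [transpose_neg, hR])) := by
  refine inv_eq_of_mul_eq_one_right (Subtype.ext ?_)
  show lowi R * lowi (-R) = 1
  simp [lowi, fromBlocks_multiply, fromBlocks_one]

/-- conjugating by an upper unipotent element -/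
theorem exists_up_move (g : SP) {R : MM} (hR : Rᵀ = R) :
    ∃ g' : SP, IsConj g g' ∧ b11 g' = b11 g + R * b21 g ∧ b21 g' = b21 g := by
  obtain ⟨M, N, Q, D, hg⟩ := sp_blocks g
  refine ⟨mk' (upi R) (upi_mem hR) * g * (mk' (upi R) (upi_mem hR))⁻¹, isConj_iff.2 ⟨_, rfl⟩, ?_, ?_⟩ <;>
    simp only [upi_inv hR] <;> simp [b11, b21, mk', upi, hg, fromBlocks_multiply]

/-- a non-central element is conjugate to one with non-zero lower left block -/
theorem exists_lower_ne (g : SP) (hg : ∀ s : F, (g : Matrix (ι ⊕ ι) (ι ⊕ ι) F) ≠ s • 1) :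
    ∃ g' : SP, IsConj g g' ∧ b21 g' ≠ 0 := by
  by_contra hcon
  push Not at hcon
  obtain ⟨M, N, Q, D, hgb⟩ := sp_blocks g
  have hQ : Q = 0 := by
    have h := hcon g (IsConj.refl g)
    simpa [b21, hgb] using h
  subst hQ
  have hN : N = 0 := by
    have h := hcon (SymplecticGroup.symJ ι F * g * (SymplecticGroup.symJ ι F)⁻¹) (isConj_iff.2 ⟨_, rfl⟩)
    have hJi : (SymplecticGroup.symJ ι F)⁻¹ = mk' (-(J ι F)) (SymplecticGroup.neg_mem (SymplecticGroup.J_mem ι F)) := by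
      refine inv_eq_of_mul_eq_one_right (Subtype.ext ?_)
      show J ι F * -(J ι F) = 1
      rw [Matrix.mul_neg, J_squared, neg_neg]
    rw [hJi] at h
    simpa [b21, SymplecticGroup.symJ, mk', hgb, J, fromBlocks_multiply, fromBlocks_neg] using h
  subst hN
  have hcomm : ∀ S : MM, Sᵀ = S → S * M = D * S := fun S hS => by
    have h := hcon (mk' (lowi S) (lowi_mem hS) * g * (mk' (lowi S) (lowi_mem hS))⁻¹) (isConj_iff.2 ⟨_, rfl⟩)
    rw [lowi_inv hS] at h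
    simp [b21, mk', lowi, hgb, fromBlocks_multiply] at h
    exact sub_eq_zero.1 (by rw [sub_eq_add_neg]; exact h)
  have hDM : D = M := by
    have := hcomm 1 transpose_one
    rw [Matrix.one_mul, Matrix.mul_one] at this
    exact this.symm
  subst hDM
  have hdiag : ∀ i j, i ≠ j → D i j = 0 := fun i j hij => by
    have h := congrFun (congrFun (hcomm (Matrix.single i i 1) (by simp [Matrix.transpose_single])) i) j
    rw [Matrix.single_mul_apply_same, one_mul, Matrix.mul_single_apply_of_ne _ _ _ _ _ (Ne.symm hij)] at h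
    exact h
  have hsame : ∀ i j, D i i = D j j := fun i j => by
    rcases eq_or_ne i j with rfl | hij
    · rfl
    have h := congrFun (congrFun (hcomm (Matrix.single i j 1 + Matrix.single j i 1)
      (by simp [Matrix.transpose_single, add_comm])) i) j
    rw [Matrix.add_mul, Matrix.mul_add, Matrix.add_apply, Matrix.add_apply, Matrix.single_mul_apply_same,
      Matrix.single_mul_apply_of_ne _ _ _ _ _ hij, Matrix.mul_single_apply_same,
      Matrix.mul_single_apply_of_ne _ _ _ _ _ (Ne.symm hij)] at h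
    simpa using h.symm
  rcases isEmpty_or_nonempty ι with hι | ⟨⟨i₀⟩⟩
  · exact hg 1 (Subsingleton.elim _ _)
  refine hg (D i₀ i₀) ?_
  have hD : D = D i₀ i₀ • (1 : MM) := by
    ext i j
    rcases eq_or_ne i j with rfl | hij
    · simp [hsame i i₀]
    · simp [hdiag i j hij, hij]
  rw [hgb, ← fromBlocks_one, fromBlocks_smul, ← hD, smul_zero]

theorem vmv' (b s z : ι → F) : vecMulVec b s *ᵥ z = (s ⬝ᵥ z) • b := by
  rw [Matrix.vecMulVec_mulVec, op_smul_eq_smul]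

/-- the set `M + RQ`, `R` symmetric, meets the invertible matrices -/
theorem exists_symm_invertible (Q : MM) : ∀ (k : ℕ) (M : MM), Module.finrank F (LinearMap.ker M.mulVecLin) ≤ k →
    Mᵀ * Q = Qᵀ * M → (∀ x, M *ᵥ x = 0 → Q *ᵥ x = 0 → x = 0) → ∃ R : MM, Rᵀ = R ∧ (M + R * Q).det ≠ 0 := by
  intro k
  induction k with
  | zero =>
    intro M hk _ _
    refine ⟨0, transpose_zero, fun h0 => ?_⟩
    rw [Matrix.zero_mul, add_zero] at h0
    obtain ⟨x, hx, hMx⟩ := exists_mulVec_eq_zero_iff.2 h0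
    have hbot := Submodule.finrank_eq_zero.1 (Nat.le_zero.1 hk)
    exact hx ((Submodule.mem_bot F).1 (hbot ▸ LinearMap.mem_ker.2 hMx))
  | succ k ih =>
    intro M hk hsym hker
    by_cases hbot : LinearMap.ker M.mulVecLin = ⊥
    · exact ih M (by rw [hbot, finrank_bot]; exact Nat.zero_le _) hsym hker
    obtain ⟨x, hx, hx0⟩ := Submodule.exists_mem_ne_zero_of_ne_bot hbot
    have hMx : M *ᵥ x = 0 := hx
    obtain ⟨i, hi⟩ : ∃ i, (Q *ᵥ x) i ≠ 0 := by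
      by_contra hne
      push Not at hne
      exact hx0 (hker x hMx (funext hne))
    obtain ⟨r, hr⟩ : ∃ r : ι → F, r = Pi.single i 1 := ⟨_, rfl⟩
    have hrx : r ⬝ᵥ (Q *ᵥ x) ≠ 0 := by rw [hr, single_dotProduct, one_mul]; exact hi
    obtain ⟨M', hM'⟩ : ∃ M' : MM, M' = M + vecMulVec r r * Q := ⟨_, rfl⟩
    have hrr : (vecMulVec r r)ᵀ = vecMulVec r r := transpose_vecMulVec r r
    have hkey : ∀ z, M' *ᵥ z = 0 → M *ᵥ z = 0 ∧ r ⬝ᵥ (Q *ᵥ z) = 0 := by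
      intro z hz
      rw [hM', Matrix.add_mulVec, ← Matrix.mulVec_mulVec, vmv'] at hz
      have h1 : (Q *ᵥ x) ⬝ᵥ (M *ᵥ z) = 0 := by
        rw [Matrix.dotProduct_mulVec, ← Matrix.mulVec_transpose, Matrix.mulVec_mulVec, hsym,
          ← Matrix.mulVec_mulVec, hMx, Matrix.mulVec_zero, zero_dotProduct]
      have h2 := congrArg ((Q *ᵥ x) ⬝ᵥ ·) hz
      simp only [dotProduct_add, dotProduct_smul, h1, zero_add, dotProduct_zero, smul_eq_mul, mul_eq_zero] at h2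
      have h3 : r ⬝ᵥ (Q *ᵥ z) = 0 := h2.resolve_right (by rwa [dotProduct_comm])
      rw [h3, zero_smul, add_zero] at hz
      exact ⟨hz, h3⟩
    have hlt : Module.finrank F (LinearMap.ker M'.mulVecLin) < Module.finrank F (LinearMap.ker M.mulVecLin) := by
      refine Submodule.finrank_lt_finrank_of_lt (lt_of_le_of_ne (fun z hz => (hkey z hz).1) fun he => ?_)
      have hxk : x ∈ LinearMap.ker M'.mulVecLin := he ▸ hx
      exact hrx (hkey x hxk).2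
    obtain ⟨R, hR, hdet⟩ := ih M' (by omega)
      (by rw [hM', transpose_add, transpose_mul, hrr, Matrix.add_mul, Matrix.mul_add, hsym, Matrix.mul_assoc])
      (fun z hz hQz => hker z (hkey z hz).1 hQz)
    refine ⟨vecMulVec r r + R, by rw [transpose_add, hrr, hR], ?_⟩
    rwa [Matrix.add_mul, ← add_assoc, ← hM']

theorem lowC_symm (g : SP) (hM : (b11 g).det ≠ 0) : (b21 g * (b11 g)⁻¹)ᵀ = b21 g * (b11 g)⁻¹ := by
  obtain ⟨M, N, Q, D, hg⟩ := sp_blocks g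
  obtain ⟨h1, -, -⟩ := SymplecticGroup.fromBlocks_mem_iff.1 (hg ▸ g.2)
  simp only [b11, b21, hg, toBlocks_fromBlocks₁₁, toBlocks_fromBlocks₂₁] at hM ⊢
  have hu := det_unit hM
  have hu' : IsUnit (Mᵀ).det := by rwa [det_transpose]
  calc (Q * M⁻¹)ᵀ = (M⁻¹)ᵀ * (Qᵀ * M) * M⁻¹ := by
        simp [transpose_mul, Matrix.mul_assoc, mul_nonsing_inv M hu]
    _ = Q * M⁻¹ := by
        rw [← h1, transpose_nonsing_inv, ← Matrix.mul_assoc, nonsing_inv_mul _ hu', Matrix.one_mul]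

theorem exists_inv_block (g : SP) : ∃ g' : SP, IsConj g g' ∧ b21 g' = b21 g ∧ (b11 g').det ≠ 0 := by
  obtain ⟨M, N, Q, D, hg⟩ := sp_blocks g
  obtain ⟨h1, -, -⟩ := SymplecticGroup.fromBlocks_mem_iff.1 (hg ▸ g.2)
  have hd := (SymplecticGroup.symplectic_det g.2).ne_zero
  obtain ⟨R, hR, hdet⟩ := exists_symm_invertible Q _ M le_rfl h1 fun x hMx hQx => by
    by_contra hne
    refine hd (exists_mulVec_eq_zero_iff.1 ⟨Sum.elim x 0, fun h => hne (funext fun i => congrFun h (Sum.inl i)), ?_⟩)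
    rw [hg, fromBlocks_mulVec]
    simp [hMx, hQx]
  obtain ⟨g', hc, e1, e2⟩ := exists_up_move g hR
  simp only [b11, b21, hg, toBlocks_fromBlocks₁₁, toBlocks_fromBlocks₂₁] at e1 e2 ⊢
  exact ⟨g', hc, e2, by rwa [e1]⟩

/-- a rank one move, in terms of the form `C = Q M⁻¹` -/
theorem exists_rank_one_move (g : SP) (hM : (b11 g).det ≠ 0) (r : ι → F) (t : F) {C : MM}
    (hC : C = b21 g * (b11 g)⁻¹) :
    ∃ g' : SP, IsConj g g' ∧ b11 g' = (1 + vecMulVec (t • r) (C *ᵥ r)) * b11 g ∧ b21 g' = b21 g ∧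
      (b11 g').det = (1 + t * (r ⬝ᵥ (C *ᵥ r))) * (b11 g).det := by
  have hCs : Cᵀ = C := hC ▸ lowC_symm g hM
  obtain ⟨g', hc, e1, e2⟩ := exists_up_move g (R := vecMulVec (t • r) r)
    (by rw [transpose_vecMulVec, Matrix.vecMulVec_smul, Matrix.smul_vecMulVec])
  refine ⟨g', hc, ?_, e2, ?_⟩
  · have hQ : b21 g = C * b11 g := by
      rw [hC, Matrix.mul_assoc, nonsing_inv_mul _ (det_unit hM), Matrix.mul_one]
    rw [e1, hQ, Matrix.add_mul, Matrix.one_mul, ← Matrix.mul_assoc, Matrix.vecMulVec_mul, ← Matrix.mulVec_transpose,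
      hCs]
  · have hQ : b21 g = C * b11 g := by
      rw [hC, Matrix.mul_assoc, nonsing_inv_mul _ (det_unit hM), Matrix.mul_one]
    rw [e1, hQ, ← Matrix.mul_assoc, Matrix.vecMulVec_mul, ← Matrix.mulVec_transpose, hCs,
      ← Matrix.one_mul (b11 g), ← Matrix.mul_assoc _ (1 : MM), Matrix.mul_one, ← Matrix.add_mul, det_mul,
      Matrix.vecMulVec_eq Unit, Matrix.det_one_add_replicateCol_mul_replicateRow, Matrix.one_mul, dotProduct_smul,
      smul_eq_mul, dotProduct_comm (C *ᵥ r)]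

/-- the new form at the moved vector -/
theorem move_form {C M M' Q C' : MM} {r : ι → F} {t : F} (hM : M.det ≠ 0) (hM' : M'.det ≠ 0)
    (hC : C = Q * M⁻¹) (hC' : C' = Q * M'⁻¹) (he : M' = (1 + vecMulVec (t • r) (C *ᵥ r)) * M) (x : ι → F) :
    C' *ᵥ x + (((C *ᵥ r) ⬝ᵥ x) * t) • (C' *ᵥ r) = C *ᵥ x := by
  have h1 : C' * (1 + vecMulVec (t • r) (C *ᵥ r)) = C := by
    have h2 : C' * M' = Q := by rw [hC', Matrix.mul_assoc, nonsing_inv_mul _ (det_unit hM'), Matrix.mul_one]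
    rw [he, ← Matrix.mul_assoc] at h2
    calc C' * (1 + vecMulVec (t • r) (C *ᵥ r))
        = C' * (1 + vecMulVec (t • r) (C *ᵥ r)) * M * M⁻¹ := by
          rw [Matrix.mul_assoc _ M, mul_nonsing_inv _ (det_unit hM), Matrix.mul_one]
      _ = C := by rw [h2, hC]
  conv_rhs => rw [← h1]
  rw [← Matrix.mulVec_mulVec, Matrix.add_mulVec, Matrix.one_mulVec, vmv', Matrix.mulVec_add, Matrix.mulVec_smul,
    Matrix.mulVec_smul, smul_smul]

/-- a vector of non-zero value which is not an eigenvector -/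
theorem exists_moved_vector [Fintype F] (h5 : 5 ≤ Fintype.card F) {M C : MM} {r₀ : ι → F}
    (hr₀ : r₀ ⬝ᵥ (C *ᵥ r₀) ≠ 0) (hns : ∀ s : F, M ≠ s • 1) :
    ∃ r : ι → F, r ⬝ᵥ (C *ᵥ r) ≠ 0 ∧ ∀ μ : F, M *ᵥ r ≠ μ • r := by
  classical
  by_cases hev : ∃ lam : F, M *ᵥ r₀ = lam • r₀
  swap
  · push Not at hev
    exact ⟨r₀, hr₀, hev⟩
  obtain ⟨lam, hlam⟩ := hev
  obtain ⟨w, hw⟩ : ∃ w, M *ᵥ w ≠ lam • w := by
    by_contra hne
    push Not at hne
    exact hns lam (Matrix.ext_iff_mulVec.2 fun z => by rw [hne, Matrix.smul_mulVec, Matrix.one_mulVec])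
  obtain ⟨P, hP⟩ : ∃ P : F[X], P = Polynomial.C (r₀ ⬝ᵥ (C *ᵥ r₀)) +
      Polynomial.C (r₀ ⬝ᵥ (C *ᵥ w) + w ⬝ᵥ (C *ᵥ r₀)) * X + Polynomial.C (w ⬝ᵥ (C *ᵥ w)) * X ^ 2 := ⟨_, rfl⟩
  have hP0 : P.eval 0 ≠ 0 := by rw [hP]; simpa using hr₀
  have hPne : P ≠ 0 := fun h => hP0 (by rw [h, eval_zero])
  have hPd : P.natDegree ≤ 2 := by rw [hP]; compute_degree
  have hval : ∀ s, P.eval s = (r₀ + s • w) ⬝ᵥ (C *ᵥ (r₀ + s • w)) := fun s => by
    rw [hP]
    simp only [eval_add, eval_mul, eval_C, eval_X, eval_pow, Matrix.mulVec_add, Matrix.mulVec_smul, add_dotProduct,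
      dotProduct_add, smul_dotProduct, dotProduct_smul, smul_eq_mul]
    ring
  obtain ⟨bad, hbad⟩ : ∃ bad : Finset F, bad = insert 0 P.roots.toFinset := ⟨_, rfl⟩
  have hcard : 1 < (Finset.univ \ bad).card := by
    have h1 : bad.card ≤ 3 := by
      rw [hbad]
      have h2 : P.roots.toFinset.card ≤ P.natDegree := le_trans (Multiset.toFinset_card_le _) (card_roots' P)
      exact le_trans (Finset.card_insert_le _ _) (by omega)
    have := Finset.le_card_sdiff bad Finset.univ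
    rw [Finset.card_univ] at this
    omega
  obtain ⟨s, hs, s', hs', hss⟩ := Finset.one_lt_card.1 hcard
  have hgood : ∀ u ∈ Finset.univ \ bad, u ≠ 0 ∧ (r₀ + u • w) ⬝ᵥ (C *ᵥ (r₀ + u • w)) ≠ 0 := by
    intro u hu
    simp only [hbad, Finset.mem_sdiff, Finset.mem_insert, Multiset.mem_toFinset, mem_roots hPne, IsRoot.def,
      not_or] at hu
    exact ⟨hu.2.1, by rw [← hval]; exact hu.2.2⟩
  obtain ⟨hs0, hq⟩ := hgood s hs
  obtain ⟨hs0', hq'⟩ := hgood s' hs'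
  by_cases hev : ∃ μ : F, M *ᵥ (r₀ + s • w) = μ • (r₀ + s • w)
  swap
  · push Not at hev
    exact ⟨_, hq, hev⟩
  obtain ⟨μ, hμ⟩ := hev
  refine ⟨r₀ + s' • w, hq', fun μ' hμ' => hw ?_⟩
  have hexp : ∀ (u ν : F), u ≠ 0 → M *ᵥ (r₀ + u • w) = ν • (r₀ + u • w) →
      M *ᵥ w = ν • w + ((ν - lam) / u) • r₀ := by
    intro u ν hu h
    rw [Matrix.mulVec_add, Matrix.mulVec_smul, hlam] at h
    calc M *ᵥ w = u⁻¹ • (u • M *ᵥ w) := by rw [smul_smul, inv_mul_cancel₀ hu, one_smul]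
      _ = u⁻¹ • (ν • (r₀ + u • w) - lam • r₀) := by rw [← h]; congr 1; abel
      _ = _ := by match_scalars <;> field_simp
  have e1 := hexp s μ hs0 hμ
  have e2 := hexp s' μ' hs0' hμ'
  have hr0 : r₀ ≠ 0 := fun h => hr₀ (by rw [h, zero_dotProduct])
  have hind : ∀ a b : F, a • w + b • r₀ = 0 → a = 0 ∧ b = 0 := by
    intro a b h
    by_cases ha : a = 0
    · rw [ha, zero_smul, zero_add, smul_eq_zero] at h
      exact ⟨ha, h.resolve_right hr0⟩
    · exfalso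
      have hwv : w = (-b / a) • r₀ := by
        calc w = a⁻¹ • (a • w + b • r₀) + (-b / a) • r₀ := by match_scalars <;> field_simp <;> ring
          _ = _ := by rw [h, smul_zero, zero_add]
      exact hw (by rw [hwv, Matrix.mulVec_smul, hlam, smul_smul, smul_smul, mul_comm])
  obtain ⟨h1, h2⟩ := hind (μ - μ') ((μ - lam) / s - (μ' - lam) / s') (by
    have h : μ • w + ((μ - lam) / s) • r₀ - (μ' • w + ((μ' - lam) / s') • r₀) = 0 := by rw [← e1, ← e2, sub_self]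
    rw [← h]; module)
  have hμμ : μ' = μ := (sub_eq_zero.1 h1).symm
  rw [hμμ, sub_eq_zero, div_eq_div_iff hs0 hs0'] at h2
  have h4 : (μ - lam) * (s' - s) = 0 := by linear_combination h2
  have h5 : μ - lam = 0 := (mul_eq_zero.1 h4).resolve_right (sub_ne_zero.2 (Ne.symm hss))
  rw [e1, h5, zero_div, zero_smul, add_zero, sub_eq_zero.1 h5]

/-- the normalised conjugate -/
theorem exists_det_one_block [Fintype F] (h5 : 5 ≤ Fintype.card F) (h2ι : 2 ≤ Fintype.card ι) (g : SP)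
    (hg : ∀ s : F, (g : Matrix (ι ⊕ ι) (ι ⊕ ι) F) ≠ s • 1) :
    ∃ g' : SP, IsConj g g' ∧ (b11 g').det = 1 ∧ ∀ s : F, b11 g' ≠ s • 1 := by
  classical
  haveI : Nonempty ι := Fintype.card_pos_iff.1 (by omega)
  obtain ⟨g₁, c₁, hQ₁⟩ := exists_lower_ne g hg
  obtain ⟨g₂, c₂, eQ₂, hd₂⟩ := exists_inv_block g₁
  have hQ₂ : b21 g₂ ≠ 0 := eQ₂ ▸ hQ₁
  obtain ⟨g₃, c₃, hd₃, x₃, hx₃⟩ : ∃ g₃ : SP, IsConj g g₃ ∧ (b11 g₃).det ≠ 0 ∧
      ∃ x : ι → F, x ⬝ᵥ ((b21 g₃ * (b11 g₃)⁻¹) *ᵥ x) ≠ 0 := by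
    by_cases hx : ∃ x : ι → F, x ⬝ᵥ ((b21 g₂ * (b11 g₂)⁻¹) *ᵥ x) ≠ 0
    · exact ⟨g₂, c₁.trans c₂, hd₂, hx⟩
    push Not at hx
    obtain ⟨C, hC⟩ : ∃ C, C = b21 g₂ * (b11 g₂)⁻¹ := ⟨_, rfl⟩
    rw [← hC] at hx
    obtain ⟨r, hr⟩ : ∃ r, C *ᵥ r ≠ 0 := by
      by_contra hne
      push Not at hne
      refine hQ₂ ?_
      have h0 : C = 0 := Matrix.ext_iff_mulVec.2 fun z => by rw [hne, Matrix.zero_mulVec]
      calc b21 g₂ = C * b11 g₂ := by rw [hC, Matrix.mul_assoc, nonsing_inv_mul _ (det_unit hd₂), Matrix.mul_one]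
        _ = 0 := by rw [h0, Matrix.zero_mul]
    obtain ⟨g₃, c₃, e1, e2, e3⟩ := exists_rank_one_move g₂ hd₂ r 1 hC
    have hd₃ : (b11 g₃).det ≠ 0 := by rw [e3, hx r, mul_zero, add_zero, one_mul]; exact hd₂
    obtain ⟨C', hC'⟩ : ∃ C', C' = b21 g₃ * (b11 g₃)⁻¹ := ⟨_, rfl⟩
    obtain ⟨i, hi⟩ : ∃ i, (C *ᵥ r) i ≠ 0 := by
      by_contra hne
      push Not at hne
      exact hr (funext hne)
    have hcr : (C *ᵥ r) ⬝ᵥ r = 0 := by rw [dotProduct_comm]; exact hx r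
    have hform := move_form hd₂ hd₃ hC (e2 ▸ hC') e1
    have hr' : C' *ᵥ r = C *ᵥ r := by
      have := hform r
      rwa [hcr, zero_mul, zero_smul, add_zero] at this
    obtain ⟨x, hxe⟩ : ∃ x : ι → F, x = Pi.single i 1 := ⟨_, rfl⟩
    refine ⟨g₃, (c₁.trans c₂).trans c₃, hd₃, x, fun h0 => hi ?_⟩
    rw [← hC'] at h0
    have h1 := congrArg (x ⬝ᵥ ·) (hform x)
    simp only [dotProduct_add, dotProduct_smul, hr', h0, hx x, zero_add, smul_eq_mul, mul_one] at h1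
    have hxi : x ⬝ᵥ (C *ᵥ r) = (C *ᵥ r) i := by rw [hxe, single_dotProduct, one_mul]
    rw [dotProduct_comm (C *ᵥ r) x, hxi] at h1
    exact (mul_self_eq_zero).1 h1
  -- the determinant is made different from one
  obtain ⟨g₄, c₄, hd₄, hd₄', x₄, hx₄⟩ : ∃ g₄ : SP, IsConj g g₄ ∧ (b11 g₄).det ≠ 0 ∧ (b11 g₄).det ≠ 1 ∧
      ∃ x : ι → F, x ⬝ᵥ ((b21 g₄ * (b11 g₄)⁻¹) *ᵥ x) ≠ 0 := by
    by_cases h1 : (b11 g₃).det = 1
    swap
    · exact ⟨g₃, c₃, hd₃, h1, x₃, hx₃⟩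
    obtain ⟨δ, hδ⟩ : ∃ δ : F, δ ∉ ({0, 1} : Finset F) := by
      by_contra hne
      simp only [not_exists, not_not] at hne
      have h1 := Finset.card_le_card (show (Finset.univ : Finset F) ⊆ {0, 1} from fun x _ => hne x)
      have h2 : ({0, 1} : Finset F).card ≤ 2 := Finset.card_le_two
      rw [Finset.card_univ] at h1
      omega
    simp only [Finset.mem_insert, Finset.mem_singleton, not_or] at hδ
    obtain ⟨C, hC⟩ : ∃ C, C = b21 g₃ * (b11 g₃)⁻¹ := ⟨_, rfl⟩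
    rw [← hC] at hx₃
    obtain ⟨t, ht⟩ : ∃ t, t = (δ - 1) / (x₃ ⬝ᵥ (C *ᵥ x₃)) := ⟨_, rfl⟩
    have h1t : 1 + t * (x₃ ⬝ᵥ (C *ᵥ x₃)) = δ := by rw [ht, div_mul_cancel₀ _ hx₃]; ring
    obtain ⟨g₄, c₄, e1, e2, e3⟩ := exists_rank_one_move g₃ hd₃ x₃ t hC
    rw [h1t, h1, mul_one] at e3
    obtain ⟨C', hC'⟩ : ∃ C', C' = b21 g₄ * (b11 g₄)⁻¹ := ⟨_, rfl⟩
    refine ⟨g₄, c₃.trans c₄, by rw [e3]; exact hδ.1, by rw [e3]; exact hδ.2, x₃, fun h0 => hx₃ ?_⟩
    rw [← hC'] at h0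
    have h2 := congrArg (x₃ ⬝ᵥ ·) (move_form hd₃ (by rw [e3]; exact hδ.1) hC (e2 ▸ hC') e1 x₃)
    simp only [dotProduct_add, dotProduct_smul, h0, zero_add, smul_eq_mul, mul_zero] at h2
    exact h2.symm
  -- and then equal to one
  obtain ⟨C, hC⟩ : ∃ C, C = b21 g₄ * (b11 g₄)⁻¹ := ⟨_, rfl⟩
  rw [← hC] at hx₄
  have hq : ∀ r : ι → F, r ⬝ᵥ (C *ᵥ r) ≠ 0 →
      ∃ t : F, t ≠ 0 ∧ (1 + t * (r ⬝ᵥ (C *ᵥ r))) * (b11 g₄).det = 1 := by
    intro r hr
    refine ⟨((b11 g₄).det⁻¹ - 1) / (r ⬝ᵥ (C *ᵥ r)), div_ne_zero (sub_ne_zero.2 ?_) hr, ?_⟩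
    · exact fun h => hd₄' (inv_eq_one.1 h)
    · rw [div_mul_cancel₀ _ hr, add_sub_cancel, inv_mul_cancel₀ hd₄]
  by_cases hsc : ∃ s : F, b11 g₄ = s • 1
  · obtain ⟨s, hs⟩ := hsc
    obtain ⟨t, ht0, ht⟩ := hq x₄ hx₄
    obtain ⟨g₅, c₅, e1, -, e3⟩ := exists_rank_one_move g₄ hd₄ x₄ t hC
    refine ⟨g₅, c₄.trans c₅, e3.trans ht, fun κ hκ => ?_⟩
    rw [e1, hs, Matrix.mul_smul, Matrix.mul_one] at hκ
    have hs0 : s ≠ 0 := fun h => hd₄ (by rw [hs, h, zero_smul]; exact Matrix.det_zero)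
    have key : ∀ z : ι → F, s • (z + ((C *ᵥ x₄) ⬝ᵥ z) • t • x₄) = κ • z := fun z => by
      have := congrArg (· *ᵥ z) hκ
      simpa only [Matrix.smul_mulVec, Matrix.add_mulVec, Matrix.one_mulVec, vmv'] using this
    obtain ⟨z, hz0, hz⟩ : ∃ z : ι → F, z ≠ 0 ∧ (C *ᵥ x₄) ⬝ᵥ z = 0 := by
      have hker := LinearMap.ker_ne_bot_of_finrank_lt
        (f := (Matrix.of fun (_ : Fin 1) => C *ᵥ x₄).mulVecLin)
        (by rw [Module.finrank_fintype_fun_eq_card, Module.finrank_fintype_fun_eq_card, Fintype.card_fin]; omega)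
      obtain ⟨z, hz, hz0⟩ := Submodule.exists_mem_ne_zero_of_ne_bot hker
      exact ⟨z, hz0, congrFun (show (Matrix.of fun (_ : Fin 1) => C *ᵥ x₄) *ᵥ z = 0 from hz) 0⟩
    have h1 := key z
    rw [hz, zero_smul, add_zero] at h1
    have hsκ : s = κ := smul_left_injective F hz0 h1
    have h2 := key x₄
    rw [hsκ, smul_smul, dotProduct_comm (C *ᵥ x₄)] at h2
    have h3 : (κ * (x₄ ⬝ᵥ (C *ᵥ x₄) * t)) • x₄ = 0 := by
      rw [← sub_eq_zero] at h2
      rw [← h2]; module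
    have hx0 : x₄ ≠ 0 := fun h => hx₄ (by rw [h, zero_dotProduct])
    rcases smul_eq_zero.1 h3 with h | h
    · exact mul_ne_zero (hsκ ▸ hs0) (mul_ne_zero hx₄ ht0) h
    · exact hx0 h
  push Not at hsc
  obtain ⟨r, hr, hev⟩ := exists_moved_vector h5 hx₄ hsc
  obtain ⟨t, -, ht⟩ := hq r hr
  obtain ⟨g₅, c₅, e1, -, e3⟩ := exists_rank_one_move g₄ hd₄ r t hC
  refine ⟨g₅, c₄.trans c₅, e3.trans ht, fun κ hκ => ?_⟩
  -- a scalar value makes `r` an eigenvector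
  rw [e1] at hκ
  have hκ0 : κ ≠ 0 := fun h => by
    have h0 := e3.trans ht
    rw [e1, hκ, h, zero_smul, Matrix.det_zero] at h0
    exact zero_ne_one h0
  have hcomm : b11 g₄ * (1 + vecMulVec (t • r) (C *ᵥ r)) = κ • 1 := by
    have : (κ⁻¹ • (1 + vecMulVec (t • r) (C *ᵥ r))) * b11 g₄ = 1 := by
      rw [Matrix.smul_mul, hκ, smul_smul, inv_mul_cancel₀ hκ0, one_smul]
    have h' := mul_eq_one_comm.1 this
    rw [Matrix.mul_smul] at h'
    have h'' := congrArg (κ • ·) h'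
    simpa only [smul_smul, mul_inv_cancel₀ hκ0, one_smul] using h''
  have h1 := congrArg (· *ᵥ r) hcomm
  simp only [← Matrix.mulVec_mulVec, Matrix.add_mulVec, Matrix.one_mulVec, vmv', Matrix.smul_mulVec] at h1
  rw [smul_smul, dotProduct_comm (C *ᵥ r), Matrix.mulVec_add, Matrix.mulVec_smul] at h1
  have hne : 1 + r ⬝ᵥ (C *ᵥ r) * t ≠ 0 := fun h => by
    rw [mul_comm t, h, zero_mul] at ht
    exact zero_ne_one ht
  refine hev (κ / (1 + r ⬝ᵥ (C *ᵥ r) * t)) ?_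
  calc b11 g₄ *ᵥ r = (1 + r ⬝ᵥ (C *ᵥ r) * t)⁻¹ • (b11 g₄ *ᵥ r + (r ⬝ᵥ (C *ᵥ r) * t) • b11 g₄ *ᵥ r) := by
        match_scalars; field_simp
    _ = _ := by rw [h1, smul_smul, div_eq_inv_mul]

end CfsgLib.Lie.ClassSquare
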