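import Cfsg.Prelude.Def_Classical
import Cfsg.Agent.Lib.Lie.ClassSquare.GL
import Cfsg.Agent.Lib.Lie.ClassSquare.SpBlock

/-!
`PSp(2m, q)` is the square of a conjugacy class.
-/

set_option autoImplicit false

namespace CfsgLib.Lie.ClassSquare

open Matrix Polynomial CfsgLib.OreSp
open CfsgLib.GLClass.CommSL CfsgLib.GLClass.Cover

variable {F : Type*} [Field F] {n : ℕ}

/-- no symmetric form is invariant, when no two eigenvalues have product one -/
theorem eq_zero_of_intertwine {a b : F} {k : ℕ} {A B S : Matrix (Fin n) (Fin n) F} {f : F[X]}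
    (hf : f = (X - Polynomial.C a) * (X - Polynomial.C b) ^ k) (hA : A.charpoly = f) (hB : B.charpoly = f)
    (ha : a ≠ 0) (hb : b ≠ 0) (hfa : f.eval a⁻¹ ≠ 0) (hfb : f.eval b⁻¹ ≠ 0) (hdet : A.det ≠ 0)
    (h : B * S * A = S) : S = 0 := by
  have hu : IsUnit A.det := isUnit_iff_ne_zero.2 hdet
  have hS : SemiconjBy S A⁻¹ B := by
    show S * A⁻¹ = B * S
    conv_lhs => rw [← h]
    rw [Matrix.mul_assoc, mul_nonsing_inv A hu, Matrix.mul_one]
  have hpol : ∀ p : F[X], SemiconjBy S (aeval A⁻¹ p) (aeval B p) := by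
    intro p
    induction p using Polynomial.induction_on with
    | C c => rw [aeval_C, aeval_C]; exact (Algebra.commutes c S).symm
    | add p q hp hq => rw [map_add, map_add]; exact hp.add_right hq
    | monomial j c _ =>
      rw [map_mul, map_mul, aeval_C, aeval_C, map_pow, map_pow, aeval_X, aeval_X]
      exact SemiconjBy.mul_right (Algebra.commutes c S).symm (hS.pow_right _)
  have h0 : S * aeval A⁻¹ f = 0 := by
    have h1 : S * aeval A⁻¹ f = aeval B f * S := hpol f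
    rw [h1, ← hB, aeval_self_charpoly, Matrix.zero_mul]
  have hne : ∀ x : F, x ≠ 0 → f.eval x⁻¹ ≠ 0 → (A⁻¹ - x • (1 : Matrix (Fin n) (Fin n) F)).det ≠ 0 := by
    intro x hx hfx h1
    have h2 : A * (A⁻¹ - x • 1) = (-x) • (A - x⁻¹ • 1) := by
      rw [Matrix.mul_sub, mul_nonsing_inv A hu, Matrix.mul_smul, Matrix.mul_one, smul_sub, smul_smul,
        neg_mul, mul_inv_cancel₀ hx]
      module
    have h3 := congrArg Matrix.det h2
    rw [det_mul, h1, mul_zero, det_smul, eq_comm, mul_eq_zero] at h3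
    refine hfx ?_
    rw [← hA, Matrix.eval_charpoly, ← neg_sub, det_neg, Matrix.scalar_apply, ← Matrix.smul_one_eq_diagonal,
      h3.resolve_left (pow_ne_zero _ (neg_ne_zero.2 hx)), mul_zero]
  have hunit : IsUnit (aeval A⁻¹ f).det := by
    refine isUnit_iff_ne_zero.2 ?_
    rw [hf]
    simp only [map_mul, map_sub, map_pow, aeval_X, aeval_C, Algebra.algebraMap_eq_smul_one, det_mul, det_pow]
    exact mul_ne_zero (hne a ha hfa) (pow_ne_zero _ (hne b hb hfb))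
  have := congrArg (· * (aeval A⁻¹ f)⁻¹) h0
  simpa [Matrix.mul_assoc, mul_nonsing_inv _ hunit] using this

theorem exists_good_cyc [Fintype F] (h7 : 7 ≤ Fintype.card F) (hn : 2 ≤ n) :
    ∃ (A : Matrix (Fin n) (Fin n) F) (f : F[X]), Cyc f A ∧ SimpleRoot f ∧ A.det ≠ 0 ∧ Good A := by
  classical
  obtain ⟨a, ha⟩ : ∃ a : F, a ∉ ({0, 1, -1} : Finset F) := by
    by_contra hne
    simp only [not_exists, not_not] at hne
    have h1 := Finset.card_le_card (show (Finset.univ : Finset F) ⊆ {0, 1, -1} from fun x _ => hne x)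
    have h2 : ({0, 1, -1} : Finset F).card ≤ 3 := Finset.card_le_three
    rw [Finset.card_univ] at h1
    omega
  obtain ⟨b, hb⟩ : ∃ b : F, b ∉ ({0, 1, -1, a, a⁻¹} : Finset F) := by
    by_contra hne
    simp only [not_exists, not_not] at hne
    have h1 := Finset.card_le_card (show (Finset.univ : Finset F) ⊆ {0, 1, -1, a, a⁻¹} from fun x _ => hne x)
    have h2 : ({0, 1, -1, a, a⁻¹} : Finset F).card ≤ 5 := Finset.card_le_five
    rw [Finset.card_univ] at h1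
    omega
  simp only [Finset.mem_insert, Finset.mem_singleton, not_or] at ha hb
  obtain ⟨ha0, ha1, ha2⟩ := ha
  obtain ⟨hb0, hb1, hb2, hba, hbai⟩ := hb
  have hsq : ∀ x : F, x ≠ 0 → x ≠ 1 → x ≠ -1 → x⁻¹ ≠ x := fun x h0 h1 h2 h => by
    have hxx : x * x = 1 := by nth_rewrite 1 [← h]; exact inv_mul_cancel₀ h0
    exact (mul_self_eq_one_iff.1 hxx).elim h1 h2
  obtain ⟨k, rfl⟩ : ∃ k, n = k + 1 := ⟨n - 1, by omega⟩
  obtain ⟨f, hf⟩ : ∃ f : F[X], f = (X - Polynomial.C a) * (X - Polynomial.C b) ^ k := ⟨_, rfl⟩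
  have hfm : f.Monic := hf ▸ (monic_X_sub_C _).mul ((monic_X_sub_C _).pow _)
  have hfd : f.natDegree = k + 1 := by
    rw [hf, (monic_X_sub_C _).natDegree_mul ((monic_X_sub_C _).pow _), ((monic_X_sub_C _).natDegree_pow _),
      natDegree_X_sub_C, natDegree_X_sub_C, mul_one, add_comm]
  have hsr : SimpleRoot f := by
    refine ⟨a, _, (monic_X_sub_C b).pow k, ?_, hf⟩
    rw [eval_pow, eval_sub, eval_X, eval_C]
    exact pow_ne_zero _ (sub_ne_zero.2 fun h => hba h.symm)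
  have hev : ∀ x : F, f.eval x = (x - a) * (x - b) ^ k := fun x => by
    rw [hf]; simp only [eval_mul, eval_sub, eval_X, eval_C, eval_pow]
  have hfa : f.eval a⁻¹ ≠ 0 := by
    rw [hev]
    exact mul_ne_zero (sub_ne_zero.2 (hsq a ha0 ha1 ha2)) (pow_ne_zero _ (sub_ne_zero.2 fun h => hbai h.symm))
  have hfb : f.eval b⁻¹ ≠ 0 := by
    rw [hev]
    exact mul_ne_zero (sub_ne_zero.2 fun h => hbai (inv_eq_iff_eq_inv.1 h))
      (pow_ne_zero _ (sub_ne_zero.2 (hsq b hb0 hb1 hb2)))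
  obtain ⟨A, hA⟩ := exists_cyc (ι := Fin (k + 1)) hfm (by rw [hfd, Fintype.card_fin])
  have hdet : A.det ≠ 0 := by
    rw [cyc_det_eq hA, coeff_zero_eq_eval_zero, hev]
    exact mul_ne_zero (pow_ne_zero _ (neg_ne_zero.2 one_ne_zero))
      (mul_ne_zero (sub_ne_zero.2 (Ne.symm ha0)) (pow_ne_zero _ (sub_ne_zero.2 (Ne.symm hb0))))
  have hT : Aᵀ.charpoly = f := by rw [Matrix.charpoly_transpose, hA.charpoly_eq]
  refine ⟨A, f, hA, hsr, hdet, fun S _ => ⟨eq_zero_of_intertwine hf hA.charpoly_eq hT ha0 hb0 hfa hfb hdet,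
    eq_zero_of_intertwine hf hT hA.charpoly_eq ha0 hb0 hfa hfb (by rwa [det_transpose])⟩⟩

section Group

variable {ι : Type*} [Fintype ι] [DecidableEq ι]

/-- the Levi element in the group -/
noncomputable def dgS (A : Matrix ι ι F) (hA : A.det ≠ 0) : Matrix.symplecticGroup ι F := mk' (dgi A) (dgi_mem hA)

theorem isConj_of_intertwine {h X Y : Matrix.symplecticGroup ι F}
    (e : (h : Matrix (ι ⊕ ι) (ι ⊕ ι) F) * X = (Y : Matrix (ι ⊕ ι) (ι ⊕ ι) F) * h) : IsConj X Y :=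
  isConj_iff.2 ⟨h, mul_inv_eq_of_eq_mul (Subtype.ext e)⟩

theorem isConj_dgS_sim {A P P' : Matrix ι ι F} (hA : A.det ≠ 0) (hP : P * P' = 1)
    (hB : (P * A * P').det ≠ 0) : IsConj (dgS A hA) (dgS (P * A * P') hB) := by
  refine isConj_of_intertwine (h := dgS P (det_ne_zero_of_right_inverse hP)) ?_
  show dgi P * dgi A = dgi (P * A * P') * dgi P
  rw [dgi_mul, dgi_mul, Matrix.mul_assoc (P * A), mul_eq_one_comm.1 hP, Matrix.mul_one]

theorem dgS_inv {A : Matrix ι ι F} (hA : A.det ≠ 0) : (dgS A hA)⁻¹ = dgS A⁻¹ (det_inv_ne hA) := by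
  refine inv_eq_of_mul_eq_one_right (Subtype.ext ?_)
  show dgi A * dgi A⁻¹ = 1
  rw [dgi_mul, mul_nonsing_inv A (det_unit hA), dgi_one]

end Group

/-- the Levi element of a cyclic matrix is real -/
theorem dgS_real {A : Matrix (Fin n) (Fin n) F} {f : F[X]} (hA : Cyc f A) (hdet : A.det ≠ 0) :
    IsConj (dgS A hdet) (dgS A⁻¹ (det_inv_ne hdet)) := by
  have hc := cyc_inv hA (mul_nonsing_inv A (det_unit hdet))
  obtain ⟨U, V, h1, -, he⟩ := sim_transpose hc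
  have hTd : (((A⁻¹)ᵀ)).det ≠ 0 := by rw [det_transpose]; exact det_inv_ne hdet
  have c1 : IsConj (dgS A hdet) (dgS (A⁻¹)ᵀ hTd) := isConj_of_intertwine (h := SymplecticGroup.symJ (Fin n) F) (by
    show J (Fin n) F * dgi A = dgi (A⁻¹)ᵀ * J (Fin n) F
    exact J_mul_dgi hdet)
  have hd : (U * A⁻¹ * V).det ≠ 0 := by rwa [← he]
  have c2 : IsConj (dgS A⁻¹ (det_inv_ne hdet)) (dgS (U * A⁻¹ * V) hd) := isConj_dgS_sim _ h1 hd
  have e : dgS (A⁻¹)ᵀ hTd = dgS (U * A⁻¹ * V) hd := Subtype.ext (by show dgi _ = dgi _; rw [he])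
  exact c1.trans (e ▸ c2.symm)

theorem mem_center_of_scalar {ι : Type*} [Fintype ι] [DecidableEq ι] {g : Matrix.symplecticGroup ι F} {s : F}
    (hs : (g : Matrix (ι ⊕ ι) (ι ⊕ ι) F) = s • 1) : g ∈ Subgroup.center (Matrix.symplecticGroup ι F) := by
  refine Subgroup.mem_center_iff.2 fun h => Subtype.ext ?_
  show (h : Matrix (ι ⊕ ι) (ι ⊕ ι) F) * g = (g : Matrix (ι ⊕ ι) (ι ⊕ ι) F) * h
  rw [hs, Matrix.mul_smul, Matrix.smul_mul, Matrix.one_mul, Matrix.mul_one]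

theorem psp_class_square (F : Type*) [Field F] [Fintype F] (hF : 9 ≤ Fintype.card F) (m : ℕ) (hm : 2 ≤ m) :
    ∃ c : Cfsg.PSp m F, ∀ g : Cfsg.PSp m F, ∃ x y, g = (x * c * x⁻¹) * (y * c * y⁻¹) := by
  obtain ⟨A, f, hA, hsr, hdet, hgood⟩ := exists_good_cyc (F := F) (n := m) (by omega) hm
  obtain ⟨c, hc⟩ : ∃ c, c = dgS A hdet := ⟨_, rfl⟩
  refine ⟨QuotientGroup.mk c, fun g => ?_⟩
  obtain ⟨G, rfl⟩ := QuotientGroup.mk_surjective g
  suffices h : ∃ X Y : Matrix.symplecticGroup (Fin m) F, IsConj c X ∧ IsConj c Y ∧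
      (QuotientGroup.mk G : Cfsg.PSp m F) = QuotientGroup.mk (X * Y) by
    obtain ⟨X, Y, hX, hY, e⟩ := h
    obtain ⟨u, rfl⟩ := isConj_iff.1 hX
    obtain ⟨v, rfl⟩ := isConj_iff.1 hY
    exact ⟨QuotientGroup.mk u, QuotientGroup.mk v, by rw [e]; simp only [QuotientGroup.mk_mul, QuotientGroup.mk_inv]⟩
  have hreal : IsConj c c⁻¹ := by
    rw [hc, dgS_inv]
    exact dgS_real hA hdet
  by_cases hG : ∃ s : F, (G : Matrix (Fin m ⊕ Fin m) (Fin m ⊕ Fin m) F) = s • 1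
  · obtain ⟨s, hs⟩ := hG
    refine ⟨c, c⁻¹, IsConj.refl c, hreal, ?_⟩
    rw [mul_inv_cancel, QuotientGroup.mk_one, QuotientGroup.eq_one_iff]
    exact mem_center_of_scalar hs
  push Not at hG
  obtain ⟨H, hGH, hd1, hns⟩ := exists_det_one_block (by omega) (by rw [Fintype.card_fin]; omega) G hG
  obtain ⟨y, z, ε, hy, hz, hM, -⟩ := two_class hm hns (cyc_inv hA (mul_nonsing_inv A (det_unit hdet))) hA hsr
    (by rw [hd1, ← det_mul, nonsing_inv_mul A (det_unit hdet), det_one]) (by rw [hd1]; exact one_ne_zero)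
    (δ₁ := 1) (δ₂ := 1) one_ne_zero one_ne_zero
  obtain ⟨U, U', hU, -, rfl⟩ := hy
  obtain ⟨V, V', hV, -, rfl⟩ := hz
  have hyd : (U * A⁻¹ * U').det ≠ 0 := by
    rw [Matrix.det_conj_of_mul_eq_one hU (mul_eq_one_comm.1 hU)]; exact det_inv_ne hdet
  have hzd : (V * A * V').det ≠ 0 := by
    rw [Matrix.det_conj_of_mul_eq_one hV (mul_eq_one_comm.1 hV)]; exact hdet
  have hyG : Good (U * A⁻¹ * U') := by
    rw [← inv_eq_right_inv hU]; exact (hgood.inv hdet).conj (det_ne_zero_of_right_inverse hU)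
  have hzG : Good (V * A * V') := by
    rw [← inv_eq_right_inv hV]; exact hgood.conj (det_ne_zero_of_right_inverse hV)
  obtain ⟨C, T, hC, hT, hdec⟩ := exists_decomp_i H.2 (by
    rw [show (H : Matrix (Fin m ⊕ Fin m) (Fin m ⊕ Fin m) F).toBlocks₁₁.det = 1 from hd1]; exact one_ne_zero)
  obtain ⟨h₁, e₁⟩ := exists_conj_low hyd hyG hC
  obtain ⟨h₂, e₂⟩ := exists_conj_up hzd hzG hT
  obtain ⟨X, hX⟩ : ∃ X : Matrix.symplecticGroup (Fin m) F, X = mk' (lowi C) (lowi_mem hC) * dgS _ hyd := ⟨_, rfl⟩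
  obtain ⟨Y, hY⟩ : ∃ Y : Matrix.symplecticGroup (Fin m) F, Y = dgS _ hzd * mk' (upi T) (upi_mem hT) := ⟨_, rfl⟩
  have hcX : IsConj c X := by
    refine (hreal.trans ?_).trans (isConj_of_intertwine (h := h₁) (X := dgS _ hyd) ?_)
    · rw [hc, dgS_inv]
      exact isConj_dgS_sim _ hU hyd
    · rw [hX]
      exact e₁
  have hcY : IsConj c Y := by
    refine IsConj.trans ?_ (isConj_of_intertwine (h := h₂) (X := dgS _ hzd) ?_)
    · rw [hc]
      exact isConj_dgS_sim _ hV hzd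
    · rw [hY]
      exact e₂
  have hH : H = X * Y := by
    refine Subtype.ext ?_
    rw [hX, hY]
    show (H : Matrix (Fin m ⊕ Fin m) (Fin m ⊕ Fin m) F) = lowi C * dgi _ * (dgi _ * upi T)
    rw [hdec, show (H : Matrix (Fin m ⊕ Fin m) (Fin m ⊕ Fin m) F).toBlocks₁₁ = _ from hM, ← dgi_mul]
    simp only [Matrix.mul_assoc]
  obtain ⟨w, hw⟩ := isConj_iff.1 hGH
  refine ⟨w⁻¹ * X * w, w⁻¹ * Y * w, hcX.trans (isConj_iff.2 ⟨w⁻¹, by rw [inv_inv]⟩),
    hcY.trans (isConj_iff.2 ⟨w⁻¹, by rw [inv_inv]⟩), congrArg _ ?_⟩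
  calc G = w⁻¹ * (w * G * w⁻¹) * w := by group
    _ = w⁻¹ * (X * Y) * w := by rw [hw, hH]
    _ = _ := by group

end CfsgLib.Lie.ClassSquare
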